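import Mathlib

/-!
The determinant of an involution, and the parity of the inverted part of an elementary abelian normal subgroup.
-/

set_option autoImplicit false

namespace CfsgLib.Pyramidal

universe u

/-- The determinant of an involution in odd characteristic. -/
theorem det_involution {K : Type*} {M : Type*} [Field K] [AddCommGroup M] [Module K M] [FiniteDimensional K M]
    (h2 : (2 : K) ≠ 0) (e : M →ₗ[K] M) (he : ∀ x, e (e x) = x) :
    LinearMap.det e = (-1) ^ Module.finrank K (LinearMap.ker (e + LinearMap.id)) := by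
  set U := LinearMap.ker (e - LinearMap.id) with hU
  set W := LinearMap.ker (e + LinearMap.id) with hW
  have hc : IsCompl U W := by
    refine IsCompl.of_eq (eq_bot_iff.mpr fun x hx => ?_) (eq_top_iff.mpr fun x _ => ?_)
    · obtain ⟨h1, h3⟩ := Submodule.mem_inf.mp hx
      rw [hU, LinearMap.mem_ker, LinearMap.sub_apply, LinearMap.id_apply, sub_eq_zero] at h1
      rw [hW, LinearMap.mem_ker, LinearMap.add_apply, LinearMap.id_apply, h1, ← two_smul K x, smul_eq_zero] at h3
      exact (Submodule.mem_bot K).mpr (h3.resolve_left h2)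
    · refine Submodule.mem_sup.mpr ⟨(2 : K)⁻¹ • (x + e x), ?_, (2 : K)⁻¹ • (x - e x), ?_, ?_⟩
      · rw [hU, LinearMap.mem_ker, LinearMap.sub_apply, LinearMap.id_apply, map_smul, map_add, he, add_comm (e x),
          sub_self]
      · rw [hW, LinearMap.mem_ker, LinearMap.add_apply, LinearMap.id_apply, map_smul, map_sub, he, ← smul_add,
          sub_add_sub_cancel, sub_self, smul_zero]
      · rw [← smul_add, add_add_sub_cancel, ← two_smul K x, smul_smul, inv_mul_cancel₀ h2, one_smul]
  set ψ := Submodule.prodEquivOfIsCompl U W hc with hψ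
  have heq : e = (ψ : (U × W) →ₗ[K] M) ∘ₗ LinearMap.prodMap LinearMap.id ((-1 : K) • LinearMap.id) ∘ₗ
      (ψ.symm : M →ₗ[K] U × W) := by
    refine LinearMap.ext fun x => ?_
    obtain ⟨⟨a, b⟩, rfl⟩ := ψ.surjective x
    rw [LinearMap.comp_apply, LinearMap.comp_apply, LinearEquiv.coe_coe, LinearEquiv.coe_coe,
      LinearEquiv.symm_apply_apply, LinearMap.prodMap_apply, LinearMap.smul_apply, LinearMap.id_apply,
      LinearMap.id_apply, hψ, Submodule.coe_prodEquivOfIsCompl' U W hc, Submodule.coe_prodEquivOfIsCompl' U W hc,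
      map_add, neg_smul, one_smul]
    have h1 : e (a : M) = a := by
      have := LinearMap.mem_ker.mp a.2
      rwa [LinearMap.sub_apply, LinearMap.id_apply, sub_eq_zero] at this
    have h3 : e (b : M) = -(b : M) := by
      have := LinearMap.mem_ker.mp b.2
      rwa [LinearMap.add_apply, LinearMap.id_apply, add_eq_zero_iff_eq_neg] at this
    rw [h1, h3]
    simp
  rw [heq, LinearMap.det_conj, LinearMap.det_prodMap, LinearMap.det_id, one_mul, LinearMap.det_smul,
    LinearMap.det_id, mul_one]

variable {G : Type u} [Group G]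

/-- The elements of an abelian subgroup inverted by `t`. -/
def invPart (N : Subgroup G) (hab : ∀ a ∈ N, ∀ b ∈ N, a * b = b * a) (t : G) : Subgroup G where
  carrier := {x | x ∈ N ∧ t * x * t⁻¹ = x⁻¹}
  one_mem' := ⟨one_mem N, by group⟩
  mul_mem' := fun {a b} ha hb => ⟨mul_mem ha.1 hb.1, by
    rw [show t * (a * b) * t⁻¹ = t * a * t⁻¹ * (t * b * t⁻¹) by group, ha.2, hb.2,
      hab _ (inv_mem ha.1) _ (inv_mem hb.1), mul_inv_rev]⟩
  inv_mem' := fun {a} ha => ⟨inv_mem ha.1, by rw [← conj_inv, ha.2]⟩

variable {N : Subgroup G} {hab : ∀ a ∈ N, ∀ b ∈ N, a * b = b * a}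

theorem mem_invPart {t x : G} : x ∈ invPart N hab t ↔ x ∈ N ∧ t * x * t⁻¹ = x⁻¹ := Iff.rfl

theorem invPart_le (t : G) : invPart N hab t ≤ N := fun _ hx => hx.1

/-- An involution acting with determinant one inverts a part of even rank. -/
theorem even_rank_aux {A : Type*} [CommGroup A] [Finite A] {p : ℕ} [Fact p.Prime] [Module (ZMod p) (Additive A)]
    (hp2 : p ≠ 2) (χ : G →* MulAut A) {t : G} (ht : t * t = 1) (htc : t ∈ commutator G) {j : ℕ}
    (hj : Nat.card {x : A // χ t x = x⁻¹} = p ^ j) : Even j := by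
  haveI : Module.Finite (ZMod p) (Additive A) := Module.Finite.of_finite
  let L : G →* Module.End (ZMod p) (Additive A) :=
    { toFun := fun g => (MonoidHom.toAdditive (χ g).toMonoidHom).toZModLinearMap p
      map_one' := LinearMap.ext fun a => Additive.toMul.injective (MulEquiv.congr_fun (map_one χ) a.toMul)
      map_mul' := fun g h => LinearMap.ext fun a =>
        Additive.toMul.injective (MulEquiv.congr_fun (map_mul χ g h) a.toMul) }
  have hdet : LinearMap.det (L t) = 1 :=
    congrArg Units.val (MonoidHom.mem_ker.mp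
      (Abelianization.commutator_subset_ker ((LinearMap.det.comp L).toHomUnits) htc))
  have hsq : ∀ a, L t (L t a) = a := fun a => by
    rw [← Module.End.mul_apply, ← map_mul, ht, map_one, Module.End.one_apply]
  have h2 : (2 : ZMod p) ≠ 0 := by
    intro e
    have h3 : p ∣ 2 := (ZMod.natCast_eq_zero_iff 2 p).mp (by exact_mod_cast e)
    exact hp2 ((Nat.prime_dvd_prime_iff_eq Fact.out Nat.prime_two).mp h3)
  rw [det_involution h2 _ hsq] at hdet
  have hcard : Nat.card (LinearMap.ker (L t + LinearMap.id)) = p ^ j := by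
    rw [← hj]
    refine Nat.card_congr (Additive.toMul.subtypeEquiv fun a => ?_)
    rw [LinearMap.mem_ker, LinearMap.add_apply, LinearMap.id_apply, add_eq_zero_iff_eq_neg]
    exact Iff.rfl
  rw [Module.natCard_eq_pow_finrank (K := ZMod p), Nat.card_zmod] at hcard
  rw [Nat.pow_right_injective (Fact.out : p.Prime).two_le hcard] at hdet
  by_contra hodd
  rw [(Nat.not_even_iff_odd.mp hodd).neg_one_pow] at hdet
  exact h2 (by linear_combination (-hdet))

/-- If `t` lies in the derived subgroup the inverted part has even rank. -/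
theorem even_rank [Finite G] [N.Normal] {p : ℕ} [Fact p.Prime] (hp2 : p ≠ 2) (hexp : ∀ x ∈ N, x ^ p = 1) {t : G}
    (ht : t * t = 1) (htc : t ∈ commutator G) {j : ℕ} (hj : Nat.card (invPart N hab t) = p ^ j) : Even j := by
  letI : CommGroup N :=
    { (inferInstance : Group N) with mul_comm := fun a b => Subtype.ext (hab a a.2 b b.2) }
  letI : Module (ZMod p) (Additive N) := AddCommGroup.zmodModule fun a =>
    Subtype.ext (hexp _ (Additive.toMul a : N).2)
  refine even_rank_aux hp2 (MulAut.conjNormal (H := N)) ht htc ?_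
  rw [← hj]
  exact Nat.card_congr
    { toFun := fun x => ⟨((x.1 : N) : G), x.1.2, congrArg (fun z : N => (z : G)) x.2⟩
      invFun := fun x => ⟨⟨x, x.2.1⟩, Subtype.ext x.2.2⟩
      left_inv := fun _ => rfl
      right_inv := fun _ => rfl }

end CfsgLib.Pyramidal
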