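import Cfsg.Agent.Lib.Pyramidal.TransvTools

/-!
An extension of an abelian 2-group `T` by `GL(W)`, `dim W ≥ 3`, where the involutions of `T` form `W`, has an
involution outside `T`.
-/

set_option autoImplicit false

namespace CfsgLib.Pyramidal

universe u v

variable {G : Type u} [Group G] [Finite G] {W : Type v} [AddCommGroup W] [Module (ZMod 2) W] [Finite W]

/-- An abelian extension in which all involutions are `ι W`. -/
structure AbExt (ψ : G →* (W ≃ₗ[ZMod 2] W)) (ι : W → G) : Prop where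
  surj : Function.Surjective ψ
  pgroup : IsPGroup 2 ψ.ker
  comm : ∀ s t : G, ψ s = 1 → ψ t = 1 → s * t = t * s
  inj : Function.Injective ι
  add : ∀ a b, ι (a + b) = ι a * ι b
  inv : ∀ x : G, x * x = 1 ↔ ∃ w, ι w = x
  conj : ∀ (g : G) (w : W), g * ι w * g⁻¹ = ι (ψ g w)

variable {ψ : G →* (W ≃ₗ[ZMod 2] W)} {ι : W → G} (X : AbExt ψ ι)

/-- `y` of order dividing four over the axis of `(f, a)` is moved by at most the centre. -/
def Central4 (ψ : G →* (W ≃ₗ[ZMod 2] W)) (ι : W → G) (f : Module.Dual (ZMod 2) W) (a : W) (h : f a = 0) : Prop :=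
  ∀ g : G, ψ g = tv f a h → ∀ y : G, ψ y = 1 → ∀ v, y * y = ι v → f v = 0 →
    ∀ d, g * y * g⁻¹ = y * ι d → d ∈ Submodule.span (ZMod 2) ({a} : Set W)

include X

theorem AbExt.zero : ι 0 = 1 := by
  have e := X.add 0 0
  rw [add_zero] at e
  exact left_eq_mul.mp e

theorem AbExt.ker_iota (w : W) : ψ (ι w) = 1 := LinearEquiv.ext fun z => X.inj (by
  rw [← X.conj, ← X.add w z, add_comm, X.add, mul_inv_cancel_right]
  rfl)

theorem AbExt.iota_inv (w : W) : (ι w)⁻¹ = ι w :=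
  inv_eq_of_mul_eq_one_right ((X.inv _).mpr ⟨w, rfl⟩)

theorem AbExt.ker_conj {y : G} (hy : ψ y = 1) (g : G) : ψ (g * y * g⁻¹) = 1 := by
  rw [map_mul, map_mul, hy, mul_one, ← map_mul, mul_inv_cancel, map_one]

theorem AbExt.act_eq {g g' y : G} (e : ψ g = ψ g') (hy : ψ y = 1) : g * y * g⁻¹ = g' * y * g'⁻¹ := by
  have h1 : ψ (g⁻¹ * g') = 1 := by rw [map_mul, map_inv, e, inv_mul_cancel]
  calc g * y * g⁻¹ = g * ((g⁻¹ * g') * y * (g⁻¹ * g')⁻¹) * g⁻¹ := by
        rw [X.comm _ y h1 hy, mul_inv_cancel_right]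
    _ = g' * y * g'⁻¹ := by group

theorem AbExt.mul_sq {s t : G} (hs : ψ s = 1) (ht : ψ t = 1) : s * t * (s * t) = s * s * (t * t) := by
  rw [mul_assoc s t, ← mul_assoc t s t, ← X.comm s t hs ht]; group

theorem AbExt.sq_conj {y : G} {v : W} (hv : y * y = ι v) (g : G) :
    g * y * g⁻¹ * (g * y * g⁻¹) = ι (ψ g v) := by
  rw [show g * y * g⁻¹ * (g * y * g⁻¹) = g * (y * y) * g⁻¹ by group, hv, X.conj]

/-- Elements of `T` with equal squares differ by an element of `ι W`. -/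
theorem AbExt.eq_mul_iota {y z : G} (hy : ψ y = 1) (hz : ψ z = 1) (e : y * y = z * z) : ∃ u, z = y * ι u := by
  have hyi : ψ y⁻¹ = 1 := by rw [map_inv, hy, inv_one]
  obtain ⟨u, hu⟩ := (X.inv _).mp (show y⁻¹ * z * (y⁻¹ * z) = 1 by rw [X.mul_sq hyi hz, ← e]; group)
  exact ⟨u, by rw [hu, mul_inv_cancel_left]⟩

theorem AbExt.exists_delta {f : Module.Dual (ZMod 2) W} {a : W} {h : f a = 0} {g : G} (hg : ψ g = tv f a h)
    {y : G} (hy : ψ y = 1) {v : W} (hv : y * y = ι v) (hfv : f v = 0) : ∃ d, g * y * g⁻¹ = y * ι d := by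
  refine X.eq_mul_iota hy (X.ker_conj hy g) ?_
  rw [X.sq_conj hv, hg, tv_fix hfv, hv]

theorem AbExt.exists_sqrt (h4 : ∃ y : G, ψ y = 1 ∧ y * y ≠ 1) (v : W) : ∃ y : G, ψ y = 1 ∧ y * y = ι v := by
  obtain ⟨y₀, hy₀, hne⟩ := h4
  obtain ⟨n, hn⟩ := X.pgroup ⟨y₀, MonoidHom.mem_ker.mpr hy₀⟩
  have hn' : y₀ ^ 2 ^ n = 1 := congrArg Subtype.val hn
  have key : ∀ (n : ℕ) (y : G), ψ y = 1 → y ^ 2 ^ n = 1 → y * y ≠ 1 →
      ∃ z : G, ψ z = 1 ∧ z * z ≠ 1 ∧ z * z * (z * z) = 1 := by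
    intro n
    induction n with
    | zero => intro y _ e hne; rw [pow_zero, pow_one] at e; rw [e, one_mul] at hne; exact absurd rfl hne
    | succ n ih =>
      intro y hy e hne
      by_cases h2 : y * y * (y * y) = 1
      · exact ⟨y, hy, hne, h2⟩
      · exact ih (y * y) (by rw [map_mul, hy, one_mul]) (by rw [← pow_two, ← pow_mul, ← pow_succ']; exact e) h2
  obtain ⟨z, hz, hz1, hz2⟩ := key n y₀ hy₀ hn' hne
  obtain ⟨w, hw⟩ := (X.inv _).mp hz2
  by_cases hv : v = 0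
  · exact ⟨1, map_one ψ, by rw [hv, X.zero, one_mul]⟩
  obtain ⟨t, ht⟩ := exists_map hv (show w ≠ 0 from fun e => hz1 (by rw [← hw, e, X.zero]))
  obtain ⟨g, rfl⟩ := X.surj t
  exact ⟨g * z * g⁻¹, X.ker_conj hz g, by rw [X.sq_conj hw.symm, ht]⟩

/-- Transport of `Central4` along the axis. -/
theorem AbExt.central_transport {f : Module.Dual (ZMod 2) W} {a b : W} {ha : f a = 0} {hb : f b = 0}
    (ha0 : a ≠ 0) (hb0 : b ≠ 0) (hab : a ≠ b) (Z : Central4 ψ ι f a ha) : Central4 ψ ι f b hb := by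
  intro g hg y hy v hv hfv d hd
  have hnm : a ∉ Submodule.span (ZMod 2) ({a + b} : Set W) := fun hm => by
    obtain ⟨c, hc⟩ := Submodule.mem_span_singleton.mp hm
    rcases two_cases c with rfl | rfl
    · rw [zero_smul] at hc; exact ha0 hc.symm
    · rw [one_smul] at hc; exact hb0 (add_eq_left.mp hc)
  obtain ⟨φ, hφ, hφa⟩ := exists_dual _ hnm
  have hφc := hφ _ (Submodule.mem_span_singleton_self (a + b))
  have hφb : φ b = 1 := by
    rw [map_add, hφa] at hφc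
    rw [← eq_of_add_eq_zero hφc]
  set t := tv φ (a + b) hφc with ht
  obtain ⟨n, hn⟩ := X.surj t
  have hti : (t⁻¹ : W ≃ₗ[ZMod 2] W) = t := tv_inv _ _ _
  have tb : t b = a := by rw [ht, tv_move hφb, add_comm a b, ← add_assoc, add_self, zero_add]
  have tf : ∀ w, f (t w) = f w := fun w => by
    rw [ht, tv_apply, map_add, map_smul, map_add, ha, hb, add_zero, smul_zero, add_zero]
  have hg' : ψ (n * g * n⁻¹) = tv f a ha := by
    rw [map_mul, map_mul, map_inv, hn, hg]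
    refine LinearEquiv.ext fun w => ?_
    have htt : t (t w) = w := by rw [← LinearEquiv.mul_apply, ht, tv_mul_self]; rfl
    rw [hti, LinearEquiv.mul_apply, LinearEquiv.mul_apply, tv_apply f b, map_add, map_smul, tb, htt, tf,
      tv_apply f a]
  have hd' : n * g * n⁻¹ * (n * y * n⁻¹) * (n * g * n⁻¹)⁻¹ = n * y * n⁻¹ * ι (t d) := by
    rw [show n * g * n⁻¹ * (n * y * n⁻¹) * (n * g * n⁻¹)⁻¹ = n * (g * y * g⁻¹) * n⁻¹ by group, hd, ← hn, ← X.conj]
    group
  have h1 := Z (n * g * n⁻¹) hg' (n * y * n⁻¹) (X.ker_conj hy n) (t v) (by rw [X.sq_conj hv, hn])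
    (by rw [tf, hfv]) (t d) hd'
  obtain ⟨c, hc⟩ := Submodule.mem_span_singleton.mp h1
  have e := congrArg t hc
  rw [map_smul, ← LinearEquiv.mul_apply t t, ht, tv_mul_self] at e
  refine Submodule.mem_span_singleton.mpr ⟨c, ?_⟩
  have ta : t a = b := by rw [ht, tv_move hφa, ← add_assoc, add_self, zero_add]
  rw [← ht, ta] at e
  exact e

/-- `Central4` fails for every transvection. -/
theorem AbExt.not_central (h3 : 3 ≤ Module.finrank (ZMod 2) W) (h4 : ∃ y : G, ψ y = 1 ∧ y * y ≠ 1)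
    {f : Module.Dual (ZMod 2) W} {a : W} {ha : f a = 0} (ha0 : a ≠ 0) (hf0 : f ≠ 0) : ¬ Central4 ψ ι f a ha := by
  intro Za
  have hk := finrank_ker_ge f
  obtain ⟨b, hb, hbn⟩ := exists_notMem_of_finrank_lt (U := Submodule.span (ZMod 2) ({a} : Set W))
    (X := LinearMap.ker f) (by rw [finrank_span_singleton ha0]; omega)
  rw [LinearMap.mem_ker] at hb
  have hab : a ≠ b := fun e => hbn (e ▸ Submodule.mem_span_singleton_self a)
  have hb0 : b ≠ 0 := fun e => hbn (e ▸ Submodule.zero_mem _)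
  have hab0 : a + b ≠ 0 := fun e => hab (eq_of_add_eq_zero e)
  have Zb : Central4 ψ ι f b hb := X.central_transport ha0 hb0 hab Za
  have Zc : Central4 ψ ι f (a + b) (by rw [map_add, ha, hb, add_zero]) :=
    X.central_transport ha0 hab0 (fun e => hb0 (left_eq_add.mp e)) Za
  obtain ⟨ga, hga⟩ := X.surj (tv f a ha)
  obtain ⟨gb, hgb⟩ := X.surj (tv f b hb)
  obtain ⟨u, hu⟩ : ∃ u, f u = 1 := by
    by_contra hall
    push Not at hall
    exact hf0 (LinearMap.ext fun w => (two_cases (f w)).resolve_right (hall w))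
  obtain ⟨z, hz, hzz⟩ := X.exists_sqrt h4 u
  -- the standard fourth root
  have std : ∀ (c : W) (hc : f c = 0) (g : G), ψ g = tv f c hc →
      ∃ y, ψ y = 1 ∧ g * z * g⁻¹ = z * y ∧ y * y = ι c ∧ g * y * g⁻¹ = y * ι c := by
    intro c hc g hg
    have hy : ψ (z⁻¹ * (g * z * g⁻¹)) = 1 := by rw [map_mul, map_inv, hz, X.ker_conj hz, inv_one, one_mul]
    have hsq : z⁻¹ * (g * z * g⁻¹) * (z⁻¹ * (g * z * g⁻¹)) = ι c := by
      rw [X.mul_sq (by rw [map_inv, hz, inv_one]) (X.ker_conj hz g), X.sq_conj hzz, ← mul_inv_rev, hzz, X.iota_inv,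
        ← X.add, hg, tv_move hu, ← add_assoc, add_self, zero_add]
    refine ⟨_, hy, (mul_inv_cancel_left z _).symm, hsq, ?_⟩
    have hgg : ψ (g * g) = 1 := by rw [map_mul, hg, tv_mul_self]
    rw [← hsq]
    calc g * (z⁻¹ * (g * z * g⁻¹)) * g⁻¹ = (g * z * g⁻¹)⁻¹ * ((g * g) * z * (g * g)⁻¹) := by group
      _ = (z⁻¹ * (g * z * g⁻¹))⁻¹ := by
        rw [X.comm _ z hgg hz, mul_inv_cancel_right]; group
      _ = z⁻¹ * (g * z * g⁻¹) * (z⁻¹ * (g * z * g⁻¹) * (z⁻¹ * (g * z * g⁻¹))) := by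
        have h2 : z⁻¹ * (g * z * g⁻¹) * (z⁻¹ * (g * z * g⁻¹)) * (z⁻¹ * (g * z * g⁻¹) * (z⁻¹ * (g * z * g⁻¹))) = 1 := by
          rw [hsq]; exact (X.inv _).mpr ⟨c, rfl⟩
        exact inv_eq_of_mul_eq_one_right (by rw [← mul_assoc]; exact h2)
  obtain ⟨ya, hya, hza, hsa, hda⟩ := std a ha ga hga
  obtain ⟨yb, hyb, hzb, hsb, hdb⟩ := std b hb gb hgb
  -- the cross defects
  have cross : ∀ (p q : W) (hp : f p = 0) (hq : f q = 0) (gp gq yp : G), ψ gp = tv f p hp → ψ gq = tv f q hq →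
      Central4 ψ ι f q hq → Central4 ψ ι f (p + q) (by rw [map_add, hp, hq, add_zero]) →
      p ≠ 0 → q ≠ 0 → ψ yp = 1 → yp * yp = ι p → gp * yp * gp⁻¹ = yp * ι p →
      gq * yp * gq⁻¹ = yp * ι q := by
    intro p q hp hq gp gq yp hgp hgq Zq Zpq hp0 hq0 hyp hsp hdp
    obtain ⟨d, hd⟩ := X.exists_delta hgq hyp hsp hp
    have hdq := Zq gq hgq yp hyp p hsp hp d hd
    have hfd : f d = 0 := by
      obtain ⟨c, rfl⟩ := Submodule.mem_span_singleton.mp hdq
      rw [map_smul, hq, smul_zero]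
    have hpd : p + d ∈ Submodule.span (ZMod 2) ({p + q} : Set W) := by
      refine Zpq (gp * gq) (by rw [map_mul, hgp, hgq, tv_mul]) yp hyp p hsp hp (p + d) ?_
      rw [show gp * gq * yp * (gp * gq)⁻¹ = gp * (gq * yp * gq⁻¹) * gp⁻¹ by group, hd,
        show gp * (yp * ι d) * gp⁻¹ = (gp * yp * gp⁻¹) * (gp * ι d * gp⁻¹) by group, hdp, X.conj, hgp, tv_fix hfd,
        mul_assoc, ← X.add]
    obtain ⟨c, hc⟩ := Submodule.mem_span_singleton.mp hdq
    rcases two_cases c with rfl | rfl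
    · exfalso
      rw [zero_smul] at hc
      rw [← hc, add_zero] at hpd
      obtain ⟨c', hc'⟩ := Submodule.mem_span_singleton.mp hpd
      rcases two_cases c' with rfl | rfl
      · rw [zero_smul] at hc'; exact hp0 hc'.symm
      · rw [one_smul] at hc'
        exact hq0 (add_eq_left.mp hc')
    · rw [one_smul] at hc
      rw [hd, hc]
  have xa := cross a b ha hb ga gb ya hga hgb Zb Zc ha0 hb0 hya hsa hda
  have xb := cross b a hb ha gb ga yb hgb hga Za (by simpa only [add_comm b a] using Zc) hb0 ha0 hyb hsb hdb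
  have e1 : ga * gb * z * (ga * gb)⁻¹ = z * ya * yb * ι a := by
    rw [show ga * gb * z * (ga * gb)⁻¹ = ga * (gb * z * gb⁻¹) * ga⁻¹ by group, hzb,
      show ga * (z * yb) * ga⁻¹ = (ga * z * ga⁻¹) * (ga * yb * ga⁻¹) by group, hza, xb]
    group
  have e2 : gb * ga * z * (gb * ga)⁻¹ = z * yb * ya * ι b := by
    rw [show gb * ga * z * (gb * ga)⁻¹ = gb * (ga * z * ga⁻¹) * gb⁻¹ by group, hza,
      show gb * (z * ya) * gb⁻¹ = (gb * z * gb⁻¹) * (gb * ya * gb⁻¹) by group, hzb, xa]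
    group
  have e3 := X.act_eq (g := ga * gb) (g' := gb * ga) (y := z)
    (by rw [map_mul, map_mul, hga, hgb, tv_mul, tv_mul]; congr 1; exact add_comm a b) hz
  rw [e1, e2, mul_assoc z ya yb, X.comm ya yb hya hyb, ← mul_assoc] at e3
  exact hab (X.inj (mul_left_cancel e3))

end CfsgLib.Pyramidal
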