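import Cfsg.Agent.Lib.Pyramidal.AbelianExt

/-!
An abelian 2-group with involutions `W` has no extension by `GL(W)`, `dim W ≥ 3`, without further involutions.
-/

set_option autoImplicit false

namespace CfsgLib.Pyramidal

universe u v

variable {G : Type u} [Group G] [Finite G] {W : Type v} [AddCommGroup W] [Module (ZMod 2) W] [Finite W]
variable {ψ : G →* (W ≃ₗ[ZMod 2] W)} {ι : W → G} (X : AbExt ψ ι)

include X

theorem AbExt.tv_ne_one {f : Module.Dual (ZMod 2) W} {a : W} {h : f a = 0} (ha : a ≠ 0) {u : W} (hu : f u = 1) :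
    tv f a h ≠ 1 := fun e => ha (add_eq_left.mp ((tv_move (h := h) hu).symm.trans (LinearEquiv.congr_fun e u)))

theorem AbExt.sq_adjust {g : G} {t : W ≃ₗ[ZMod 2] W} (hg : ψ g = t) (htt : t * t = 1) (u : W) :
    g * ι u * (g * ι u) = g * g * ι (t u + u) := by
  have ht : (ψ g⁻¹) = t := by rw [map_inv, hg]; exact inv_eq_of_mul_eq_one_right htt
  rw [show g * ι u * (g * ι u) = g * g * (g⁻¹ * ι u * g⁻¹⁻¹ * ι u) by group, X.conj, ht, ← X.add]

/-- A lift of a transvection cannot square into the centre. -/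
theorem AbExt.no_lift {f : Module.Dual (ZMod 2) W} {a : W} {h : f a = 0} (ha : a ≠ 0) (hf : f ≠ 0) {g : G}
    (hg : ψ g = tv f a h) {c : W} (hc : g * g = ι c) (hcm : c ∈ Submodule.span (ZMod 2) ({a} : Set W)) : False := by
  obtain ⟨u, hu⟩ : ∃ u, f u = 1 := by
    by_contra hall
    push Not at hall
    exact hf (LinearMap.ext fun w => (two_cases (f w)).resolve_right (hall w))
  have key : ∀ g' : G, ψ g' = tv f a h → g' * g' ≠ 1 := fun g' hg' e => by
    obtain ⟨w, hw⟩ := (X.inv g').mp e
    rw [← hw, X.ker_iota] at hg'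
    exact X.tv_ne_one ha hu hg'.symm
  obtain ⟨k, rfl⟩ := Submodule.mem_span_singleton.mp hcm
  rcases two_cases k with rfl | rfl
  · rw [zero_smul, X.zero] at hc
    exact key g hg hc
  · rw [one_smul] at hc
    refine key (g * ι u) (by rw [map_mul, X.ker_iota, mul_one, hg]) ?_
    rw [X.sq_adjust hg (tv_mul_self _ _ _), tv_move hu, hc, ← X.add,
      show a + (u + a + u) = (a + a) + (u + u) by abel, add_self, add_self, add_zero, X.zero]

/-- In dimension at least four `T` is elementary abelian. -/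
theorem AbExt.exponent_two (h4 : 4 ≤ Module.finrank (ZMod 2) W) (y : G) (hy : ψ y = 1) : y * y = 1 := by
  by_contra hyy
  have hex : ∃ y : G, ψ y = 1 ∧ y * y ≠ 1 := ⟨y, hy, hyy⟩
  obtain ⟨a, ha⟩ : ∃ a : W, a ≠ 0 := by
    obtain ⟨a, -, ha⟩ := exists_notMem_of_finrank_lt (U := (⊥ : Submodule (ZMod 2) W)) (X := ⊤)
      (by rw [finrank_bot, finrank_top]; omega)
    exact ⟨a, fun e => ha (e ▸ Submodule.zero_mem _)⟩
  obtain ⟨x, -, hx⟩ := exists_notMem_of_finrank_lt (U := Submodule.span (ZMod 2) ({a} : Set W)) (X := ⊤)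
    (by rw [finrank_span_singleton ha, finrank_top]; omega)
  obtain ⟨f, hf, hfx⟩ := exists_dual _ hx
  have hfa := hf a (Submodule.mem_span_singleton_self a)
  have hfne : f ≠ 0 := fun e => by rw [e] at hfx; exact zero_ne_one hfx
  -- the defect lies in the span of the centre and the square
  have near : ∀ (f : Module.Dual (ZMod 2) W) (a : W) (ha' : f a = 0), a ≠ 0 → f ≠ 0 → ∀ g : G, ψ g = tv f a ha' →
      ∀ y : G, ψ y = 1 → ∀ v, y * y = ι v → f v = 0 → ∀ d, g * y * g⁻¹ = y * ι d →
        d ∈ Submodule.span (ZMod 2) ({a, v} : Set W) := by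
    intro f a ha' ha0 hf0 g hg y hy v hv hfv d hd
    by_contra hdn
    obtain ⟨f', hf', hf'd⟩ := exists_dual _ hdn
    have f'a : f' a = 0 := hf' a (Submodule.subset_span (Set.mem_insert a _))
    have f'v : f' v = 0 := hf' v (Submodule.subset_span (Set.mem_insert_of_mem _ rfl))
    have hdim : Module.finrank (ZMod 2) (Submodule.span (ZMod 2) ({a} : Set W)) <
        Module.finrank (ZMod 2) ↥(LinearMap.ker f ⊓ LinearMap.ker f') := by
      have h1 := finrank_ker_ge f
      have h2 := finrank_ker_ge f'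
      have h3 := Submodule.finrank_sup_add_finrank_inf_eq (LinearMap.ker f) (LinearMap.ker f')
      have h5 := Submodule.finrank_le (LinearMap.ker f ⊔ LinearMap.ker f')
      rw [finrank_span_singleton ha0]
      omega
    obtain ⟨c, hc, hca⟩ := exists_notMem_of_finrank_lt hdim
    obtain ⟨hfc, hf'c⟩ := Submodule.mem_inf.mp hc
    rw [LinearMap.mem_ker] at hfc hf'c
    set t := tv f' c hf'c with ht
    have htt : ∀ w, t (t w) = w := fun w => by rw [← LinearEquiv.mul_apply, ht, tv_mul_self]; rfl
    obtain ⟨n, hn⟩ := X.surj t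
    have hg' : ψ (n * g * n⁻¹) = ψ g := by
      rw [map_mul, map_mul, map_inv, hn, hg, show (t⁻¹ : W ≃ₗ[ZMod 2] W) = t from tv_inv _ _ _]
      refine LinearEquiv.ext fun w => ?_
      rw [LinearEquiv.mul_apply, LinearEquiv.mul_apply, tv_apply f a, map_add, map_smul, htt, ht, tv_fix f'a,
        tv_apply f' c, map_add, map_smul, hfc, smul_zero, add_zero, ← tv_apply f a ha' w]
    have hy' := X.ker_conj hy n
    obtain ⟨u, hu⟩ := X.eq_mul_iota hy hy' (by rw [hv, X.sq_conj hv, hn, ht, tv_fix f'v])
    have e1 : g * (n * y * n⁻¹) * g⁻¹ = n * y * n⁻¹ * ι (t d) := by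
      rw [X.act_eq hg'.symm hy', show n * g * n⁻¹ * (n * y * n⁻¹) * (n * g * n⁻¹)⁻¹ = n * (g * y * g⁻¹) * n⁻¹ by group,
        hd, ← hn, ← X.conj]
      group
    have e2 : g * (n * y * n⁻¹) * g⁻¹ = y * ι (d + tv f a ha' u) := by
      rw [hu, show g * (y * ι u) * g⁻¹ = (g * y * g⁻¹) * (g * ι u * g⁻¹) by group, hd, X.conj, hg, mul_assoc, ← X.add]
    rw [e2, hu, mul_assoc, ← X.add, mul_right_inj] at e1
    have e3 := X.inj e1
    rw [ht, tv_move hf'd, tv_apply] at e3
    have e4 : c = f u • a := by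
      have e5 := congrArg (fun w => w + (d + u)) e3
      rwa [show d + (u + f u • a) + (d + u) = f u • a + ((d + d) + (u + u)) by abel,
        show u + (d + c) + (d + u) = c + ((d + d) + (u + u)) by abel, add_self, add_self, add_zero, add_zero,
        add_zero, eq_comm] at e5
    exact hca (e4 ▸ Submodule.smul_mem _ _ (Submodule.mem_span_singleton_self a))
  -- hence the defect is central
  refine X.not_central (h3 := by omega) hex ha hfne (ha := hfa) fun g hg y hy v hv hfv d hd => ?_
  by_contra hdn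
  have hva : v ∉ Submodule.span (ZMod 2) ({a} : Set W) := fun hm => hdn (by
    refine Submodule.span_le.mpr ?_ (near f a hfa ha hfne g hg y hy v hv hfv d hd)
    rintro w (rfl | rfl)
    · exact Submodule.mem_span_singleton_self _
    · exact hm)
  have hda : d + v ∈ Submodule.span (ZMod 2) ({a} : Set W) := by
    rcases mem_pair.mp (near f a hfa ha hfne g hg y hy v hv hfv d hd) with e | e | e | e
    · exact absurd (by rw [e]; exact Submodule.zero_mem _) hdn
    · exact absurd (by rw [e]; exact Submodule.mem_span_singleton_self a) hdn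
    · rw [e, add_self]; exact Submodule.zero_mem _
    · rw [e, add_assoc, add_self, add_zero]; exact Submodule.mem_span_singleton_self a
  -- transport to another centre on the axis
  have move : ∀ b, f b = 0 → b ≠ 0 → b ≠ a → a ∉ Submodule.span (ZMod 2) ({a + b, v} : Set W) →
      ∀ (hb : f b = 0) (gb : G), ψ gb = tv f b hb → ∀ e, gb * y * gb⁻¹ = y * ι e →
        e + v ∈ Submodule.span (ZMod 2) ({b} : Set W) := by
    intro b hfb hb0 hba hn' hb gb hgb e he
    obtain ⟨φ, hφ, hφa⟩ := exists_dual _ hn'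
    have hφc := hφ _ (Submodule.subset_span (Set.mem_insert (a + b) _))
    have hφv := hφ v (Submodule.subset_span (Set.mem_insert_of_mem _ rfl))
    set t := tv φ (a + b) hφc with ht
    have htt : ∀ w, t (t w) = w := fun w => by rw [← LinearEquiv.mul_apply, ht, tv_mul_self]; rfl
    have ta : t a = b := by rw [ht, tv_move hφa, ← add_assoc, add_self, zero_add]
    have tf : ∀ w, f (t w) = f w := fun w => by
      rw [ht, tv_apply, map_add, map_smul, map_add, hfa, hfb, add_zero, smul_zero, add_zero]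
    obtain ⟨n, hn⟩ := X.surj t
    have hg' : ψ (n * g * n⁻¹) = ψ gb := by
      rw [map_mul, map_mul, map_inv, hn, hg, hgb, show (t⁻¹ : W ≃ₗ[ZMod 2] W) = t from tv_inv _ _ _]
      refine LinearEquiv.ext fun w => ?_
      rw [LinearEquiv.mul_apply, LinearEquiv.mul_apply, tv_apply f a, map_add, map_smul, htt, ta, tf, tv_apply f b]
    have hy' := X.ker_conj hy n
    obtain ⟨u, hu⟩ := X.eq_mul_iota hy hy' (by rw [hv, X.sq_conj hv, hn, ht, tv_fix hφv])
    have e1 : gb * (n * y * n⁻¹) * gb⁻¹ = n * y * n⁻¹ * ι (t d) := by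
      rw [X.act_eq hg'.symm hy', show n * g * n⁻¹ * (n * y * n⁻¹) * (n * g * n⁻¹)⁻¹ = n * (g * y * g⁻¹) * n⁻¹ by group,
        hd, ← hn, ← X.conj]
      group
    have e2 : gb * (n * y * n⁻¹) * gb⁻¹ = y * ι (e + tv f b hb u) := by
      rw [hu, show gb * (y * ι u) * gb⁻¹ = (gb * y * gb⁻¹) * (gb * ι u * gb⁻¹) by group, he, X.conj, hgb, mul_assoc,
        ← X.add]
    rw [e2, hu, mul_assoc, ← X.add, mul_right_inj] at e1
    have e3 := X.inj e1
    rw [tv_apply] at e3
    obtain ⟨i, hi⟩ := Submodule.mem_span_singleton.mp hda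
    refine Submodule.mem_span_singleton.mpr ⟨i + f u, ?_⟩
    have htd : t d = v + i • b := by
      have hd' : d = v + i • a := by rw [hi, add_comm d v, ← add_assoc, add_self, zero_add]
      rw [hd', map_add, map_smul, ta, ht, tv_fix hφv]
    rw [htd] at e3
    have e5 := congrArg (fun w => w + (v + u + f u • b)) e3
    rw [show e + (u + f u • b) + (v + u + f u • b) = e + v + ((u + u) + (f u • b + f u • b)) by abel,
      show u + (v + i • b) + (v + u + f u • b) = i • b + f u • b + ((u + u) + (v + v)) by abel, add_self u,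
      add_self (f u • b), add_self v, add_zero, add_zero, add_zero] at e5
    rw [add_smul, e5]
  -- a third centre
  obtain ⟨b, hb, hbn⟩ := exists_notMem_of_finrank_lt (U := Submodule.span (ZMod 2) ({a, v} : Set W))
    (X := LinearMap.ker f) (by have := finrank_span_pair_le a v; have := finrank_ker_ge f; omega)
  rw [LinearMap.mem_ker] at hb
  have hbm : ∀ w, w ∈ Submodule.span (ZMod 2) ({a, v} : Set W) → b ≠ w := fun w hw e => hbn (e ▸ hw)
  have hb0 : b ≠ 0 := hbm 0 (Submodule.zero_mem _)
  have hba : b ≠ a := hbm a (Submodule.subset_span (Set.mem_insert a _))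
  have hav : ∀ c, (c = b ∨ c = a + b) → a ∉ Submodule.span (ZMod 2) ({a + c, v} : Set W) := by
    intro c hc hm
    rcases mem_pair.mp hm with e | e | e | e
    · exact ha e
    · rcases hc with rfl | rfl
      · exact hb0 (left_eq_add.mp e)
      · rw [← add_assoc, add_self, zero_add] at e; exact hba e.symm
    · exact hva (e ▸ Submodule.mem_span_singleton_self a)
    · rcases hc with rfl | rfl
      · refine hbm v (Submodule.subset_span (Set.mem_insert_of_mem _ rfl)) ?_
        rw [add_assoc] at e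
        exact eq_of_add_eq_zero (left_eq_add.mp e)
      · rw [← add_assoc a a b, add_self, zero_add] at e
        refine hbn (?_ : b ∈ _)
        rw [show b = a + v by rw [e, add_assoc, add_self, add_zero]]
        exact add_mem (Submodule.subset_span (Set.mem_insert a _)) (Submodule.subset_span (Set.mem_insert_of_mem _ rfl))
  obtain ⟨gb, hgb⟩ := X.surj (tv f b hb)
  obtain ⟨db, hdb⟩ := X.exists_delta hgb hy hv hfv
  have hfab : f (a + b) = 0 := by rw [map_add, hfa, hb, add_zero]
  have h1 := move b hb hb0 hba (hav b (Or.inl rfl)) hb gb hgb db hdb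
  have hfdb : f db = 0 := by
    obtain ⟨i, hi⟩ := Submodule.mem_span_singleton.mp h1
    have := congrArg f hi
    rwa [map_smul, hb, smul_zero, map_add, hfv, add_zero, eq_comm] at this
  have h2 := move (a + b) hfab (fun e => hba (eq_of_add_eq_zero e).symm) (fun e => hb0 (add_eq_left.mp e))
    (hav (a + b) (Or.inr rfl)) hfab (g * gb) (by rw [map_mul, hg, hgb, tv_mul]) (d + db) (by
      rw [show g * gb * y * (g * gb)⁻¹ = g * (gb * y * gb⁻¹) * g⁻¹ by group, hdb,
        show g * (y * ι db) * g⁻¹ = (g * y * g⁻¹) * (g * ι db * g⁻¹) by group, hd, X.conj, hg, tv_fix hfdb,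
        mul_assoc, ← X.add])
  obtain ⟨i, hi⟩ := Submodule.mem_span_singleton.mp hda
  obtain ⟨j, hj⟩ := Submodule.mem_span_singleton.mp h1
  obtain ⟨l, hl⟩ := Submodule.mem_span_singleton.mp h2
  have hvab : v ∈ Submodule.span (ZMod 2) ({a, b} : Set W) := by
    have e : v = l • (a + b) + (i • a + j • b) := by
      rw [hl, hi, hj, show d + db + v + (d + v + (db + v)) = v + ((v + v) + ((d + d) + (db + db))) by abel,
        add_self, add_self, add_self, add_zero, add_zero, add_zero]
    rw [e]
    have hma := Submodule.subset_span (R := ZMod 2) (Set.mem_insert a ({b} : Set W))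
    have hmb : b ∈ Submodule.span (ZMod 2) ({a, b} : Set W) := Submodule.subset_span (Set.mem_insert_of_mem _ rfl)
    exact add_mem (Submodule.smul_mem _ _ (add_mem hma hmb))
      (add_mem (Submodule.smul_mem _ _ hma) (Submodule.smul_mem _ _ hmb))
  rcases mem_pair.mp hvab with e | e | e | e
  · exact hva (by rw [e]; exact Submodule.zero_mem _)
  · exact hva (by rw [e]; exact Submodule.mem_span_singleton_self a)
  · exact hbm v (Submodule.subset_span (Set.mem_insert_of_mem _ rfl)) e.symm
  · refine hbm (a + v) (add_mem (Submodule.subset_span (Set.mem_insert a _))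
      (Submodule.subset_span (Set.mem_insert_of_mem _ rfl))) ?_
    rw [e, ← add_assoc, add_self, zero_add]

/-- Dimension at least four. -/
theorem AbExt.false_of_four (h4 : 4 ≤ Module.finrank (ZMod 2) W) : False := by
  obtain ⟨a, -, ha⟩ := exists_notMem_of_finrank_lt (U := (⊥ : Submodule (ZMod 2) W)) (X := ⊤)
    (by rw [finrank_bot, finrank_top]; omega)
  have ha0 : a ≠ 0 := fun e => ha (e ▸ Submodule.zero_mem _)
  obtain ⟨w, -, hw⟩ := exists_notMem_of_finrank_lt (U := Submodule.span (ZMod 2) ({a} : Set W)) (X := ⊤)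
    (by rw [finrank_span_singleton ha0, finrank_top]; omega)
  obtain ⟨f, hf, hfw⟩ := exists_dual _ hw
  have hfa := hf a (Submodule.mem_span_singleton_self a)
  have hfne : f ≠ 0 := fun e => by rw [e] at hfw; exact zero_ne_one hfw
  obtain ⟨g, hg⟩ := X.surj (tv f a hfa)
  have hgg : ψ (g * g) = 1 := by rw [map_mul, hg, tv_mul_self]
  obtain ⟨c, hc⟩ := (X.inv _).mp (X.exponent_two h4 _ hgg)
  refine X.no_lift ha0 hfne hg hc.symm ?_
  by_contra hcn
  have hfc : f c = 0 := by
    have e : ι (tv f a hfa c) = ι c := by rw [← hg, ← X.conj, hc]; group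
    rcases two_cases (f c) with e' | e'
    · exact e'
    · rw [tv_move e'] at e
      exact absurd (add_eq_left.mp (X.inj e)) ha0
  obtain ⟨f', hf', hf'c⟩ := exists_dual _ hcn
  have f'a := hf' a (Submodule.mem_span_singleton_self a)
  have hdim : Module.finrank (ZMod 2) (Submodule.span (ZMod 2) ({a} : Set W)) <
      Module.finrank (ZMod 2) ↥(LinearMap.ker f ⊓ LinearMap.ker f') := by
    have h1 := finrank_ker_ge f
    have h2 := finrank_ker_ge f'
    have h3 := Submodule.finrank_sup_add_finrank_inf_eq (LinearMap.ker f) (LinearMap.ker f')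
    have h5 := Submodule.finrank_le (LinearMap.ker f ⊔ LinearMap.ker f')
    rw [finrank_span_singleton ha0]
    omega
  obtain ⟨e, he, hea⟩ := exists_notMem_of_finrank_lt hdim
  obtain ⟨hfe, hf'e⟩ := Submodule.mem_inf.mp he
  rw [LinearMap.mem_ker] at hfe hf'e
  set t := tv f' e hf'e with ht
  have htt : ∀ w, t (t w) = w := fun w => by rw [← LinearEquiv.mul_apply, ht, tv_mul_self]; rfl
  obtain ⟨n, hn⟩ := X.surj t
  have hg' : ψ (n * g * n⁻¹) = ψ g := by
    rw [map_mul, map_mul, map_inv, hn, hg, show (t⁻¹ : W ≃ₗ[ZMod 2] W) = t from tv_inv _ _ _]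
    refine LinearEquiv.ext fun w => ?_
    rw [LinearEquiv.mul_apply, LinearEquiv.mul_apply, tv_apply f a, map_add, map_smul, htt, ht, tv_fix f'a,
      tv_apply f' e, map_add, map_smul, hfe, smul_zero, add_zero, ← tv_apply f a hfa w]
  have hk : ψ (g⁻¹ * (n * g * n⁻¹)) = 1 := by rw [map_mul, hg', ← map_mul, inv_mul_cancel, map_one]
  obtain ⟨u, hu⟩ := (X.inv _).mp (X.exponent_two h4 _ hk)
  have e1 : n * g * n⁻¹ * (n * g * n⁻¹) = ι (t c) := by
    rw [show n * g * n⁻¹ * (n * g * n⁻¹) = n * (g * g) * n⁻¹ by group, ← hc, X.conj, hn]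
  have e2 : n * g * n⁻¹ = g * ι u := by rw [hu, mul_inv_cancel_left]
  rw [e2, X.sq_adjust hg (tv_mul_self _ _ _), ← hc, ← X.add] at e1
  have e3 := X.inj e1
  rw [ht, tv_move hf'c, tv_apply, show c + (u + f u • a + u) = c + f u • a + (u + u) by abel, add_self,
    add_zero] at e3
  exact hea (add_left_cancel e3 ▸ Submodule.smul_mem _ _ (Submodule.mem_span_singleton_self a))

/-- The common kernel of two functionals in dimension three. -/
theorem AbExt.inter_ker (h3 : Module.finrank (ZMod 2) W = 3) {f1 f2 : Module.Dual (ZMod 2) W} {a : W} (ha : a ≠ 0)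
    (h1 : f1 a = 0) (h2 : f2 a = 0) {p q : W} (p1 : f1 p = 1) (p2 : f2 p = 0) (q1 : f1 q = 0) (q2 : f2 q = 1)
    {w : W} (w1 : f1 w = 0) (w2 : f2 w = 0) : w ∈ Submodule.span (ZMod 2) ({a} : Set W) := by
  have hind : LinearIndependent (ZMod 2) ![a, p, q] := by
    rw [Fintype.linearIndependent_iff]
    intro c hc
    simp only [Fin.sum_univ_three, Matrix.cons_val_zero, Matrix.cons_val_one, Matrix.cons_val] at hc
    have e1 := congrArg f1 hc
    have e2 := congrArg f2 hc
    simp only [map_add, map_smul, h1, p1, q1, h2, p2, q2, smul_eq_mul, mul_zero, mul_one, zero_add, add_zero,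
      map_zero] at e1 e2
    rw [e1, e2, zero_smul, zero_smul, add_zero, add_zero] at hc
    have e0 := (smul_eq_zero.mp hc).resolve_right ha
    intro i
    fin_cases i <;> assumption
  have hsp := hind.span_eq_top_of_card_eq_finrank (by rw [h3]; rfl)
  have hw : w ∈ Submodule.span (ZMod 2) (Set.range ![a, p, q]) := hsp ▸ Submodule.mem_top
  obtain ⟨c, rfl⟩ := (Submodule.mem_span_range_iff_exists_fun (ZMod 2)).mp hw
  simp only [Fin.sum_univ_three, Matrix.cons_val_zero, Matrix.cons_val_one, Matrix.cons_val, map_add, map_smul,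
    h1, p1, q1, h2, p2, q2, smul_eq_mul, mul_zero, mul_one, zero_add, add_zero] at w1 w2 ⊢
  rw [w1, w2, zero_smul, zero_smul, add_zero, add_zero]
  exact Submodule.smul_mem _ _ (Submodule.mem_span_singleton_self a)

end CfsgLib.Pyramidal
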