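import Cfsg.Agent.Lib.Pyramidal.AbelianKill

/-!
The abelian case in dimension three: the lifts of a four group of transvections with common centre can be pushed
down into `W`, and then the product squares into the centre.
-/

set_option autoImplicit false

namespace CfsgLib.Pyramidal

universe u v

variable {G : Type u} [Group G] [Finite G] {W : Type v} [AddCommGroup W] [Module (ZMod 2) W] [Finite W]
variable {ψ : G →* (W ≃ₗ[ZMod 2] W)} {ι : W → G} (X : AbExt ψ ι)

include X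

/-- A fixed element of order dividing four over the axis lies over the centre. -/
theorem AbExt.fixed_four (h3 : Module.finrank (ZMod 2) W = 3) (hex : ∃ y : G, ψ y = 1 ∧ y * y ≠ 1)
    {f : Module.Dual (ZMod 2) W} {a : W} {h : f a = 0} (ha : a ≠ 0) (hf : f ≠ 0) {g : G} (hg : ψ g = tv f a h)
    {y : G} (hy : ψ y = 1) {v : W} (hv : y * y = ι v) (hfv : f v = 0) (hfix : g * y * g⁻¹ = y) :
    v ∈ Submodule.span (ZMod 2) ({a} : Set W) := by
  classical
  by_contra hvn
  refine X.not_central (h3 := h3.ge) hex ha hf (ha := h) fun g' hg' y' hy' v' hv' hfv' d hd => ?_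
  -- elements over the centre move inside it
  have small : ∀ y : G, ψ y = 1 → ∀ w, y * y = ι w → w ∈ Submodule.span (ZMod 2) ({a} : Set W) →
      ∀ d, g * y * g⁻¹ = y * ι d → d ∈ Submodule.span (ZMod 2) ({a} : Set W) := by
    intro y hy w hw hwm d hd
    obtain ⟨u, hu⟩ : ∃ u, f u = 1 := by
      by_contra hall
      push Not at hall
      exact hf (LinearMap.ext fun w => (two_cases (f w)).resolve_right (hall w))
    obtain ⟨z, hz, hzz⟩ := X.exists_sqrt hex u
    have hya : ψ (z⁻¹ * (g * z * g⁻¹)) = 1 := by rw [map_mul, map_inv, hz, X.ker_conj hz, inv_one, one_mul]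
    have hsa : z⁻¹ * (g * z * g⁻¹) * (z⁻¹ * (g * z * g⁻¹)) = ι a := by
      rw [X.mul_sq (by rw [map_inv, hz, inv_one]) (X.ker_conj hz g), X.sq_conj hzz, ← mul_inv_rev, hzz, X.iota_inv,
        ← X.add, hg, tv_move hu, ← add_assoc, add_self, zero_add]
    have hgg : ψ (g * g) = 1 := by rw [map_mul, hg, tv_mul_self]
    have hga : g * (z⁻¹ * (g * z * g⁻¹)) * g⁻¹ = z⁻¹ * (g * z * g⁻¹) * ι a := by
      have e1 : g * (z⁻¹ * (g * z * g⁻¹)) * g⁻¹ = (z⁻¹ * (g * z * g⁻¹))⁻¹ := by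
        calc g * (z⁻¹ * (g * z * g⁻¹)) * g⁻¹ = (g * z * g⁻¹)⁻¹ * ((g * g) * z * (g * g)⁻¹) := by group
          _ = _ := by rw [X.comm _ z hgg hz, mul_inv_cancel_right]; group
      rw [e1, ← hsa]
      refine inv_eq_of_mul_eq_one_right ?_
      rw [← mul_assoc, hsa, ← X.add, add_self, X.zero]
    obtain ⟨c, rfl⟩ := Submodule.mem_span_singleton.mp hwm
    rcases two_cases c with rfl | rfl
    · rw [zero_smul, X.zero] at hw
      obtain ⟨w', hw'⟩ := (X.inv y).mp hw
      rw [← hw', X.conj, ← X.add, hg, tv_apply] at hd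
      rw [← add_left_cancel (X.inj hd)]
      exact Submodule.smul_mem _ _ (Submodule.mem_span_singleton_self a)
    · rw [one_smul] at hw
      obtain ⟨w', hw'⟩ := X.eq_mul_iota hya hy (hsa.trans hw.symm)
      rw [hw', show g * (z⁻¹ * (g * z * g⁻¹) * ι w') * g⁻¹ =
          (g * (z⁻¹ * (g * z * g⁻¹)) * g⁻¹) * (g * ι w' * g⁻¹) by group, hga, X.conj, hg,
        mul_assoc (z⁻¹ * (g * z * g⁻¹)) (ι a), mul_assoc (z⁻¹ * (g * z * g⁻¹)) (ι w'), mul_right_inj, ← X.add, ← X.add, tv_apply] at hd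
      have e := X.inj hd
      rw [show a + (w' + f w' • a) = w' + (a + f w' • a) by abel] at e
      rw [← add_left_cancel e]
      exact add_mem (Submodule.mem_span_singleton_self a) (Submodule.smul_mem _ _ (Submodule.mem_span_singleton_self a))
  rw [X.act_eq (hg'.trans hg.symm) hy'] at hd
  by_cases hv'm : v' ∈ Submodule.span (ZMod 2) ({a} : Set W)
  · exact small y' hy' v' hv' hv'm d hd
  -- otherwise `y'` differs from `y` by an element over the centre
  have hsum : v + v' ∈ Submodule.span (ZMod 2) ({a} : Set W) := by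
    have hle : Module.finrank (ZMod 2) (LinearMap.ker f) ≤ 2 := by
      have h1 : LinearMap.ker f ≠ ⊤ := fun e => hf (LinearMap.ker_eq_top.mp e)
      have := Submodule.finrank_lt h1
      omega
    have hspan : Submodule.span (ZMod 2) ({a, v} : Set W) = LinearMap.ker f := by
      refine Submodule.eq_of_le_of_finrank_le (Submodule.span_le.mpr ?_) ?_
      · rintro w (rfl | rfl)
        · exact h
        · exact hfv
      · refine hle.trans ?_
        have hlt : Submodule.span (ZMod 2) ({a} : Set W) < Submodule.span (ZMod 2) ({a, v} : Set W) :=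
          lt_of_le_of_ne (Submodule.span_mono (by simp)) fun e =>
            hvn (by rw [e]; exact Submodule.subset_span (Set.mem_insert_of_mem _ rfl))
        have h2 := Submodule.finrank_lt_finrank_of_lt hlt
        rw [finrank_span_singleton ha] at h2
        omega
    have hm : v' ∈ Submodule.span (ZMod 2) ({a, v} : Set W) := by rw [hspan]; exact hfv'
    rcases mem_pair.mp hm with e | e | e | e
    · exact absurd (by rw [e]; exact Submodule.zero_mem _) hv'm
    · exact absurd (by rw [e]; exact Submodule.mem_span_singleton_self a) hv'm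
    · rw [e, add_self]; exact Submodule.zero_mem _
    · rw [e, add_comm v, add_assoc, add_self, add_zero]; exact Submodule.mem_span_singleton_self a
  have hmul : ψ (y * y') = 1 := by rw [map_mul, hy, hy', one_mul]
  refine small (y * y') hmul (v + v') (by rw [X.mul_sq hy hy', hv, hv', X.add]) hsum d ?_
  rw [show g * (y * y') * g⁻¹ = (g * y * g⁻¹) * (g * y' * g⁻¹) by group, hfix, hd, mul_assoc]

/-- Powers of two in `T` are multiplicative. -/
theorem AbExt.pow_two_mul {s t : G} (hs : ψ s = 1) (ht : ψ t = 1) (n : ℕ) : (s * t) ^ n = s ^ n * t ^ n :=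
  Commute.mul_pow (X.comm s t hs ht) n

theorem AbExt.exists_root {j : ℕ} (hj : ∃ x : G, ψ x = 1 ∧ x ^ 2 ^ j ≠ 1) (v : W) :
    ∃ u : G, ψ u = 1 ∧ u ^ 2 ^ j = ι v := by
  obtain ⟨x, hx, hne⟩ := hj
  obtain ⟨n, hn⟩ := X.pgroup ⟨x, MonoidHom.mem_ker.mpr hx⟩
  have hn' : x ^ 2 ^ n = 1 := congrArg Subtype.val hn
  have key : ∀ (m : ℕ) (y : G), ψ y = 1 → y ^ 2 ^ m = 1 → y ^ 2 ^ j ≠ 1 →
      ∃ z : G, ψ z = 1 ∧ z ^ 2 ^ j ≠ 1 ∧ z ^ 2 ^ j * z ^ 2 ^ j = 1 := by
    intro m
    induction m with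
    | zero => intro y _ e hne; rw [pow_zero, pow_one] at e; rw [e, one_pow] at hne; exact absurd rfl hne
    | succ m ih =>
      intro y hy e hne
      by_cases h2 : y ^ 2 ^ j * y ^ 2 ^ j = 1
      · exact ⟨y, hy, hne, h2⟩
      · exact ih (y * y) (by rw [map_mul, hy, one_mul]) (by rw [← pow_two, ← pow_mul, ← pow_succ']; exact e)
          (by rw [(Commute.refl y).mul_pow]; exact h2)
  obtain ⟨z, hz, hz1, hz2⟩ := key n x hx hn' hne
  obtain ⟨w, hw⟩ := (X.inv _).mp hz2
  by_cases hv : v = 0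
  · exact ⟨1, map_one ψ, by rw [hv, X.zero, one_pow]⟩
  obtain ⟨t, ht⟩ := exists_map hv (show w ≠ 0 from fun e => hz1 (by rw [← hw, e, X.zero]))
  obtain ⟨g, rfl⟩ := X.surj t
  exact ⟨g * z * g⁻¹, X.ker_conj hz g, by rw [conj_pow, ← hw, X.conj, ht]⟩

theorem AbExt.root_conj {j : ℕ} {u : G} {w : W} (hu : u ^ 2 ^ j = ι w) (g : G) :
    (g * u * g⁻¹) ^ 2 ^ j = ι (ψ g w) := by rw [conj_pow, hu, X.conj]

theorem AbExt.false_of_three (h3 : Module.finrank (ZMod 2) W = 3) : False := by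
  classical
  let b := Module.finBasisOfFinrankEq (ZMod 2) W h3
  have hd : ∀ i k : Fin 3, b.coord k (b i) = if i = k then 1 else 0 := fun i k => by
    rw [Module.Basis.coord_apply, Module.Basis.repr_self, Finsupp.single_apply]
  set a := b 0 with hadef
  set f1 := b.coord 1 with hf1def
  set f2 := b.coord 2 with hf2def
  have f1a : f1 a = 0 := by rw [hf1def, hadef, hd, if_neg (by decide)]
  have f2a : f2 a = 0 := by rw [hf2def, hadef, hd, if_neg (by decide)]
  have ha : a ≠ 0 := b.ne_zero 0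
  have p1 : f1 (b 1) = 1 := by rw [hf1def, hd, if_pos rfl]
  have p2 : f2 (b 1) = 0 := by rw [hf2def, hd, if_neg (by decide)]
  have q1 : f1 (b 2) = 0 := by rw [hf1def, hd, if_neg (by decide)]
  have q2 : f2 (b 2) = 1 := by rw [hf2def, hd, if_pos rfl]
  have hf1 : f1 ≠ 0 := fun e => by rw [e] at p1; exact zero_ne_one p1
  have hf2 : f2 ≠ 0 := fun e => by rw [e] at q2; exact zero_ne_one q2
  set τ1 := tv f1 a f1a with hτ1
  set τ2 := tv f2 a f2a with hτ2
  have inter : ∀ {w : W}, f1 w = 0 → f2 w = 0 → w ∈ Submodule.span (ZMod 2) ({a} : Set W) := fun {w} w1 w2 =>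
    X.inter_ker h3 ha f1a f2a p1 p2 q1 q2 w1 w2
  have fixker : ∀ {f : Module.Dual (ZMod 2) W} (hfa : f a = 0) {w : W}, tv f a hfa w = w → f w = 0 :=
    fun {f} hfa {w} e => by
      rcases two_cases (f w) with e' | e'
      · exact e'
      · rw [tv_move e'] at e; exact absurd (add_eq_left.mp e) ha
  have cross : ∀ {g g' : G} (_ : ψ g = τ1) (_ : ψ g' = τ2), ψ (g' * g * g'⁻¹ * g⁻¹) = 1 := fun {g g'} hg hg' => by
    rw [map_mul, map_mul, map_mul, map_inv, map_inv, hg, hg', hτ1, hτ2, tv_inv, tv_inv]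
    rw [tv_mul' f2 f1, mul_assoc, tv_mul' f2 f1, tv_mul_self]
  have hwrel : ∀ (g g' : G), g' * (g * g) * g'⁻¹ =
      (g' * g * g'⁻¹ * g⁻¹) * (g * (g' * g * g'⁻¹ * g⁻¹) * g⁻¹) * (g * g) := fun g g' => by group
  let P : ℕ → Prop := fun j => ∃ g1 g2 : G, ψ g1 = τ1 ∧ ψ g2 = τ2 ∧ (g1 * g1) ^ 2 ^ j = 1 ∧
    (g2 * g2) ^ 2 ^ j = 1 ∧ (g2 * g1 * g2⁻¹ * g1⁻¹) ^ 2 ^ j = 1
  have hself : ∀ {g : G} {f : Module.Dual (ZMod 2) W} {hfa : f a = 0}, ψ g = tv f a hfa → ψ (g * g) = 1 :=
    fun {g f hfa} hg => by rw [map_mul, hg, tv_mul_self]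
  -- one step down
  have step : ∀ j, 1 ≤ j → P (j + 1) → P j := by
    rintro j hj ⟨g1, g2, hg1, hg2, hx1, hx2, hx3⟩
    by_cases hno : ∀ x : G, ψ x = 1 → x ^ 2 ^ j = 1
    · exact ⟨g1, g2, hg1, hg2, hno _ (hself hg1), hno _ (hself hg2), hno _ (cross hg1 hg2)⟩
    push Not at hno
    obtain ⟨i, rfl⟩ : ∃ i, j = i + 1 := ⟨j - 1, by omega⟩
    have hex : ∃ y : G, ψ y = 1 ∧ y * y ≠ 1 := by
      obtain ⟨x, hx, hne⟩ := hno
      exact ⟨x, hx, fun e => hne (by rw [pow_succ', pow_mul, pow_two, e, one_pow])⟩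
    -- lower one square
    have low : ∀ {f : Module.Dual (ZMod 2) W} {hfa : f a = 0}, f ≠ 0 → ∀ {g : G}, ψ g = tv f a hfa →
        (g * g) ^ 2 ^ (i + 1 + 1) = 1 → ∃ t : G, ψ t = 1 ∧ t ^ 2 ^ (i + 1 + 1) = 1 ∧
          ψ (g * t) = tv f a hfa ∧ (g * t * (g * t)) ^ 2 ^ (i + 1) = 1 := by
      intro f hfa hf g hg hx
      have hx' : (g * g) ^ 2 ^ (i + 1) * (g * g) ^ 2 ^ (i + 1) = 1 := by rw [← pow_two, ← pow_mul, ← pow_succ]; exact hx
      obtain ⟨v, hv⟩ := (X.inv _).mp hx'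
      have hfix : g * (g * g) ^ 2 ^ i * g⁻¹ = (g * g) ^ 2 ^ i := by
        rw [← conj_pow, show g * (g * g) * g⁻¹ = g * g by group]
      have hfv : f v = 0 := by
        refine fixker hfa ?_
        refine X.inj ?_
        rw [← hg, ← X.conj, hv, ← conj_pow, show g * (g * g) * g⁻¹ = g * g by group]
      have hyy : (g * g) ^ 2 ^ i * (g * g) ^ 2 ^ i = ι v := by rw [hv, ← pow_two, ← pow_mul, ← pow_succ]
      have hm := X.fixed_four h3 hex ha hf hg (by rw [map_pow, hself hg, one_pow]) hyy hfv hfix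
      obtain ⟨c, hc⟩ := Submodule.mem_span_singleton.mp hm
      rcases two_cases c with rfl | rfl
      · rw [zero_smul] at hc
        exact ⟨1, map_one ψ, one_pow _, by rw [mul_one, hg], by rw [mul_one, ← hv, ← hc, X.zero]⟩
      · rw [one_smul] at hc
        obtain ⟨w, hw⟩ : ∃ w, f w = 1 := by
          by_contra hall
          push Not at hall
          exact hf (LinearMap.ext fun w => (two_cases (f w)).resolve_right (hall w))
        obtain ⟨u, hu, huw⟩ := X.exists_root hno w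
        refine ⟨u, hu, by rw [pow_succ, pow_mul, huw, pow_two]; exact (X.inv _).mpr ⟨w, rfl⟩,
          by rw [map_mul, hu, mul_one, hg], ?_⟩
        rw [show g * u * (g * u) = (g * g) * ((g⁻¹ * u * g⁻¹⁻¹) * u) by group,
          X.pow_two_mul (hself hg) (by rw [map_mul, X.ker_conj hu, hu, one_mul]),
          X.pow_two_mul (X.ker_conj hu g⁻¹) hu, X.root_conj huw, huw, ← hv, ← hc, ← X.add, ← X.add, map_inv, hg,
          tv_inv, tv_move hw, show a + (w + a + w) = (a + a) + (w + w) by abel, add_self, add_self, add_zero, X.zero]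
    obtain ⟨t1, ht1, ht1', hk1, hk1'⟩ := low hf1 hg1 hx1
    obtain ⟨t2, ht2, ht2', hk2, hk2'⟩ := low hf2 hg2 hx2
    set k1 := g1 * t1 with hk1def
    set k2 := g2 * t2 with hk2def
    set w := k2 * k1 * k2⁻¹ * k1⁻¹ with hw
    have hwk : ψ w = 1 := cross hk1 hk2
    -- the commutator stays one level up
    have hwup : w ^ 2 ^ (i + 1) * w ^ 2 ^ (i + 1) = 1 := by
      have e : w = (g2 * t2 * g2⁻¹) * ((g2 * g1) * (t1 * t2⁻¹) * (g2 * g1)⁻¹) * (g2 * g1 * g2⁻¹ * g1⁻¹) *
          (g1 * t1⁻¹ * g1⁻¹) := by rw [hw, hk1def, hk2def]; group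
      have hA := X.ker_conj ht2 g2
      have hit1 : ψ t1⁻¹ = 1 := by rw [map_inv, ht1, inv_one]
      have hit2 : ψ t2⁻¹ = 1 := by rw [map_inv, ht2, inv_one]
      have hm : ψ (t1 * t2⁻¹) = 1 := by rw [map_mul, ht1, hit2, one_mul]
      have hB := X.ker_conj hm (g2 * g1)
      have hC := cross hg1 hg2
      have hD := X.ker_conj hit1 g1
      have hAB : ψ ((g2 * t2 * g2⁻¹) * ((g2 * g1) * (t1 * t2⁻¹) * (g2 * g1)⁻¹)) = 1 := by
        rw [map_mul, hA, hB, one_mul]
      have hABC : ψ ((g2 * t2 * g2⁻¹) * ((g2 * g1) * (t1 * t2⁻¹) * (g2 * g1)⁻¹) * (g2 * g1 * g2⁻¹ * g1⁻¹)) = 1 := by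
        rw [map_mul, hAB, hC, one_mul]
      rw [← pow_two, ← pow_mul, ← pow_succ, e, X.pow_two_mul hABC hD, X.pow_two_mul hAB hC,
        X.pow_two_mul hA hB, conj_pow, conj_pow, X.pow_two_mul ht1 hit2, conj_pow, inv_pow, inv_pow, ht1', ht2', hx3]
      group
    obtain ⟨v, hv⟩ := (X.inv _).mp hwup
    have hv1 : f1 v = 0 := by
      have e := congrArg (fun x => x ^ 2 ^ (i + 1)) (hwrel k1 k2)
      rw [← hw, X.pow_two_mul (by rw [map_mul, hwk, X.ker_conj hwk, one_mul]) (hself hk1),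
        X.pow_two_mul hwk (X.ker_conj hwk k1), conj_pow, hk1', conj_pow, ← hv, X.conj, ← X.add, hk1,
        mul_one, mul_one, mul_inv_cancel, ← X.zero] at e
      have e' := X.inj e
      exact fixker f1a (eq_of_add_eq_zero e'.symm).symm
    have hv2 : f2 v = 0 := by
      have e := congrArg (fun x => x ^ 2 ^ (i + 1)) (hwrel k2 k1)
      have hinv : k1 * k2 * k1⁻¹ * k2⁻¹ = w⁻¹ := by rw [hw]; group
      have hwi : ψ w⁻¹ = 1 := by rw [map_inv, hwk, inv_one]
      rw [hinv, X.pow_two_mul (by rw [map_mul, hwi, X.ker_conj hwi, one_mul]) (hself hk2),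
        X.pow_two_mul hwi (X.ker_conj hwi k2), conj_pow, hk2', conj_pow, inv_pow, ← hv, X.iota_inv, X.conj,
        ← X.add, hk2, mul_one, mul_one, mul_inv_cancel, ← X.zero] at e
      have e' := X.inj e
      exact fixker f2a (eq_of_add_eq_zero e'.symm).symm
    obtain ⟨c, hc⟩ := Submodule.mem_span_singleton.mp (inter hv1 hv2)
    rcases two_cases c with rfl | rfl
    · rw [zero_smul] at hc
      exact ⟨k1, k2, hk1, hk2, hk1', hk2', by rw [← hw, ← hv, ← hc, X.zero]⟩
    · rw [one_smul] at hc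
      obtain ⟨u, hu, huw⟩ := X.exists_root hno (b 2)
      refine ⟨k1 * u, k2, by rw [map_mul, hu, mul_one, hk1], hk2, ?_, hk2', ?_⟩
      · rw [show k1 * u * (k1 * u) = (k1 * k1) * ((k1⁻¹ * u * k1⁻¹⁻¹) * u) by group,
          X.pow_two_mul (hself hk1) (by rw [map_mul, X.ker_conj hu, hu, one_mul]), hk1', one_mul,
          X.pow_two_mul (X.ker_conj hu k1⁻¹) hu, X.root_conj huw, huw, ← X.add, map_inv, hk1, tv_inv,
          tv_fix q1, add_self, X.zero]
      · have hu' : ψ (k2 * u * k2⁻¹ * u⁻¹) = 1 := by rw [map_mul, X.ker_conj hu, map_inv, hu, inv_one, one_mul]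
        have hui : ψ u⁻¹ = 1 := by rw [map_inv, hu, inv_one]
        rw [show k2 * (k1 * u) * k2⁻¹ * (k1 * u)⁻¹ = (k2 * k1 * k2⁻¹ * k1⁻¹) * (k1 * (k2 * u * k2⁻¹ * u⁻¹) * k1⁻¹) by group,
          ← hw, X.pow_two_mul hwk (X.ker_conj hu' k1), conj_pow, X.pow_two_mul (X.ker_conj hu k2) hui,
          X.root_conj huw, inv_pow, huw, X.iota_inv, ← X.add, X.conj, ← hv, ← hc, ← X.add, hk1, hk2,
          tv_move q2, show b 2 + a + b 2 = a + (b 2 + b 2) by abel, add_self, add_zero, tv_fix f1a, add_self, X.zero]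
  -- start high and descend
  have top : P 1 := by
    obtain ⟨n, hn⟩ := IsPGroup.iff_card.mp X.pgroup
    have hall : ∀ x : G, ψ x = 1 → x ^ 2 ^ (n + 1) = 1 := fun x hx => by
      have h1 : (⟨x, MonoidHom.mem_ker.mpr hx⟩ : ψ.ker) ^ 2 ^ n = 1 := by rw [← hn, pow_card_eq_one']
      rw [pow_succ, pow_mul, show x ^ 2 ^ n = 1 from congrArg Subtype.val h1, one_pow]
    obtain ⟨g1, hg1⟩ := X.surj τ1
    obtain ⟨g2, hg2⟩ := X.surj τ2
    have : ∀ m, P (1 + m) → P 1 := by
      intro m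
      induction m with
      | zero => exact id
      | succ m ih => exact fun hP => ih (step (1 + m) (by omega) hP)
    exact this n ⟨g1, g2, hg1, hg2, by rw [add_comm]; exact hall _ (hself hg1),
      by rw [add_comm]; exact hall _ (hself hg2), by rw [add_comm]; exact hall _ (cross hg1 hg2)⟩
  -- the base
  obtain ⟨g1, g2, hg1, hg2, hx1, hx2, hx3⟩ := top
  simp only [pow_one, pow_two] at hx1 hx2 hx3
  obtain ⟨v1, hv1⟩ := (X.inv _).mp hx1
  obtain ⟨v2, hv2⟩ := (X.inv _).mp hx2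
  obtain ⟨c, hc⟩ := (X.inv _).mp hx3
  have a1 : f1 v1 = 0 := fixker f1a (X.inj (by rw [← hτ1, ← hg1, ← X.conj, hv1]; group))
  have a2 : f2 v2 = 0 := fixker f2a (X.inj (by rw [← hτ2, ← hg2, ← X.conj, hv2]; group))
  have b1 : f2 v1 = 1 := by
    by_contra hne
    exact X.no_lift ha hf1 hg1 hv1.symm (inter a1 ((two_cases _).resolve_right hne))
  have b2 : f1 v2 = 1 := by
    by_contra hne
    exact X.no_lift ha hf2 hg2 hv2.symm (inter ((two_cases _).resolve_right hne) a2)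
  have c1 : f1 c = 1 := by
    have e := hwrel g1 g2
    rw [← hv1, ← hc, X.conj, X.conj, hg1, hg2, ← X.add, ← X.add, hτ2, tv_move b1, hτ1, tv_apply,
      show c + (c + f1 c • a) + v1 = v1 + f1 c • a + (c + c) by abel, add_self, add_zero] at e
    rcases two_cases (f1 c) with e' | e'
    · rw [e', zero_smul, add_zero] at e
      exact absurd (add_eq_left.mp (X.inj e)) ha
    · exact e'
  have c2 : f2 c = 1 := by
    have e := hwrel g2 g1
    rw [show g1 * g2 * g1⁻¹ * g2⁻¹ = (g2 * g1 * g2⁻¹ * g1⁻¹)⁻¹ by group, ← hv2, ← hc, X.iota_inv, X.conj, X.conj,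
      hg1, hg2, ← X.add, ← X.add, hτ1, tv_move b2, hτ2, tv_apply,
      show c + (c + f2 c • a) + v2 = v2 + f2 c • a + (c + c) by abel, add_self, add_zero] at e
    rcases two_cases (f2 c) with e' | e'
    · rw [e', zero_smul, add_zero] at e
      exact absurd (add_eq_left.mp (X.inj e)) ha
    · exact e'
  have h12 : (f1 + f2) a = 0 := by rw [LinearMap.add_apply, f1a, f2a, add_zero]
  have hsq : g1 * g2 * (g1 * g2) = ι (tv f1 a f1a c + v1 + v2) := by
    rw [show g1 * g2 * (g1 * g2) = (g1 * (g2 * g1 * g2⁻¹ * g1⁻¹) * g1⁻¹) * (g1 * g1) * (g2 * g2) by group,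
      ← hc, ← hv1, ← hv2, X.conj, hg1, hτ1, ← X.add, ← X.add]
  refine X.no_lift (f := f1 + f2) ha (fun e => ?_) (by rw [map_mul, hg1, hg2, hτ1, hτ2, tv_mul']) hsq ?_
  · have e' := LinearMap.congr_fun e (b 1)
    rw [LinearMap.add_apply, p1, p2, add_zero, LinearMap.zero_apply] at e'
    exact one_ne_zero e'
  · rw [tv_move c1]
    refine inter ?_ ?_
    · rw [map_add, map_add, map_add, c1, f1a, a1, b2]; decide
    · rw [map_add, map_add, map_add, c2, f2a, b1, a2]; decide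

end CfsgLib.Pyramidal
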