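import Cfsg.Agent.Lib.Pyramidal.Solvable

/-!
The action of `G` on the subgroup of involutions as a vector space over the field with two elements.
-/

set_option autoImplicit false

namespace CfsgLib.Pyramidal

universe u

variable {G : Type u} [Group G] {V : Subgroup G} {r : ℕ}

/-- The involutions with `1`, written additively. -/
def Vec (_H : Hyp V r) : Type u := Additive V

variable (H : Hyp V r)

instance : AddCommGroup (Vec H) :=
  { (inferInstance : AddGroup (Additive V)) with
    add_comm := fun a b => Subtype.ext (H.comm (Additive.toMul a : V).2 (Additive.toMul b : V).2) }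

instance : Module (ZMod 2) (Vec H) :=
  AddCommGroup.zmodModule fun a => by
    rw [two_nsmul]
    exact Subtype.ext ((H.sq _).mpr (Additive.toMul a : V).2)

instance [Finite G] : Finite (Vec H) := inferInstanceAs (Finite (Additive V))

/-- The underlying element. -/
def Hyp.toG (w : Vec H) : G := ((Additive.toMul w : V) : G)

/-- An element of `V` as a vector. -/
def Hyp.ofG (v : G) (hv : v ∈ V) : Vec H := Additive.ofMul (⟨v, hv⟩ : V)

theorem Hyp.toG_mem (w : Vec H) : H.toG w ∈ V := (Additive.toMul w : V).2

theorem Hyp.toG_ofG (v : G) (hv : v ∈ V) : H.toG (H.ofG v hv) = v := rfl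

theorem Hyp.toG_inj : Function.Injective H.toG := fun _ _ e => Subtype.ext e

theorem Hyp.toG_add (a b : Vec H) : H.toG (a + b) = H.toG a * H.toG b := rfl

theorem Hyp.toG_zero : H.toG 0 = 1 := rfl

/-- Conjugation by one element. -/
def Hyp.conjVec (g : G) : Vec H →+ Vec H :=
  AddMonoidHom.mk' (fun w => H.ofG (g * H.toG w * g⁻¹) (H.normal.conj_mem _ (H.toG_mem w) g)) fun a b =>
    H.toG_inj (by simp only [H.toG_ofG, H.toG_add]; group)

/-- Conjugation as a representation. -/
def Hyp.act : G →* (Vec H ≃ₗ[ZMod 2] Vec H) where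
  toFun g :=
    { (H.conjVec g).toZModLinearMap 2 with
      invFun := H.conjVec g⁻¹
      left_inv := fun w => H.toG_inj (by
        show g⁻¹ * (g * H.toG w * g⁻¹) * g⁻¹⁻¹ = H.toG w
        group)
      right_inv := fun w => H.toG_inj (by
        show g * (g⁻¹ * H.toG w * g⁻¹⁻¹) * g⁻¹ = H.toG w
        group) }
  map_one' := LinearEquiv.ext fun w => H.toG_inj (by
    show 1 * H.toG w * 1⁻¹ = H.toG w
    group)
  map_mul' a b := LinearEquiv.ext fun w => H.toG_inj (by
    show a * b * H.toG w * (a * b)⁻¹ = a * (b * H.toG w * b⁻¹) * a⁻¹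
    group)

theorem Hyp.act_toG (g : G) (w : Vec H) : g * H.toG w * g⁻¹ = H.toG (H.act g w) := rfl

theorem Hyp.act_eq_one {g : G} : H.act g = 1 ↔ g ∈ Subgroup.centralizer (V : Set G) := by
  constructor
  · intro e
    refine Subgroup.mem_centralizer_iff.mpr fun v hv => ?_
    have h1 := H.act_toG g (H.ofG v hv)
    rw [e, LinearEquiv.coe_one, id, H.toG_ofG, mul_inv_eq_iff_eq_mul] at h1
    exact h1.symm
  · intro hg
    refine LinearEquiv.ext fun w => H.toG_inj ?_
    rw [← H.act_toG, ← Subgroup.mem_centralizer_iff.mp hg _ (H.toG_mem w), mul_inv_cancel_right]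
    rfl

theorem Hyp.ker_act : H.act.ker = Subgroup.centralizer (V : Set G) :=
  Subgroup.ext fun _ => MonoidHom.mem_ker.trans H.act_eq_one

theorem Hyp.finrank_vec [Finite G] : Module.finrank (ZMod 2) (Vec H) = r := by
  have h1 : Nat.card (Vec H) = 2 ^ r := H.card
  rw [Module.natCard_eq_pow_finrank (K := ZMod 2), Nat.card_zmod] at h1
  exact Nat.pow_right_injective (le_refl 2) h1

theorem Hyp.act_transitive (v w : Vec H) (hv : v ≠ 0) (hw : w ≠ 0) : ∃ g : G, H.act g v = w := by
  obtain ⟨g, hg⟩ := H.trans _ (H.toG_mem v) _ (H.toG_mem w) (fun e => hv (H.toG_inj e)) (fun e => hw (H.toG_inj e))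
  exact ⟨g, H.toG_inj hg⟩

/-- A Sylow 2-subgroup of `C_G(V)` is normal there, with odd index. -/
theorem Hyp.cent_solvable [Finite G] (H : Hyp V r) : Group.IsSolvable (Subgroup.centralizer (V : Set G)) := by
  haveI : Fact (Nat.Prime 2) := ⟨Nat.prime_two⟩
  let P : Sylow 2 (Subgroup.centralizer (V : Set G)) := default
  haveI : (P : Subgroup (Subgroup.centralizer (V : Set G))).Normal := by
    rw [← sub_subgroupOf]
    haveI := H.sylow_normal P
    infer_instance
  haveI : Group.IsNilpotent (P : Subgroup (Subgroup.centralizer (V : Set G))) := P.2.isNilpotent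
  have hodd : Odd (Nat.card (Subgroup.centralizer (V : Set G) ⧸ (P : Subgroup (Subgroup.centralizer (V : Set G))))) := by
    rw [← Subgroup.index_eq_card]
    exact Nat.not_even_iff_odd.mp fun he => P.not_dvd_index (even_iff_two_dvd.mp he)
  haveI := CfsgLib.OddOrder.feitThompson hodd
  exact Group.isSolvable_of_ker_le_range (P : Subgroup (Subgroup.centralizer (V : Set G))).subtype
    (QuotientGroup.mk' (P : Subgroup (Subgroup.centralizer (V : Set G))))
    (by rw [QuotientGroup.ker_mk', Subgroup.range_subtype])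

end CfsgLib.Pyramidal
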