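import Cfsg.Agent.Lib.Pyramidal.Quad

/-!
Averaging over odd-order groups of isometries, and semiregularity of invariant abelian groups of isometries.
-/

set_option autoImplicit false

namespace CfsgLib.Pyramidal

universe u v

variable {M : Type u} {V : Type v} [AddCommGroup M] [AddCommGroup V] [Module (ZMod 2) M] [Module (ZMod 2) V]
  [Finite M] [Finite V]

variable {Q : M → V} {B : M →ₗ[ZMod 2] M →ₗ[ZMod 2] V} {h : M ≃ₗ[ZMod 2] M} {k : V ≃ₗ[ZMod 2] V} {r : ℕ}

/-- The common fixed points. -/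
def fixS (S : Subgroup (M ≃ₗ[ZMod 2] M)) : Submodule (ZMod 2) M :=
  ⨅ s : S, LinearMap.eqLocus ((s : M ≃ₗ[ZMod 2] M) : M →ₗ[ZMod 2] M) LinearMap.id

omit [Finite M] in
theorem mem_fixS {S : Subgroup (M ≃ₗ[ZMod 2] M)} {x : M} : x ∈ fixS S ↔ ∀ s ∈ S, s x = x := by
  simp [fixS, Submodule.mem_iInf]

/-- The sum over a subgroup. -/
noncomputable def avg (S : Subgroup (M ≃ₗ[ZMod 2] M)) : M →ₗ[ZMod 2] M :=
  ∑ᶠ s : S, ((s : M ≃ₗ[ZMod 2] M) : M →ₗ[ZMod 2] M)

instance : Finite (M ≃ₗ[ZMod 2] M) :=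
  Finite.of_injective (fun e : M ≃ₗ[ZMod 2] M => (e : M → M)) DFunLike.coe_injective

theorem avg_apply (S : Subgroup (M ≃ₗ[ZMod 2] M)) [Fintype S] (x : M) :
    avg S x = ∑ s : S, (s : M ≃ₗ[ZMod 2] M) x := by
  rw [avg, finsum_eq_sum_of_fintype, LinearMap.sum_apply]
  rfl

theorem avg_mem (S : Subgroup (M ≃ₗ[ZMod 2] M)) (x : M) : avg S x ∈ fixS S := by
  classical
  haveI := Fintype.ofFinite S
  refine mem_fixS.mpr fun t ht => ?_
  rw [avg_apply, map_sum]
  exact Fintype.sum_equiv (Equiv.mulLeft (⟨t, ht⟩ : S)) _ _ fun s => rfl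

theorem avg_fixed (S : Subgroup (M ≃ₗ[ZMod 2] M)) (hodd : Odd (Nat.card S)) {x : M} (hx : x ∈ fixS S) :
    avg S x = x := by
  classical
  haveI := Fintype.ofFinite S
  rw [avg_apply, Finset.sum_congr rfl fun (s : S) _ => mem_fixS.mp hx s s.2, Finset.sum_const, Finset.card_univ,
    ← Nat.card_eq_fintype_card]
  obtain ⟨m, hm⟩ := hodd
  rw [hm, succ_nsmul, mul_nsmul, two_nsmul, add_self, nsmul_zero, zero_add]

theorem avg_comm (S : Subgroup (M ≃ₗ[ZMod 2] M)) {g : M ≃ₗ[ZMod 2] M} (hg : ∀ s ∈ S, g * s = s * g) (x : M) :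
    avg S (g x) = g (avg S x) := by
  classical
  haveI := Fintype.ofFinite S
  rw [avg_apply, avg_apply, map_sum]
  exact Finset.sum_congr rfl fun s _ =>
    (LinearEquiv.congr_fun (hg s s.2) x).symm

/-- The kernel of the sum is a complement of the fixed points, orthogonal to them. -/
theorem Sys.avg_orth (T : Sys Q B h k r) (S : Subgroup (M ≃ₗ[ZMod 2] M)) (hodd : Odd (Nat.card S))
    (hiso : ∀ s ∈ S, ∀ x, Q (s x) = Q x) {f w : M} (hf : f ∈ fixS S) (hw : avg S w = 0) : B f w = 0 := by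
  classical
  haveI := Fintype.ofFinite S
  have h1 : ∑ s : S, B f ((s : M ≃ₗ[ZMod 2] M) w) = (Fintype.card S) • B f w := by
    rw [← Finset.card_univ, ← Finset.sum_const]
    refine Finset.sum_congr rfl fun s _ => ?_
    conv_lhs => rw [← mem_fixS.mp hf s s.2]
    exact T.B_iso (hiso s s.2) f w
  rw [← map_sum, ← avg_apply, hw, map_zero, ← Nat.card_eq_fintype_card] at h1
  obtain ⟨m, hm⟩ := hodd
  rw [hm, succ_nsmul, mul_nsmul, two_nsmul, add_self, nsmul_zero, zero_add] at h1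
  exact h1.symm

theorem conj_mem_iterate {E : Subgroup (M ≃ₗ[ZMod 2] M)} {g : M ≃ₗ[ZMod 2] M}
    (hinv : ∀ e ∈ E, g * e * g⁻¹ ∈ E) : ∀ (i : ℕ), ∀ e ∈ E, g ^ i * e * (g ^ i)⁻¹ ∈ E := by
  intro i
  induction i with
  | zero => intro e he; simpa using he
  | succ i ih =>
    intro e he
    rw [pow_succ', mul_inv_rev, show g * g ^ i * e * ((g ^ i)⁻¹ * g⁻¹) = g * (g ^ i * e * (g ^ i)⁻¹) * g⁻¹ by group]
    exact hinv _ (ih e he)

theorem conj_mem_inv {E : Subgroup (M ≃ₗ[ZMod 2] M)} {g : M ≃ₗ[ZMod 2] M}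
    (hinv : ∀ e ∈ E, g * e * g⁻¹ ∈ E) : ∀ e ∈ E, g⁻¹ * e * g ∈ E := by
  intro e he
  obtain ⟨i, hi⟩ := (isOfFinOrder_of_finite g).mem_powers_iff_mem_zpowers.mpr
    (inv_mem (Subgroup.mem_zpowers g))
  have h1 := conj_mem_iterate hinv i e he
  rwa [show g ^ i = g⁻¹ from hi, inv_inv] at h1

/-- An abelian group of isometries of odd order which is invariant under `h` is semiregular. -/
theorem Sys.semireg_abelian (T : Sys Q B h k r) (E : Subgroup (M ≃ₗ[ZMod 2] M)) (hodd : Odd (Nat.card E))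
    (hiso : ∀ e ∈ E, ∀ x, Q (e x) = Q x) (hcomm : ∀ a ∈ E, ∀ b ∈ E, a * b = b * a)
    (hinv : ∀ e ∈ E, h * e * h⁻¹ ∈ E) {e : M ≃ₗ[ZMod 2] M} (he : e ∈ E) {x : M} (hx : e x = x) (hx0 : x ≠ 0) :
    e = 1 := by
  classical
  haveI := Fintype.ofFinite M
  by_contra he1
  -- the stabilisers
  let st : M → Subgroup (M ≃ₗ[ZMod 2] M) := fun y =>
    { carrier := {s | s ∈ E ∧ s y = y}
      one_mem' := ⟨E.one_mem, rfl⟩
      mul_mem' := fun {a b} ha hb => ⟨E.mul_mem ha.1 hb.1, by rw [LinearEquiv.mul_apply, hb.2, ha.2]⟩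
      inv_mem' := fun {a} ha => ⟨E.inv_mem ha.1, by
        conv_lhs => rw [← ha.2]
        rw [← LinearEquiv.mul_apply, inv_mul_cancel]; rfl⟩ }
  obtain ⟨x₀, hx₀, hmax⟩ := (Finset.univ.filter fun y : M => y ≠ 0).exists_max_image
    (fun y => Nat.card (st y)) ⟨x, by simp [hx0]⟩
  simp only [Finset.mem_filter, Finset.mem_univ, true_and] at hx₀ hmax
  have hE0 : st x₀ ≠ ⊥ := by
    intro e0
    have h1 := hmax x hx0
    rw [e0, Subgroup.card_bot] at h1
    exact he1 ((Subgroup.eq_bot_iff_forall _).mp (Subgroup.eq_bot_of_card_le _ h1) e ⟨he, hx⟩)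
  set E0 := st x₀ with hE0def
  have hE0odd : ∀ y, Odd (Nat.card (st y)) := fun y =>
    hodd.of_dvd_nat (Subgroup.card_dvd_of_le fun s hs => hs.1)
  set F := fixS E0 with hF
  have hx₀F : x₀ ∈ F := mem_fixS.mpr fun s hs => hs.2
  by_cases hFinv : ∀ u ∈ F, h u ∈ F
  · -- invariant fixed space
    have hE0inv : ∀ s ∈ E0, h * s * h⁻¹ ∈ E0 := by
      intro s hs
      refine ⟨hinv s hs.1, ?_⟩
      -- `h` permutes `F`
      have hsurj : ∃ u ∈ F, h u = x₀ := by
        have hb : Function.Bijective (fun u : F => (⟨h u, hFinv u u.2⟩ : F)) :=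
          Finite.injective_iff_bijective.mp fun a b e =>
            Subtype.ext (h.injective (congrArg Subtype.val e))
        obtain ⟨u, hu⟩ := hb.2 ⟨x₀, hx₀F⟩
        exact ⟨u, u.2, congrArg Subtype.val hu⟩
      obtain ⟨u, hu, hue⟩ := hsurj
      rw [LinearEquiv.mul_apply, LinearEquiv.mul_apply, ← hue, ← LinearEquiv.mul_apply h⁻¹ h, inv_mul_cancel]
      exact congrArg h (mem_fixS.mp hu s hs)
    have hW : ∀ w ∈ LinearMap.ker (avg E0), h w ∈ LinearMap.ker (avg E0) := by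
      intro w hw
      rw [LinearMap.mem_ker] at hw ⊢
      haveI := Fintype.ofFinite E0
      rw [avg_apply] at hw ⊢
      have hb : Function.Bijective (fun s : E0 => (⟨h * (s : M ≃ₗ[ZMod 2] M) * h⁻¹, hE0inv s s.2⟩ : E0)) :=
        Finite.injective_iff_bijective.mp fun a b e => Subtype.ext (by
          simpa using congrArg Subtype.val e)
      rw [← hb.sum_comp]
      calc ∑ s : E0, (h * (s : M ≃ₗ[ZMod 2] M) * h⁻¹) (h w) = ∑ s : E0, h ((s : M ≃ₗ[ZMod 2] M) w) := by
            refine Finset.sum_congr rfl fun s _ => ?_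
            rw [LinearEquiv.mul_apply, LinearEquiv.mul_apply, ← LinearEquiv.mul_apply h⁻¹ h, inv_mul_cancel]
            rfl
        _ = 0 := by rw [← map_sum, hw, map_zero]
    have hd : F ⊓ LinearMap.ker (avg E0) = ⊥ := by
      refine (Submodule.eq_bot_iff _).mpr fun y hy => ?_
      have h1 := avg_fixed E0 (hE0odd x₀) hy.1
      rw [LinearMap.mem_ker.mp hy.2] at h1
      exact h1.symm
    rcases T.no_orth hFinv hW hd fun a ha b hb => T.avg_orth E0 (hE0odd x₀) (fun s hs => hiso s hs.1) ha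
      (LinearMap.mem_ker.mp hb) with h1 | h1
    · exact hx₀ ((Submodule.mem_bot (ZMod 2)).mp (h1 ▸ hx₀F))
    · refine hE0 ((Subgroup.eq_bot_iff_forall _).mpr fun s hs => LinearEquiv.ext fun y => ?_)
      have h2 : y + avg E0 y ∈ LinearMap.ker (avg E0) := by
        rw [LinearMap.mem_ker, map_add, avg_fixed E0 (hE0odd x₀) (avg_mem E0 y), add_self]
      rw [h1, Submodule.mem_bot] at h2
      rw [eq_of_add_eq_zero h2]
      exact mem_fixS.mp (avg_mem E0 y) s hs
  · -- the orbit of the fixed space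
    push Not at hFinv
    obtain ⟨a, ha⟩ := T.hord
    set p := 2 ^ r - 1 with hp
    haveI := Fact.mk T.hp
    let f : Submodule (ZMod 2) M → Submodule (ZMod 2) M := fun U => U.map (h : M →ₗ[ZMod 2] M)
    have hit : ∀ i, f^[i] F = F.map ((h ^ i : M ≃ₗ[ZMod 2] M) : M →ₗ[ZMod 2] M) := by
      intro i
      induction i with
      | zero => exact (Submodule.map_id F).symm
      | succ i ih =>
        rw [Function.iterate_succ_apply', ih, pow_succ']
        show Submodule.map _ (Submodule.map _ F) = _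
        rw [← Submodule.map_comp]; rfl
    have hper : Function.IsPeriodicPt f (p ^ a) F := by
      show f^[p ^ a] F = F
      rw [hit, ha]
      exact Submodule.map_id F
    have hm : p ≤ Function.minimalPeriod f F := by
      obtain ⟨j, -, hj⟩ := (Nat.dvd_prime_pow T.hp).mp hper.minimalPeriod_dvd
      rw [hj]
      rcases j with _ | j
      · exfalso
        have h1 := Function.iterate_minimalPeriod (f := f) (x := F)
        rw [hj, pow_zero, Function.iterate_one] at h1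
        obtain ⟨u, hu, hun⟩ := hFinv
        exact hun (h1 ▸ Submodule.mem_map_of_mem hu)
      · rw [pow_succ']; exact Nat.le_mul_of_pos_right _ (pow_pos T.hp.pos _)
    -- distinct pieces
    have hFi : ∀ i : ℕ, f^[i] F = fixS (st ((h ^ i) x₀)) := by
      intro i
      rw [hit]
      ext y
      have hmem : ∀ s : M ≃ₗ[ZMod 2] M, s ∈ st x₀ → h ^ i * s * (h ^ i)⁻¹ ∈ st ((h ^ i) x₀) := fun s hs =>
        ⟨conj_mem_iterate hinv i s hs.1, by
          rw [LinearEquiv.mul_apply, LinearEquiv.mul_apply, ← LinearEquiv.mul_apply (h ^ i)⁻¹, inv_mul_cancel]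
          exact congrArg (h ^ i) hs.2⟩
      have hmem' : ∀ s : M ≃ₗ[ZMod 2] M, s ∈ st ((h ^ i) x₀) → (h ^ i)⁻¹ * s * h ^ i ∈ st x₀ := fun s hs =>
        ⟨conj_mem_inv (E := E) (g := h ^ i) (fun e he => conj_mem_iterate hinv i e he) s hs.1, by
          rw [LinearEquiv.mul_apply, LinearEquiv.mul_apply, hs.2, ← LinearEquiv.mul_apply, inv_mul_cancel]
          rfl⟩
      constructor
      · rintro ⟨u, hu, rfl⟩
        refine mem_fixS.mpr fun s hs => ?_
        have h1 := mem_fixS.mp hu _ (hmem' s hs)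
        rw [LinearEquiv.mul_apply, LinearEquiv.mul_apply] at h1
        have h2 := congrArg (h ^ i) h1
        rwa [← LinearEquiv.mul_apply (h ^ i) (h ^ i)⁻¹, mul_inv_cancel] at h2
      · intro hy
        refine ⟨((h ^ i)⁻¹ : M ≃ₗ[ZMod 2] M) y, mem_fixS.mpr fun s hs => ?_, ?_⟩
        · have h1 := mem_fixS.mp hy _ (hmem s hs)
          rw [LinearEquiv.mul_apply, LinearEquiv.mul_apply] at h1
          have h2 := congrArg ((h ^ i)⁻¹ : M ≃ₗ[ZMod 2] M) h1
          rwa [← LinearEquiv.mul_apply (h ^ i)⁻¹ (h ^ i), inv_mul_cancel] at h2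
        · show (h ^ i) (((h ^ i)⁻¹ : M ≃ₗ[ZMod 2] M) y) = y
          rw [← LinearEquiv.mul_apply, mul_inv_cancel]
          rfl
    have hmaxi : ∀ (i : ℕ) (y : M), y ≠ 0 → st ((h ^ i) x₀) ≤ st y → st y = st ((h ^ i) x₀) := by
      intro i y hy hle
      refine (Subgroup.eq_of_le_of_card_ge hle (le_trans (hmax y hy) ?_)).symm
      exact Nat.card_le_card_of_injective
        (fun s : st x₀ => (⟨h ^ i * (s : M ≃ₗ[ZMod 2] M) * (h ^ i)⁻¹, conj_mem_iterate hinv i s s.2.1, by
          rw [LinearEquiv.mul_apply, LinearEquiv.mul_apply, ← LinearEquiv.mul_apply (h ^ i)⁻¹, inv_mul_cancel]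
          exact congrArg (h ^ i) s.2.2⟩ : st ((h ^ i) x₀)))
        fun s t e => Subtype.ext (by simpa using congrArg Subtype.val e)
    have hzero : ∀ i j : Fin p, i ≠ j → ∀ z ∈ f^[(i : ℕ)] F, avg (st ((h ^ (j : ℕ)) x₀)) z = 0 := by
      intro i j hij z hz
      by_contra hy
      rw [hFi] at hz
      set y := avg (st ((h ^ (j : ℕ)) x₀)) z with hydef
      have h1 : st ((h ^ (i : ℕ)) x₀) ≤ st y := fun s hs => by
        refine ⟨hs.1, ?_⟩
        have hc : ∀ t ∈ st ((h ^ (j : ℕ)) x₀), s * t = t * s := fun t ht => hcomm s hs.1 t ht.1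
        rw [hydef, ← avg_comm _ hc, mem_fixS.mp hz s hs]
      have h2 : st ((h ^ (j : ℕ)) x₀) ≤ st y := fun s hs => ⟨hs.1, mem_fixS.mp (avg_mem _ z) s hs⟩
      have h3 : f^[(i : ℕ)] F = f^[(j : ℕ)] F := by
        rw [hFi, hFi, ← hmaxi _ y hy h1, ← hmaxi _ y hy h2]
      exact hij (Fin.ext (Function.iterate_injOn_Iio_minimalPeriod
        (Set.mem_Iio.mpr (lt_of_lt_of_le i.2 hm)) (Set.mem_Iio.mpr (lt_of_lt_of_le j.2 hm)) h3))
    have hinj : Function.Injective (fun w : Π i : Fin p, ↥(f^[(i : ℕ)] F) => ∑ i, (w i : M)) := by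
      intro w w' hww
      funext j
      have h1 := congrArg (avg (st ((h ^ (j : ℕ)) x₀))) hww
      have hev : ∀ w : Π i : Fin p, ↥(f^[(i : ℕ)] F),
          avg (st ((h ^ (j : ℕ)) x₀)) (∑ i, (w i : M)) = w j := fun w => by
        rw [map_sum, Finset.sum_eq_single j (fun i _ hi => hzero i j hi _ (w i).2) (by simp)]
        refine avg_fixed _ (hE0odd _) ?_
        rw [← hFi]
        exact (w j).2
      rw [hev, hev] at h1
      exact Subtype.ext h1
    have hcard := Nat.card_le_card_of_injective _ hinj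
    rw [Nat.card_pi] at hcard
    -- each piece has at least four elements
    obtain ⟨s, hsE, hs⟩ : ∃ s ∈ E, s x₀ ≠ x₀ := by
      by_contra hall
      push Not at hall
      obtain ⟨u, hu, hun⟩ := hFinv
      refine hun (mem_fixS.mpr fun t ht => ?_)
      have h1 := mem_fixS.mp hu (h⁻¹ * t * h) ⟨conj_mem_inv hinv t ht.1, hall _ (conj_mem_inv hinv t ht.1)⟩
      rw [LinearEquiv.mul_apply, LinearEquiv.mul_apply] at h1
      have h2 := congrArg h h1
      rwa [← LinearEquiv.mul_apply h h⁻¹, mul_inv_cancel] at h2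
    have hsF : s x₀ ∈ F := mem_fixS.mpr fun t ht => by
      rw [← LinearEquiv.mul_apply, hcomm t ht.1 s hsE, LinearEquiv.mul_apply, ht.2]
    have hsx : s x₀ ≠ 0 := fun e => hx₀ ((map_eq_zero_iff s s.injective).mp e)
    have h4 : ∀ i : Fin p, 4 ≤ Nat.card ↥(f^[(i : ℕ)] F) := by
      intro i
      rw [hit, Nat.card_congr ((h ^ (i : ℕ)).submoduleMap F).toEquiv.symm, card_eq_two_pow]
      have h3 : 3 ≤ Nat.card F := by
        let g : Fin 3 → F := ![0, ⟨x₀, hx₀F⟩, ⟨s x₀, hsF⟩]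
        have hg : Function.Injective g := by
          intro a b e
          have e' : ((g a : F) : M) = g b := congrArg Subtype.val e
          fin_cases a <;> fin_cases b <;>
            simp [g, hx₀, Ne.symm hx₀, hs, Ne.symm hs, hsx, Ne.symm hsx] at e' ⊢
        simpa using Nat.card_le_card_of_injective g hg
      rw [card_eq_two_pow] at h3
      rcases Nat.lt_or_ge (Module.finrank (ZMod 2) F) 2 with h2 | h2
      · exfalso
        have : 2 ^ Module.finrank (ZMod 2) F ≤ 2 ^ 1 := Nat.pow_le_pow_right (by norm_num) (by omega)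
        omega
      · exact (show (4 : ℕ) = 2 ^ 2 by norm_num) ▸ Nat.pow_le_pow_right (by norm_num) h2
    have h5 : 4 ^ p ≤ Nat.card M := by
      refine le_trans ?_ hcard
      calc 4 ^ p = ∏ _i : Fin p, 4 := by rw [Finset.prod_const, Finset.card_univ, Fintype.card_fin]
        _ ≤ _ := Finset.prod_le_prod' fun i _ => h4 i
    have h6 : r < p := by
      have h7 := Nat.lt_two_pow_self (n := r - 1)
      have hr2 := T.prime_r.two_le
      have h8 : 2 ^ r = 2 ^ (r - 1) * 2 := by rw [← pow_succ, Nat.sub_add_cancel (by omega)]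
      omega
    have h9 := h5.trans T.small
    rw [show (4 : ℕ) = 2 ^ 2 by norm_num, ← pow_mul] at h9
    have := (Nat.pow_le_pow_iff_right (le_refl 2)).mp h9
    omega

end CfsgLib.Pyramidal
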