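import Cfsg.Agent.Lib.Pyramidal.Avg

/-!
The commutant of `h` together with a semiregular isometry is a field; consequences for isometries.
-/

set_option autoImplicit false

namespace CfsgLib.Pyramidal

universe u v

variable {M : Type u} {V : Type v} [AddCommGroup M] [AddCommGroup V] [Module (ZMod 2) M] [Module (ZMod 2) V]
  [Finite M] [Finite V]

variable {Q : M → V} {B : M →ₗ[ZMod 2] M →ₗ[ZMod 2] V} {h : M ≃ₗ[ZMod 2] M} {k : V ≃ₗ[ZMod 2] V} {r : ℕ}

/-- A permutation of prime power order without fixed points. -/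
theorem free_card {α : Type*} [Finite α] {q a : ℕ} (hq : q.Prime) (σ : Equiv.Perm α) (hσ : σ ^ q ^ a = 1)
    (hfree : ∀ x, σ x ≠ x) : q ∣ Nat.card α := by
  classical
  haveI := Fintype.ofFinite α
  haveI := Fact.mk hq
  have h1 := Equiv.Perm.card_compl_support_modEq hσ
  have h2 : σ.supportᶜ = ∅ := by
    ext x
    simp [hfree x]
  rw [h2, Finset.card_empty] at h1
  rw [Nat.card_eq_fintype_card]
  exact Nat.modEq_zero_iff_dvd.mp h1.symm

/-- Semiregular: no non-zero fixed vector. -/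
def Free (g : M ≃ₗ[ZMod 2] M) : Prop := ∀ x, g x = x → x = 0

theorem Sys.exists_ne_zero (S : Sys Q B h k r) : ∃ v : V, v ≠ 0 := by
  have hr := S.prime_r.two_le
  haveI : Nontrivial V := Finite.one_lt_card_iff_nontrivial.mp (by
    rw [S.cardV]
    exact lt_of_lt_of_le (by norm_num) (Nat.pow_le_pow_right (by norm_num) hr))
  exact exists_ne 0

theorem Sys.two_le_p (S : Sys Q B h k r) : 3 ≤ 2 ^ r - 1 := by
  have h4 : 2 ^ 2 ≤ 2 ^ r := Nat.pow_le_pow_right (by norm_num) S.prime_r.two_le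
  omega

theorem exists_ne_zero_of_ne_one {g : M ≃ₗ[ZMod 2] M} (hg : g ≠ 1) : ∃ x : M, x ≠ 0 := by
  by_contra hc
  push Not at hc
  exact hg (LinearEquiv.ext fun x => (hc (g x)).trans (hc x).symm)

theorem Sys.top_inv (_S : Sys Q B h k r) : ∀ u ∈ (⊤ : Submodule (ZMod 2) M), h u ∈ (⊤ : Submodule (ZMod 2) M) :=
  fun _ _ => trivial

/-- The prime order of a semiregular isometry divides `2 ^ r + 1`. -/
theorem Sys.prime_dvd (S : Sys Q B h k r) {g : M ≃ₗ[ZMod 2] M} (hiso : ∀ x, Q (g x) = Q x) (hg : g ≠ 1)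
    (hfree : Free g) {l : ℕ} (hl : l.Prime) (hgl : g ^ l = 1) : l ∣ 2 ^ r + 1 := by
  obtain ⟨v, hv⟩ := S.exists_ne_zero
  obtain ⟨x, hx⟩ := exists_ne_zero_of_ne_one hg
  have hne : (⊤ : Submodule (ZMod 2) M) ≠ ⊥ := (Submodule.ne_bot_iff _).mpr ⟨x, trivial, hx⟩
  have hf := S.card_fibre S.top_inv hv
  set α := {u : (⊤ : Submodule (ZMod 2) M) // Q u = v}
  let σ : Equiv.Perm α :=
    { toFun := fun u => ⟨⟨g u.1.1, trivial⟩, (hiso _).trans u.2⟩
      invFun := fun u => ⟨⟨g.symm u.1.1, trivial⟩, by rw [← hiso, g.apply_symm_apply]; exact u.2⟩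
      left_inv := fun u => Subtype.ext (Subtype.ext (g.symm_apply_apply _))
      right_inv := fun u => Subtype.ext (Subtype.ext (g.apply_symm_apply _)) }
  have hpow : ∀ (n : ℕ) (u : α), (((σ ^ n) u).1 : M) = (g ^ n) u.1.1 := by
    intro n
    induction n with
    | zero => exact fun u => rfl
    | succ n ih =>
      intro u
      rw [pow_succ', pow_succ', Equiv.Perm.mul_apply, LinearEquiv.mul_apply, ← ih]
      rfl
  have h1 : l ∣ Nat.card α := free_card (a := 1) hl σ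
    (Equiv.ext fun u => Subtype.ext (Subtype.ext (by rw [pow_one, hpow, hgl]; rfl)))
    fun u e => hv (by
      have h0 := hfree u.1.1 (congrArg (fun z : α => z.1.1) e)
      rw [← u.2, h0, S.Q_zero])
  have hpos := S.hp.pos
  rcases S.card_cases S.top_inv hne with e | e <;> rw [e] at hf
  · exfalso
    have : Nat.card α = 1 := (mul_eq_left₀ (by omega)).mp hf.symm
    exact hl.one_lt.ne' (Nat.dvd_one.mp (this ▸ h1))
  · have h2 : 2 ^ (2 * r) - 1 = (2 ^ r - 1) * (2 ^ r + 1) := by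
      rw [show 2 * r = r * 2 by ring, pow_mul, mul_comm _ (2 ^ r + 1), ← Nat.sq_sub_sq, one_pow]
    rw [h2] at hf
    rwa [← Nat.eq_of_mul_eq_mul_left hpos hf] at h1

theorem Sys.p_not_dvd (S : Sys Q B h k r) : ¬ (2 ^ r - 1) ∣ 2 ^ r + 1 := by
  intro hd
  have h4 : 2 ^ 2 ≤ 2 ^ r := Nat.pow_le_pow_right (by norm_num) S.prime_r.two_le
  have h2 : (2 ^ r - 1) ∣ 2 := by
    have := Nat.dvd_sub hd (dvd_refl _)
    rwa [show 2 ^ r + 1 - (2 ^ r - 1) = 2 by omega] at this
  have := Nat.le_of_dvd (by norm_num) h2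
  omega

/-- A semiregular isometry of `p`-power order is trivial. -/
theorem Sys.eq_one_of_pow (S : Sys Q B h k r) {c : M ≃ₗ[ZMod 2] M} (hiso : ∀ x, Q (c x) = Q x)
    (hfree : ∀ n : ℕ, c ^ n ≠ 1 → Free (c ^ n)) {a : ℕ} (hc : c ^ (2 ^ r - 1) ^ a = 1) : c = 1 := by
  obtain ⟨j, -, hj⟩ := (Nat.dvd_prime_pow S.hp).mp (orderOf_dvd_of_pow_eq_one hc)
  rcases j with _ | j
  · rw [pow_zero] at hj
    exact orderOf_eq_one_iff.mp hj
  exfalso
  have h1 : c ^ (2 ^ r - 1) ^ j ≠ 1 := by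
    refine fun e => absurd (orderOf_dvd_of_pow_eq_one e) (fun hd => ?_)
    rw [hj, pow_succ] at hd
    have h2 := Nat.le_of_dvd (pow_pos S.hp.pos j) hd
    have := S.two_le_p
    nlinarith [pow_pos S.hp.pos j]
  refine S.p_not_dvd (S.prime_dvd ?_ h1 (hfree _ h1) S.hp ?_)
  · intro x
    generalize (2 ^ r - 1) ^ j = n
    induction n generalizing x with
    | zero => rfl
    | succ n ih => rw [pow_succ, LinearEquiv.mul_apply, ih, hiso]
  · rw [← pow_mul, ← pow_succ, ← hj, pow_orderOf_eq_one]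

theorem Sys.h_ne_one (S : Sys Q B h k r) {x : M} (hx : x ≠ 0) : h x ≠ x := by
  intro e
  have hk : ∀ i : ℕ, (k ^ i) (Q x) = Q x := fun i => by
    rw [← S.equiv_pow]
    congr 1
    induction i with
    | zero => rfl
    | succ i ih => rw [pow_succ, LinearEquiv.mul_apply, e, ih]
  have hcard : Nat.card V ≤ 2 := by
    classical
    haveI := Fintype.ofFinite V
    rw [Nat.card_eq_fintype_card, ← Finset.card_univ]
    refine le_trans (Finset.card_le_card (t := {0, Q x}) fun v _ => ?_) Finset.card_le_two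
    by_cases hv : v = 0
    · simp [hv]
    · obtain ⟨i, hi⟩ := S.trans (Q x) v (fun e => hx (S.anis x e)) hv
      rw [hk] at hi
      simp [← hi]
  rw [S.cardV] at hcard
  have := S.two_le_p
  omega

/-- A linear map commuting with `h` and with a semiregular isometry is zero or injective. -/
theorem Sys.inj_or_zero (S : Sys Q B h k r) {e : M ≃ₗ[ZMod 2] M} (hiso : ∀ x, Q (e x) = Q x) (hfree : Free e)
    {g : Module.End (ZMod 2) M} (hgh : ∀ x, g (h x) = h (g x)) (hge : ∀ x, g (e x) = e (g x)) {x : M}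
    (hx0 : x ≠ 0) (hgx : g x = 0) : g = 0 := by
  have hinv : ∀ u ∈ LinearMap.ker g, h u ∈ LinearMap.ker g := fun u hu => by
    rw [LinearMap.mem_ker] at hu ⊢
    rw [hgh, hu, map_zero]
  have hx : x ∈ LinearMap.ker g := LinearMap.mem_ker.mpr hgx
  by_cases htop : LinearMap.ker g = ⊤
  · exact LinearMap.ker_eq_top.mp htop
  exfalso
  refine hx0 (hfree x (S.inj_of_proper hinv htop ?_ hx (hiso x)))
  rw [LinearMap.mem_ker, hge, hgx, map_zero]

/-- Endomorphisms commuting with `h` and a semiregular isometry commute with each other. -/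
theorem Sys.commute_of (S : Sys Q B h k r) {e : M ≃ₗ[ZMod 2] M} (hiso : ∀ x, Q (e x) = Q x) (hfree : Free e)
    {f g : Module.End (ZMod 2) M} (hfh : ∀ x, f (h x) = h (f x)) (hfe : ∀ x, f (e x) = e (f x))
    (hgh : ∀ x, g (h x) = h (g x)) (hge : ∀ x, g (e x) = e (g x)) : f * g = g * f := by
  by_cases hM : ∀ x : M, x = 0
  · exact LinearMap.ext fun x => (hM _).trans (hM _).symm
  push Not at hM
  obtain ⟨x₀, hx₀⟩ := hM
  let C := Subalgebra.centralizer (ZMod 2)
    ({(h : M →ₗ[ZMod 2] M), (e : M →ₗ[ZMod 2] M)} : Set (Module.End (ZMod 2) M))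
  have hmem : ∀ φ : Module.End (ZMod 2) M, (∀ x, φ (h x) = h (φ x)) → (∀ x, φ (e x) = e (φ x)) → φ ∈ C := by
    intro φ h1 h2
    rw [Subalgebra.mem_centralizer_iff]
    rintro ψ (rfl | rfl)
    · exact LinearMap.ext fun x => (h1 x).symm
    · exact LinearMap.ext fun x => (h2 x).symm
  have hC : ∀ φ ∈ C, (∀ x, φ (h x) = h (φ x)) ∧ ∀ x, φ (e x) = e (φ x) := by
    intro φ hφ
    rw [Subalgebra.mem_centralizer_iff] at hφ
    exact ⟨fun x => (LinearMap.congr_fun (hφ _ (Or.inl rfl)) x).symm,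
      fun x => (LinearMap.congr_fun (hφ _ (Or.inr rfl)) x).symm⟩
  haveI : Finite C := Finite.of_injective (fun c : C => ((c : Module.End (ZMod 2) M) : M → M))
    fun a b e => Subtype.ext (DFunLike.coe_injective e)
  haveI : Nontrivial C := ⟨⟨0, 1, fun e => hx₀ (LinearMap.congr_fun (congrArg Subtype.val e) x₀).symm⟩⟩
  haveI : NoZeroDivisors C := ⟨fun {a b} hab => by
    by_contra hc
    push Not at hc
    obtain ⟨x, hx⟩ : ∃ x, (b : Module.End (ZMod 2) M) x ≠ 0 := by
      by_contra hx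
      push Not at hx
      exact hc.2 (Subtype.ext (LinearMap.ext hx))
    exact hc.1 (Subtype.ext (S.inj_or_zero hiso hfree (hC _ a.2).1 (hC _ a.2).2 hx
      (LinearMap.congr_fun (congrArg Subtype.val hab) x)))⟩
  haveI : IsDomain C := NoZeroDivisors.to_isDomain _
  exact congrArg Subtype.val
    ((Finite.isDomain_to_isField C).mul_comm ⟨f, hmem f hfh hfe⟩ ⟨g, hmem g hgh hge⟩)

theorem free_of_commute (S : Sys Q B h k r) {e : M ≃ₗ[ZMod 2] M} (hiso : ∀ x, Q (e x) = Q x) (hfree : Free e)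
    {g : M ≃ₗ[ZMod 2] M} (hgh : g * h = h * g) (hge : g * e = e * g) (hg : g ≠ 1) : Free g := by
  intro x hx
  by_contra hx0
  refine hg (LinearEquiv.ext fun y => ?_)
  have h1 := S.inj_or_zero hiso hfree (g := (g : M →ₗ[ZMod 2] M) + 1)
    (fun z => by
      show g (h z) + h z = h (g z + z)
      rw [map_add, ← LinearEquiv.mul_apply g h, hgh, LinearEquiv.mul_apply])
    (fun z => by
      show g (e z) + e z = e (g z + z)
      rw [map_add, ← LinearEquiv.mul_apply g e, hge, LinearEquiv.mul_apply])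
    hx0 (show g x + x = 0 by rw [hx, add_self])
  exact eq_of_add_eq_zero (LinearMap.congr_fun h1 y)

theorem commute_of_commute (S : Sys Q B h k r) {e : M ≃ₗ[ZMod 2] M} (hiso : ∀ x, Q (e x) = Q x) (hfree : Free e)
    {f g : M ≃ₗ[ZMod 2] M} (hfh : f * h = h * f) (hfe : f * e = e * f) (hgh : g * h = h * g)
    (hge : g * e = e * g) : f * g = g * f := by
  have h1 := S.commute_of hiso hfree (f := (f : M →ₗ[ZMod 2] M)) (g := (g : M →ₗ[ZMod 2] M))
    (LinearEquiv.congr_fun hfh) (LinearEquiv.congr_fun hfe) (LinearEquiv.congr_fun hgh)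
    (LinearEquiv.congr_fun hge)
  exact LinearEquiv.ext (LinearMap.congr_fun h1)

/-- An element of odd order commuting with `h` and normalising a semiregular subgroup of prime order commutes
with it. -/
theorem Sys.galois (S : Sys Q B h k r) {e d : M ≃ₗ[ZMod 2] M} (hiso : ∀ x, Q (e x) = Q x) (hfree : Free e)
    (heh : e * h = h * e) (hdh : d * h = h * d) (hodd : Odd (orderOf d)) {i : ℕ} (hde : d * e * d⁻¹ = e ^ i) :
    d * e = e * d := by
  by_contra hne
  by_cases hM : ∀ x : M, x = 0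
  · exact hne (LinearEquiv.ext fun x => (hM _).trans (hM _).symm)
  push Not at hM
  obtain ⟨x₀, hx₀⟩ := hM
  set e1 := d * e * d⁻¹ with he1
  set e2 := d * e1 * d⁻¹ with he2
  have he2' : e2 = e ^ (i * i) := by
    rw [he2, show e1 = e ^ i from hde, show d * e ^ i * d⁻¹ = (d * e * d⁻¹) ^ i from (conj_pow).symm, ← he1,
      show e1 = e ^ i from hde, ← pow_mul]
  have hcomm : ∀ n : ℕ, (e ^ n) * h = h * e ^ n ∧ e ^ n * e = e * e ^ n :=
    fun n => ⟨(Commute.pow_left heh n).eq, ((Commute.refl e).pow_left n).eq⟩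
  -- distinctness
  have h01 : e ≠ e1 := fun eq => hne (by
    have := congrArg (· * d) eq
    rw [he1] at this
    simp only [inv_mul_cancel_right] at this
    exact this.symm)
  have h12 : e1 ≠ e2 := fun eq => h01 (mul_right_cancel (mul_left_cancel
    (show d * e * d⁻¹ = d * e1 * d⁻¹ by rw [← he1, ← he2]; exact eq)))
  have h02 : e ≠ e2 := fun eq => by
    have h2 : ∀ n : ℕ, d ^ (2 * n) * e = e * d ^ (2 * n) := by
      have hc : Commute (d ^ 2) e := by
        show d ^ 2 * e = e * d ^ 2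
        conv_rhs => rw [eq, he2, he1]
        rw [pow_two]
        group
      intro n
      rw [pow_mul]
      exact (hc.pow_left n).eq
    obtain ⟨m, hm⟩ := hodd
    refine hne ?_
    have hd : d ^ (2 * (m + 1)) = d := by
      rw [show 2 * (m + 1) = orderOf d + 1 by omega, pow_succ, pow_orderOf_eq_one, one_mul]
    rw [← hd]
    exact h2 _
  -- the fixed subalgebra
  let L := Subalgebra.centralizer (ZMod 2)
    ({(h : M →ₗ[ZMod 2] M), (e : M →ₗ[ZMod 2] M), (d : M →ₗ[ZMod 2] M)} : Set (Module.End (ZMod 2) M))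
  let C := Subalgebra.centralizer (ZMod 2)
    ({(h : M →ₗ[ZMod 2] M), (e : M →ₗ[ZMod 2] M)} : Set (Module.End (ZMod 2) M))
  have hC : ∀ φ ∈ C, (∀ x, φ (h x) = h (φ x)) ∧ ∀ x, φ (e x) = e (φ x) := by
    intro φ hφ
    rw [Subalgebra.mem_centralizer_iff] at hφ
    exact ⟨fun x => (LinearMap.congr_fun (hφ _ (Or.inl rfl)) x).symm,
      fun x => (LinearMap.congr_fun (hφ _ (Or.inr rfl)) x).symm⟩
  have hLC : ∀ φ ∈ L, φ ∈ C ∧ ∀ x, φ (d x) = d (φ x) := by
    intro φ hφ
    rw [Subalgebra.mem_centralizer_iff] at hφ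
    refine ⟨Subalgebra.mem_centralizer_iff _ |>.mpr fun ψ hψ => hφ ψ ?_,
      fun x => (LinearMap.congr_fun (hφ _ (Or.inr (Or.inr rfl))) x).symm⟩
    rcases hψ with rfl | rfl
    · exact Or.inl rfl
    · exact Or.inr (Or.inl rfl)
  have heC : ∀ n : ℕ, ((e ^ n : M ≃ₗ[ZMod 2] M) : M →ₗ[ZMod 2] M) ∈ C := fun n =>
    Subalgebra.mem_centralizer_iff _ |>.mpr fun ψ hψ => by
      rcases hψ with rfl | rfl
      · exact LinearMap.ext (LinearEquiv.congr_fun (hcomm n).1.symm)
      · exact LinearMap.ext (LinearEquiv.congr_fun (hcomm n).2.symm)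
  haveI : Finite (Module.End (ZMod 2) M) := Finite.of_injective _ DFunLike.coe_injective
  have hevC : Function.Injective (fun c : C => (c : Module.End (ZMod 2) M) x₀) := by
    intro a b hab
    have hm : (a : Module.End (ZMod 2) M) - b ∈ C := sub_mem a.2 b.2
    exact Subtype.ext (sub_eq_zero.mp (S.inj_or_zero hiso hfree (hC _ hm).1 (hC _ hm).2 hx₀
      (by rw [LinearMap.sub_apply]; exact sub_eq_zero.mpr hab)))
  have hcardC : Nat.card C ≤ 2 ^ (2 * r) := (Nat.card_le_card_of_injective _ hevC).trans S.small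
  -- `h` acts freely on the non-zero elements of `L`
  have hhL : (h : M →ₗ[ZMod 2] M) ∈ L := Subalgebra.mem_centralizer_iff _ |>.mpr fun ψ hψ => by
    rcases hψ with rfl | rfl | rfl
    · rfl
    · exact LinearMap.ext (LinearEquiv.congr_fun heh)
    · exact LinearMap.ext (LinearEquiv.congr_fun hdh)
  have hcardL : 2 ^ r ≤ Nat.card L := by
    obtain ⟨a, ha⟩ := S.hord
    let W : Submodule (ZMod 2) (Module.End (ZMod 2) M) := Subalgebra.toSubmodule L
    let α := {φ : W // φ ≠ 0}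
    have hmap : ∀ φ : α, (h : M →ₗ[ZMod 2] M) * (φ.1 : Module.End (ZMod 2) M) ∈ W := fun φ => L.mul_mem hhL φ.1.2
    have hne0 : ∀ φ : α, (⟨_, hmap φ⟩ : W) ≠ 0 := fun φ e0 => φ.2 (Subtype.ext (LinearMap.ext fun x =>
      h.injective ((LinearMap.congr_fun (congrArg Subtype.val e0) x).trans (map_zero h).symm)))
    let σ : Equiv.Perm α := Equiv.ofBijective (fun φ => ⟨⟨_, hmap φ⟩, hne0 φ⟩)
      (Finite.injective_iff_bijective.mp fun φ ψ e0 => Subtype.ext (Subtype.ext (LinearMap.ext fun x =>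
        h.injective (LinearMap.congr_fun (congrArg (fun z : α => (z.1 : Module.End (ZMod 2) M)) e0) x))))
    have hpow : ∀ (n : ℕ) (φ : α) (x : M), (((σ ^ n) φ).1 : Module.End (ZMod 2) M) x
        = (h ^ n) ((φ.1 : Module.End (ZMod 2) M) x) := by
      intro n
      induction n with
      | zero => exact fun φ x => rfl
      | succ n ih =>
        intro φ x
        rw [pow_succ', pow_succ', Equiv.Perm.mul_apply, LinearEquiv.mul_apply, ← ih]
        rfl
    have hdvd : 2 ^ r - 1 ∣ Nat.card α := free_card S.hp σ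
      (Equiv.ext fun φ => Subtype.ext (Subtype.ext (LinearMap.ext fun x => by rw [hpow, ha]; rfl)))
      (fun φ e0 => φ.2 (Subtype.ext (LinearMap.ext fun x => by
        by_contra hx
        exact S.h_ne_one hx
          (LinearMap.congr_fun (congrArg (fun z : α => (z.1 : Module.End (ZMod 2) M)) e0) x))))
    have hα : Nat.card α + 1 = Nat.card W := by
      haveI := Fintype.ofFinite W
      classical
      rw [Nat.card_eq_fintype_card, Nat.card_eq_fintype_card, Fintype.card_subtype_compl,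
        Fintype.card_subtype_eq, Nat.sub_add_cancel Fintype.card_pos]
    have hpos : 0 < Nat.card α := Nat.card_pos_iff.mpr ⟨⟨⟨⟨_, hhL⟩, fun e0 => hx₀
      (h.injective ((LinearMap.congr_fun (congrArg Subtype.val e0) x₀).trans (map_zero h).symm))⟩⟩, inferInstance⟩
    have := Nat.le_of_dvd hpos hdvd
    show 2 ^ r ≤ Nat.card W
    omega
  -- three roots of a quadratic
  let Φ : L × L × L → C := fun t => ⟨(t.1 : Module.End (ZMod 2) M) + (t.2.1 : Module.End (ZMod 2) M) * ((e ^ 1 : M ≃ₗ[ZMod 2] M) : M →ₗ[ZMod 2] M)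
      + (t.2.2 : Module.End (ZMod 2) M) * (((e ^ 1 : M ≃ₗ[ZMod 2] M) : M →ₗ[ZMod 2] M) * ((e ^ 1 : M ≃ₗ[ZMod 2] M) : M →ₗ[ZMod 2] M)),
    C.add_mem (C.add_mem (hLC _ t.1.2).1 (C.mul_mem (hLC _ t.2.1.2).1 (heC 1)))
      (C.mul_mem (hLC _ t.2.2.2).1 (C.mul_mem (heC 1) (heC 1)))⟩
  obtain ⟨s, t, hst, hstne⟩ : ∃ s t, Φ s = Φ t ∧ s ≠ t := by
    by_contra hc
    push Not at hc
    have := Nat.card_le_card_of_injective Φ (fun s t e => hc s t e)
    rw [Nat.card_prod, Nat.card_prod] at this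
    have h2 : 2 ^ (2 * r) < 2 ^ r * (2 ^ r * 2 ^ r) := by
      rw [← pow_add, ← pow_add]
      exact Nat.pow_lt_pow_right (by norm_num) (by have := S.prime_r.two_le; omega)
    have := Nat.mul_le_mul hcardL (Nat.mul_le_mul hcardL hcardL)
    omega
  obtain ⟨A, hA, B', hB, D', hD, hrel, hnz⟩ : ∃ A ∈ L, ∃ B' ∈ L, ∃ D' ∈ L,
      (∀ x, A x + B' (e x) + D' (e (e x)) = 0) ∧ ¬ (A = 0 ∧ B' = 0 ∧ D' = 0) := by
    refine ⟨_, sub_mem s.1.2 t.1.2, _, sub_mem s.2.1.2 t.2.1.2, _, sub_mem s.2.2.2 t.2.2.2, fun x => ?_, ?_⟩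
    · have h1 := LinearMap.congr_fun (congrArg Subtype.val hst) x
      simp only [Φ, pow_one, LinearMap.add_apply, Module.End.mul_apply, LinearEquiv.coe_coe] at h1
      simp only [LinearMap.sub_apply]
      rw [← sub_eq_zero] at h1
      rw [← h1]
      abel
    · rintro ⟨h1, h2, h3⟩
      exact hstne (Prod.ext (Subtype.ext (sub_eq_zero.mp h1)) (Prod.ext (Subtype.ext (sub_eq_zero.mp h2))
        (Subtype.ext (sub_eq_zero.mp h3))))
  have hAC := (hC _ (hLC _ hA).1).2
  have hBC := (hC _ (hLC _ hB).1).2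
  have hDC := (hC _ (hLC _ hD).1).2
  have hconj : ∀ {g : M ≃ₗ[ZMod 2] M}, (∀ x, A x + B' (g x) + D' (g (g x)) = 0) →
      ∀ x, A x + B' ((d * g * d⁻¹) x) + D' ((d * g * d⁻¹) ((d * g * d⁻¹) x)) = 0 := by
    intro g hg x
    obtain ⟨y, rfl⟩ := d.surjective x
    have hsimp : ∀ z, (d * g * d⁻¹) (d z) = d (g z) := fun z => by
      rw [LinearEquiv.mul_apply, LinearEquiv.mul_apply, ← LinearEquiv.mul_apply d⁻¹ d, inv_mul_cancel]
      rfl
    rw [hsimp, hsimp, (hLC _ hA).2, (hLC _ hB).2, (hLC _ hD).2, ← map_add, ← map_add, hg, map_zero]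
  have hr1 := hconj hrel
  have hr2 := hconj (g := e1) hr1
  rw [← he1] at hr1
  rw [← he2] at hr2
  -- commuting
  have hcomm2 : ∀ n m : ℕ, ∀ x, (e ^ n) ((e ^ m) x) = (e ^ m) ((e ^ n) x) := fun n m x => by
    rw [← LinearEquiv.mul_apply, ← LinearEquiv.mul_apply, ← pow_add, ← pow_add, add_comm]
  have hc : ∀ {m : ℕ}, (∀ x, A x + B' ((e ^ m) x) + D' ((e ^ m) ((e ^ m) x)) = 0) → e ^ m ≠ e →
      ∀ x, B' x + D' (e x + (e ^ m) x) = 0 := by
    intro m hm hmne
    have hz : ∀ x, (B' + D' * ((e : M →ₗ[ZMod 2] M) + ((e ^ m : M ≃ₗ[ZMod 2] M) : M →ₗ[ZMod 2] M)))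
        (e x + (e ^ m) x) = 0 := by
      intro x
      show B' (e x + (e ^ m) x) + D' (e (e x + (e ^ m) x) + (e ^ m) (e x + (e ^ m) x)) = 0
      have hsw : (e ^ m) (e x) = e ((e ^ m) x) := by
        simpa using hcomm2 m 1 x
      rw [map_add e, map_add (e ^ m), hsw, show e (e x) + e ((e ^ m) x) + (e ((e ^ m) x) + (e ^ m) ((e ^ m) x)) =
        e (e x) + (e ^ m) ((e ^ m) x) by
          rw [show e (e x) + e ((e ^ m) x) + (e ((e ^ m) x) + (e ^ m) ((e ^ m) x)) =
            e (e x) + (e ^ m) ((e ^ m) x) + (e ((e ^ m) x) + e ((e ^ m) x)) by abel, add_self, add_zero],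
        map_add, map_add]
      calc _ = (A x + B' (e x) + D' (e (e x))) + (A x + B' ((e ^ m) x) + D' ((e ^ m) ((e ^ m) x)))
            + (A x + A x) := by
              rw [show (A x + B' (e x) + D' (e (e x))) + (A x + B' ((e ^ m) x) + D' ((e ^ m) ((e ^ m) x)))
                + (A x + A x) = (B' (e x) + B' ((e ^ m) x) + (D' (e (e x)) + D' ((e ^ m) ((e ^ m) x))))
                + ((A x + A x) + (A x + A x)) by abel, add_self, add_zero]
          _ = 0 := by rw [hrel, hm, add_self (A x), add_zero, add_zero]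
    obtain ⟨x₁, hx₁⟩ : ∃ x, e x + (e ^ m) x ≠ 0 := by
      by_contra hall
      push Not at hall
      exact hmne (LinearEquiv.ext fun x => (eq_of_add_eq_zero (hall x)).symm)
    have hF : B' + D' * ((e : M →ₗ[ZMod 2] M) + ((e ^ m : M ≃ₗ[ZMod 2] M) : M →ₗ[ZMod 2] M)) ∈ C :=
      C.add_mem (hLC _ hB).1 (C.mul_mem (hLC _ hD).1 (C.add_mem (by simpa using heC 1) (heC m)))
    have h0 := S.inj_or_zero hiso hfree (hC _ hF).1 (hC _ hF).2 hx₁ (hz x₁)
    exact LinearMap.congr_fun h0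
  rw [show e1 = e ^ i from hde] at hr1 h01 h12
  rw [he2'] at hr2 h02 h12
  have k1 := hc hr1 (Ne.symm h01)
  have k2 := hc hr2 (Ne.symm h02)
  obtain ⟨x₁, hx₁⟩ : ∃ x, (e ^ i) x + (e ^ (i * i)) x ≠ 0 := by
    by_contra hall
    push Not at hall
    exact h12 (LinearEquiv.ext fun x => eq_of_add_eq_zero (hall x))
  have hD0 : D' = 0 := by
    refine S.inj_or_zero hiso hfree (hC _ (hLC _ hD).1).1 hDC hx₁ ?_
    have h4 := k1 x₁
    have h3 := k2 x₁
    rw [map_add] at h4 h3 ⊢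
    calc D' ((e ^ i) x₁) + D' ((e ^ (i * i)) x₁)
        = (B' x₁ + (D' (e x₁) + D' ((e ^ i) x₁))) + (B' x₁ + (D' (e x₁) + D' ((e ^ (i * i)) x₁))) := by
          rw [show (B' x₁ + (D' (e x₁) + D' ((e ^ i) x₁))) + (B' x₁ + (D' (e x₁) + D' ((e ^ (i * i)) x₁)))
            = (D' ((e ^ i) x₁) + D' ((e ^ (i * i)) x₁)) + ((B' x₁ + B' x₁) + (D' (e x₁) + D' (e x₁))) by abel,
            add_self, add_self, add_zero, add_zero]
      _ = 0 := by rw [h4, h3, add_zero]
  have hB0 : B' = 0 := LinearMap.ext fun x => by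
    have := k1 x
    rwa [hD0, LinearMap.zero_apply, add_zero] at this
  refine hnz ⟨LinearMap.ext fun x => ?_, hB0, hD0⟩
  have := hrel x
  rwa [hB0, hD0, LinearMap.zero_apply, LinearMap.zero_apply, add_zero, add_zero] at this

end CfsgLib.Pyramidal
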