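import Cfsg.Agent.Lib.Pyramidal.Quotient
import Cfsg.Agent.Lib.StSL.Two

/-!
The natural module extended by `SL₂(q)`: one class of `q ^ 2` involutions, and not solvable for `q ≥ 4`.
-/

set_option autoImplicit false

namespace CfsgLib.Pyramidal

open Matrix

universe u

variable (F : Type u) [Field F]

/-- The natural action. -/
def natAct : SpecialLinearGroup (Fin 2) F →* MulAut (Multiplicative (Fin 2 → F)) where
  toFun A := AddEquiv.toMultiplicative (SpecialLinearGroup.toLin' A).toAddEquiv
  map_one' := by
    refine MulEquiv.ext fun x => Multiplicative.toAdd.injective ?_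
    show SpecialLinearGroup.toLin' 1 x.toAdd = x.toAdd
    rw [map_one]
    rfl
  map_mul' A B := by
    refine MulEquiv.ext fun x => Multiplicative.toAdd.injective ?_
    show SpecialLinearGroup.toLin' (A * B) x.toAdd = _
    rw [map_mul]
    rfl

/-- The natural module extended by `SL₂`. -/
abbrev NatExt : Type u := Multiplicative (Fin 2 → F) ⋊[natAct F] SpecialLinearGroup (Fin 2) F

variable {F}

theorem natAct_apply (A : SpecialLinearGroup (Fin 2) F) (v : Fin 2 → F) :
    natAct F A (Multiplicative.ofAdd v) = Multiplicative.ofAdd ((A : Matrix (Fin 2) (Fin 2) F) *ᵥ v) := rfl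

theorem eq_neg_one_of_sq (h2 : (2 : F) ≠ 0) (A : SpecialLinearGroup (Fin 2) F) (h : A * A = 1) (h1 : A ≠ 1) :
    A = -1 := by
  have e : (A : Matrix (Fin 2) (Fin 2) F) = adjugate (A : Matrix (Fin 2) (Fin 2) F) := by
    have e2 : A = A⁻¹ := eq_inv_of_mul_eq_one_left h
    conv_lhs => rw [e2]
    exact Matrix.SpecialLinearGroup.coe_inv A
  rw [Matrix.adjugate_fin_two] at e
  have e00 := congrFun (congrFun e 0) 0
  have e01 := congrFun (congrFun e 0) 1
  have e10 := congrFun (congrFun e 1) 0
  simp only [Matrix.of_apply, Matrix.cons_val', Matrix.cons_val_zero, Matrix.cons_val_one, Matrix.cons_val_fin_one,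
    Matrix.empty_val', eq_neg_iff_add_eq_zero, ← two_mul, mul_eq_zero] at e00 e01 e10
  have hd := A.2
  have h01 := e01.resolve_left h2
  have h10 := e10.resolve_left h2
  rw [Matrix.det_fin_two, h01, h10, ← e00, mul_zero, sub_zero, mul_self_eq_one_iff] at hd
  rcases hd with hd | hd
  · refine absurd (Matrix.SpecialLinearGroup.ext _ _ ?_) h1
    intro i j
    fin_cases i <;> fin_cases j <;> simp [hd, h01, h10, e00.symm.trans hd]
  · refine Matrix.SpecialLinearGroup.ext _ _ ?_
    intro i j
    fin_cases i <;> fin_cases j <;> simp [hd, h01, h10, e00.symm.trans hd]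

theorem natExt_involution (h2 : (2 : F) ≠ 0) (x : NatExt F) : orderOf x = 2 ↔ x.right = -1 := by
  have hneg : (-1 : SpecialLinearGroup (Fin 2) F) ≠ 1 := fun e => h2 (by
    have h := congrFun (congrFun (congrArg Subtype.val e) 0) 0
    simp at h
    linear_combination -h)
  rw [orderOf_two]
  constructor
  · rintro ⟨hxx, hx1⟩
    refine eq_neg_one_of_sq h2 _ (by rw [← SemidirectProduct.mul_right, hxx]; rfl) fun e => hx1 ?_
    refine SemidirectProduct.ext ?_ e
    have h3 := congrArg SemidirectProduct.left hxx
    rw [SemidirectProduct.mul_left, e, map_one, MulAut.one_apply, SemidirectProduct.one_left] at h3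
    have h4 : (2 : F) • Multiplicative.toAdd x.left = 0 := by
      rw [two_smul]
      exact congrArg Multiplicative.toAdd h3
    exact congrArg Multiplicative.ofAdd ((smul_eq_zero.mp h4).resolve_left h2)
  · intro hx
    refine ⟨SemidirectProduct.ext ?_ ?_, fun e => hneg (by rw [← hx, e]; rfl)⟩
    · rw [SemidirectProduct.mul_left, hx, ← ofAdd_toAdd x.left, natAct_apply, ← ofAdd_add,
        show ((-1 : SpecialLinearGroup (Fin 2) F) : Matrix (Fin 2) (Fin 2) F) = -1 by simp, Matrix.neg_mulVec,
        Matrix.one_mulVec, add_neg_cancel]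
      rfl
    · rw [SemidirectProduct.mul_right, hx, SemidirectProduct.one_right]
      simp

theorem natExt_conj (h2 : (2 : F) ≠ 0) (x y : NatExt F) (hx : orderOf x = 2) (hy : orderOf y = 2) :
    ∃ g : NatExt F, g * x * g⁻¹ = y := by
  rw [natExt_involution h2] at hx hy
  set w := Multiplicative.ofAdd ((2 : F)⁻¹ • (Multiplicative.toAdd y.left - Multiplicative.toAdd x.left)) with hw
  refine ⟨SemidirectProduct.inl w, mul_inv_eq_iff_eq_mul.mpr (SemidirectProduct.ext ?_ ?_)⟩
  · rw [SemidirectProduct.mul_left, SemidirectProduct.mul_left, SemidirectProduct.left_inl,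
      SemidirectProduct.right_inl, map_one, MulAut.one_apply, hy, hw, natAct_apply]
    refine Multiplicative.toAdd.injective ?_
    simp only [toAdd_mul, toAdd_ofAdd]
    have e : ((-1 : SpecialLinearGroup (Fin 2) F) : Matrix (Fin 2) (Fin 2) F) = -1 := by simp
    rw [e, Matrix.neg_mulVec, Matrix.one_mulVec]
    funext i
    simp only [Pi.add_apply, Pi.neg_apply, Pi.smul_apply, Pi.sub_apply, smul_eq_mul]
    field_simp
    ring
  · rw [SemidirectProduct.mul_right, SemidirectProduct.mul_right, SemidirectProduct.right_inl, hx, hy, one_mul, mul_one]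

theorem natExt_card (h2 : (2 : F) ≠ 0) [Finite F] :
    Nat.card {x : NatExt F // orderOf x = 2} = Nat.card F ^ 2 := by
  rw [show Nat.card F ^ 2 = Nat.card (Fin 2 → F) by rw [Nat.card_fun, Nat.card_fin]]
  exact Nat.card_congr
    { toFun := fun x => Multiplicative.toAdd x.1.left
      invFun := fun v => ⟨⟨Multiplicative.ofAdd v, -1⟩, (natExt_involution h2 _).mpr rfl⟩
      left_inv := fun x => Subtype.ext (SemidirectProduct.ext rfl ((natExt_involution h2 _).mp x.2).symm)
      right_inv := fun _ => rfl }

instance [Finite F] : Finite (NatExt F) := Finite.of_equiv _ SemidirectProduct.equivProd.symm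

theorem natExt_not_solvable [Fintype F] (h4 : 4 ≤ Fintype.card F) : ¬ Group.IsSolvable (NatExt F) := by
  intro h
  haveI : Group.IsSolvable (SpecialLinearGroup (Fin 2) F) :=
    Group.isSolvable_of_surjective (f := SemidirectProduct.rightHom (φ := natAct F))
      SemidirectProduct.rightHom_surjective
  haveI : Nontrivial (SpecialLinearGroup (Fin 2) F) := by
    refine ⟨⟨SpecialLinearGroup.transvection (show (0 : Fin 2) ≠ 1 by decide) 1, 1, fun e => ?_⟩⟩
    have h1 := congrFun (congrFun (congrArg Subtype.val e) 0) 1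
    simp [SpecialLinearGroup.transvection, Matrix.one_apply, Matrix.transvection, Matrix.single_apply] at h1
  exact (Group.IsSolvable.commutator_lt_top_of_nontrivial _).ne (CfsgLib.StSL.perfect_SL2 h4)

end CfsgLib.Pyramidal
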