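import Cfsg.Agent.Lib.Pyramidal.Section

/-!
Dimension three: the stabiliser of a vector fixes one of its lifts, by the flag sums.
-/

set_option autoImplicit false
set_option maxHeartbeats 1000000

namespace CfsgLib.Pyramidal

universe u v

variable {M : Type u} {V : Type v} [AddCommGroup M] [AddCommGroup V] [Module (ZMod 2) M] [Module (ZMod 2) V]
  [Finite M] [Finite V]

variable {Q : M → V} {B : M →ₗ[ZMod 2] M →ₗ[ZMod 2] V} {h : M ≃ₗ[ZMod 2] M} {k : V ≃ₗ[ZMod 2] V} {r : ℕ}
  {ρ : (V ≃ₗ[ZMod 2] V) →* (M ≃ₗ[ZMod 2] M)}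

/-- `g + 1` as an endomorphism of `M`. -/
def step (ρ : (V ≃ₗ[ZMod 2] V) →* (M ≃ₗ[ZMod 2] M)) (g : V ≃ₗ[ZMod 2] V) : M →ₗ[ZMod 2] M :=
  (ρ g : M →ₗ[ZMod 2] M) + LinearMap.id

omit [Finite M] [Finite V] in
theorem step_apply (g : V ≃ₗ[ZMod 2] V) (z : M) : step ρ g z = ρ g z + z := rfl

omit [Finite M] [Finite V] in
theorem rho_mul (g g' : V ≃ₗ[ZMod 2] V) (z : M) : ρ (g * g') z = ρ g (ρ g' z) := by rw [map_mul]; rfl

omit [Finite M] [Finite V] in
theorem step_conj {g g' w : V ≃ₗ[ZMod 2] V} (e : w * g = g' * w) (z : M) : ρ w (step ρ g z) = step ρ g' (ρ w z) := by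
  rw [step_apply, step_apply, map_add, ← rho_mul, e, rho_mul]

omit [Finite M] [Finite V] in
theorem step_step {g : V ≃ₗ[ZMod 2] V} (e : g * g = 1) (z : M) : step ρ g (step ρ g z) = 0 := by
  rw [step_apply, step_apply, map_add, ← rho_mul, e, map_one, add_comm (ρ g z) z,
    show (1 : M ≃ₗ[ZMod 2] M) z = z from rfl, add_self]

variable (S : Sys Q B h k r) (heq : ∀ g x, Q (ρ g x) = g (Q x))

include S heq

theorem exists_fixed_three (h3 : r = 3) (hM : Nat.card M = 2 ^ 6) :
    ∃ (a : V) (x : M), a ≠ 0 ∧ x ≠ 0 ∧ Q x = a ∧ ∀ g : V ≃ₗ[ZMod 2] V, g a = a → ρ g x = x := by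
  classical
  let b := Module.finBasisOfFinrankEq (ZMod 2) V (S.finrank_V.trans h3)
  have hd : ∀ i j : Fin 3, b.coord j (b i) = if i = j then 1 else 0 := fun i j => by
    rw [Module.Basis.coord_apply, Module.Basis.repr_self, Finsupp.single_apply]
  have hz : ∀ {i j : Fin 3}, i ≠ j → b.coord j (b i) = 0 := fun {i j} e => by rw [hd, if_neg e]
  let t01 := tv (b.coord 1) (b 0) (hz (by decide))
  let t02 := tv (b.coord 2) (b 0) (hz (by decide))
  let t12 := tv (b.coord 2) (b 1) (hz (by decide))
  let t10 := tv (b.coord 0) (b 1) (hz (by decide))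
  let t21 := tv (b.coord 1) (b 2) (hz (by decide))
  have ext3 : ∀ {g g' : V ≃ₗ[ZMod 2] V}, (∀ i, g (b i) = g' (b i)) → g = g' := fun {g g'} he =>
    LinearEquiv.toLinearMap_injective (b.ext he)
  have two : ∀ z : V, z + z = 0 := fun z => add_self z
  have two' : ∀ z w : V, z + (z + w) = w := fun z w => by rw [← add_assoc, add_self, zero_add]
  set a := b 0 with ha0
  have ha : a ≠ 0 := b.ne_zero 0
  have hM' : Nat.card M = 2 ^ (2 * r) := by rw [hM, h3]
  have inv01 : t01 * t01 = 1 := tv_mul_self _ _ _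
  have inv12 : t12 * t12 = 1 := tv_mul_self _ _ _
  have inv02 : t02 * t02 = 1 := tv_mul_self _ _ _
  have hfix21 : t21 a = a := tv_fix (hz (by decide))
  have hfix12 : t12 a = a := tv_fix (hz (by decide))
  -- a fixed vector of the Borel subgroup
  obtain ⟨x, hx, hx0, hx12⟩ : ∃ x ∈ centreFix ρ a, x ≠ 0 ∧ ρ t12 x = x := by
    obtain ⟨x₀, hx₀, hne⟩ := exists_centreFix S heq ha hM'
    by_cases e : ρ t12 x₀ = x₀
    · exact ⟨x₀, hx₀, hne, e⟩
    · refine ⟨x₀ + ρ t12 x₀, add_mem hx₀ (centreFix_stable hfix12 hx₀), fun e0 => e (eq_of_add_eq_zero e0).symm, ?_⟩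
      rw [map_add, ← rho_mul, inv12, map_one, add_comm]
      rfl
  have hx01 : ρ t01 x = x := mem_fixS.mp hx _ ⟨_, tv_mem_centreGroup _ _ _, rfl⟩
  have hx02 : ρ t02 x = x := mem_fixS.mp hx _ ⟨_, tv_mem_centreGroup _ _ _, rfl⟩
  have hQx := Q_centreFix S heq ha hx hx0
  by_cases hx21 : ρ t21 x = x
  · refine ⟨a, x, ha, hx0, hQx, fun g hg => ?_⟩
    let K : Subgroup (V ≃ₗ[ZMod 2] V) := (MulAction.stabilizer (M ≃ₗ[ZMod 2] M) x).comap ρ
    have hK : ∀ g, g ∈ K ↔ ρ g x = x := fun g => Iff.rfl
    refine (hK g).mp (mem_of_fix K (Submodule.span (ZMod 2) ({a} : Set V)) (fun f c hfc hfa => ?_) g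
      fun u hu => ?_)
    swap
    · obtain ⟨c, rfl⟩ := Submodule.mem_span_singleton.mp hu
      rw [map_smul, hg]
    have hf0 : f (b 0) = 0 := hfa a (Submodule.mem_span_singleton_self a)
    have one_mem' : ∀ (f : Module.Dual (ZMod 2) V) (c : V) (e : f c = 0), c = 0 ∨ f = 0 → tv f c e ∈ K := by
      intro f c e h0
      rw [show tv f c e = 1 from LinearEquiv.ext fun w => by
        rw [tv_apply]
        rcases h0 with rfl | rfl <;> simp]
      exact one_mem K
    have comb : ∀ (f : Module.Dual (ZMod 2) V) (p q : V) (hp : f p = 0) (hq : f q = 0), tv f p hp ∈ K →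
        tv f q hq ∈ K → ∀ (u w : ZMod 2) (e : f (u • p + w • q) = 0), tv f (u • p + w • q) e ∈ K := by
      intro f p q hp hq kp kq u w e
      rcases two_cases u with rfl | rfl <;> rcases two_cases w with rfl | rfl <;>
        simp only [zero_smul, one_smul, zero_add, add_zero]
      · exact one_mem' f 0 _ (Or.inl rfl)
      · exact kq
      · exact kp
      · rw [← tv_mul f p q hp hq]
        exact mul_mem kp kq
    have k01 : t01 ∈ K := hx01
    have k02 : t02 ∈ K := hx02
    have k12 : t12 ∈ K := hx12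
    have k21 : t21 ∈ K := hx21
    have hc : c = b.coord 0 c • b 0 + (b.coord 1 c • b 1 + b.coord 2 c • b 2) := by
      conv_lhs => rw [← b.sum_repr c]
      rw [Fin.sum_univ_three, add_assoc]
      rfl
    have hf : f = f (b 1) • b.coord 1 + f (b 2) • b.coord 2 := by
      refine b.ext fun i => ?_
      fin_cases i <;> simp [hd, hf0]
    have hcf : f (b 1) * b.coord 1 c + f (b 2) * b.coord 2 c = 0 := by
      have e := hfc
      rw [hc, map_add, map_add, map_smul, map_smul, map_smul, hf0, smul_zero, zero_add, smul_eq_mul,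
        smul_eq_mul] at e
      rw [mul_comm (f (b 1)), mul_comm (f (b 2))]
      exact e
    rcases two_cases (f (b 1)) with e1 | e1 <;> rcases two_cases (f (b 2)) with e2 | e2 <;>
      rw [e1, e2] at hcf hf <;>
      simp only [zero_smul, one_smul, zero_add, add_zero, zero_mul, one_mul] at hcf hf <;> subst hf
    · exact one_mem' _ c _ (Or.inr rfl)
    · have hc' : c = b.coord 0 c • b 0 + b.coord 1 c • b 1 := by
        conv_lhs => rw [hc]
        rw [hcf, zero_smul, add_zero]
      have e := comb (b.coord 2) (b 0) (b 1) (hz (by decide)) (hz (by decide)) k02 k12 (b.coord 0 c) (b.coord 1 c)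
        (by rw [← hc']; exact hfc)
      simp only [← hc'] at e
      exact e
    · have hc' : c = b.coord 0 c • b 0 + b.coord 2 c • b 2 := by
        conv_lhs => rw [hc]
        rw [hcf, zero_smul, zero_add]
      have e := comb (b.coord 1) (b 0) (b 2) (hz (by decide)) (hz (by decide)) k01 k21 (b.coord 0 c) (b.coord 2 c)
        (by rw [← hc']; exact hfc)
      simp only [← hc'] at e
      exact e
    · have hc' : c = b.coord 0 c • b 0 + b.coord 1 c • (b 1 + b 2) := by
        conv_lhs => rw [hc]
        rw [← eq_of_add_eq_zero hcf, smul_add]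
      have k0 : tv (b.coord 1 + b.coord 2) (b 0) (by simp [hd]) ∈ K := by
        rw [← tv_mul' (b.coord 1) (b.coord 2) (b 0) (hz (by decide)) (hz (by decide))]
        exact mul_mem k01 k02
      have k1 : tv (b.coord 1 + b.coord 2) (b 1 + b 2) (by simp [hd, (show (1 : ZMod 2) + 1 = 0 from rfl)]) ∈ K := by
        have e : tv (b.coord 1 + b.coord 2) (b 1 + b 2) (by simp [hd, (show (1 : ZMod 2) + 1 = 0 from rfl)]) =
            t12 * t21 * t12 := ext3 fun i => by
          fin_cases i <;>
            simp [t12, t21, LinearEquiv.mul_apply, tv_apply, hd, two, two', add_comm, add_left_comm]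
        rw [e]
        exact mul_mem (mul_mem k12 k21) k12
      have e := comb (b.coord 1 + b.coord 2) (b 0) (b 1 + b 2) _ _ k0 k1 (b.coord 0 c) (b.coord 1 c)
        (by rw [← hc']; exact hfc)
      simp only [← hc'] at e
      exact e
  exfalso
  -- the point relation
  set y := ρ t21 x with hy
  set z := ρ t12 y with hzdef
  have hyF : y ∈ centreFix ρ a := centreFix_stable hfix21 hx
  have hzF : z ∈ centreFix ρ a := centreFix_stable hfix12 hyF
  have hy0 : y ≠ 0 := fun e => hx0 ((map_eq_zero_iff (ρ t21) (LinearEquiv.injective _)).mp e)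
  have hz0 : z ≠ 0 := fun e => hy0 ((map_eq_zero_iff (ρ t12) (LinearEquiv.injective _)).mp e)
  have hzx : z ≠ x := fun e => hx21 ((ρ t12).injective (e.trans hx12.symm))
  have hzy : z ≠ y := by
    intro e
    have hall : ∀ w ∈ centreFix ρ a, ρ t12 w = w := by
      intro w hw
      by_cases w0 : w = 0
      · rw [w0, map_zero]
      by_cases wx : w = x
      · rw [wx, hx12]
      by_cases wy : w = y
      · rw [wy]; exact e
      have h1 := third S heq ha hx hyF hw hx0 hy0 w0 (Ne.symm hx21) (Ne.symm wx) (Ne.symm wy)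
      rw [← eq_of_add_eq_zero h1, map_add, hx12, ← hzdef, e]
    have hbraid : t21 * (t12 * t21) = (t12 * t21) * t12 := ext3 fun i => by
      fin_cases i <;>
        simp [t12, t21, LinearEquiv.mul_apply, tv_apply, hd, two, two', add_comm, add_left_comm]
    have hm : ρ (t12 * t21)⁻¹ x ∈ centreFix ρ a := by
      refine centreFix_stable ?_ hx
      have h2 : (t12 * t21) a = a := by rw [LinearEquiv.mul_apply, hfix21, hfix12]
      conv_lhs => rw [← h2]
      rw [← LinearEquiv.mul_apply, inv_mul_cancel]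
      rfl
    refine hx21 ?_
    have e21 : y = ρ ((t12 * t21) * t12 * (t12 * t21)⁻¹) x := by
      rw [hy, ← hbraid]
      congr 2
      group
    rw [e21, rho_mul, rho_mul, hall _ hm, ← rho_mul, mul_inv_cancel, map_one]
    rfl
  have hpoint : x + y + z = 0 := third S heq ha hx hyF hzF hx0 hy0 hz0 (Ne.symm hx21) (Ne.symm hzx) (Ne.symm hzy)
  -- the line relation
  set y1 := ρ t10 x with hy1
  have c1 : t10 * t01 * t10 = t01 * t10 * t01 := ext3 fun i => by
    fin_cases i <;> simp [t01, t10, LinearEquiv.mul_apply, tv_apply, hd, two, two', add_comm, add_left_comm]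
  have c3 : t12 * t10 = t10 * t12 := ext3 fun i => by
    fin_cases i <;> simp [t12, t10, LinearEquiv.mul_apply, tv_apply, hd, two, two', add_comm, add_left_comm]
  have c4 : t12 * t01 = t01 * (t12 * t02) := ext3 fun i => by
    fin_cases i <;> simp [t12, t01, t02, LinearEquiv.mul_apply, tv_apply, hd, two, two', add_comm, add_left_comm]
  have c5 : t02 * t10 = t10 * (t02 * t12) := ext3 fun i => by
    fin_cases i <;> simp [t12, t10, t02, LinearEquiv.mul_apply, tv_apply, hd, two, two', add_comm, add_left_comm]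
  have c6 : t02 * t01 = t01 * t02 := ext3 fun i => by
    fin_cases i <;> simp [t01, t02, LinearEquiv.mul_apply, tv_apply, hd, two, two', add_comm, add_left_comm]
  have c7 : t02 * t12 = t12 * t02 := ext3 fun i => by
    fin_cases i <;> simp [t12, t02, LinearEquiv.mul_apply, tv_apply, hd, two, two', add_comm, add_left_comm]
  have e12y1 : ρ t12 y1 = y1 := by rw [hy1, ← rho_mul, c3, rho_mul, hx12]
  have e02y1 : ρ t02 y1 = y1 := by rw [hy1, ← rho_mul, c5, rho_mul, rho_mul, hx12, hx02]
  have hline : x + y1 + ρ t01 y1 = 0 := by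
    set y0 := x + y1 + ρ t01 y1 with hy0def
    have f01 : ρ t01 y0 = y0 := by
      rw [hy0def, map_add, map_add, hx01, ← rho_mul t01 t01, inv01, map_one]
      show x + ρ t01 y1 + y1 = _
      abel
    have f02 : ρ t02 y0 = y0 := by
      rw [hy0def, map_add, map_add, hx02, e02y1, ← rho_mul t02 t01, c6, rho_mul, e02y1]
    have f10 : ρ t10 y0 = y0 := by
      rw [hy0def, map_add, map_add, hy1, ← rho_mul t01 t10, ← rho_mul t10 (t01 * t10), ← mul_assoc, c1,
        ← rho_mul t10 t10, show t10 * t10 = 1 from tv_mul_self _ _ _, map_one, rho_mul (t01 * t10) t01, hx01]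
      show ρ t10 x + x + ρ (t01 * t10) x = _
      abel
    refine S.anis _ ?_
    have hs : Q y0 ∈ Submodule.span (ZMod 2) ({a} : Set V) := by
      refine mem_of_fixed _ (Submodule.mem_span_singleton_self a) ha fun f hfa _ => ?_
      have g1 : t01 (Q y0) = Q y0 := by rw [← heq, f01]
      have g2 : t02 (Q y0) = Q y0 := by rw [← heq, f02]
      have n1 : b.coord 1 (Q y0) = 0 := by
        rcases two_cases (b.coord 1 (Q y0)) with e | e
        · exact e
        · rw [show t01 (Q y0) = Q y0 + a from tv_move e] at g1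
          exact absurd (add_eq_left.mp g1) ha
      have n2 : b.coord 2 (Q y0) = 0 := by
        rcases two_cases (b.coord 2 (Q y0)) with e | e
        · exact e
        · rw [show t02 (Q y0) = Q y0 + a from tv_move e] at g2
          exact absurd (add_eq_left.mp g2) ha
      refine tv_fix ?_
      rw [← b.sum_repr (Q y0), Fin.sum_univ_three, map_add, map_add, map_smul, map_smul, map_smul, hfa,
        show (b.repr (Q y0)) 1 = 0 from n1, show (b.repr (Q y0)) 2 = 0 from n2]
      simp
    obtain ⟨c, hc⟩ := Submodule.mem_span_singleton.mp hs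
    rcases two_cases c with rfl | rfl
    · rw [zero_smul] at hc; exact hc.symm
    · exfalso
      rw [one_smul] at hc
      have g3 : t10 (Q y0) = Q y0 := by rw [← heq, f10]
      rw [← hc] at g3
      rw [show t10 a = a + b 1 from tv_move (by rw [hd, if_pos rfl])] at g3
      exact b.ne_zero 1 (add_eq_left.mp g3)
  -- the product of the three steps
  set w2 := t01 * t10 * t01
  set w1 := t12 * t21 * t12
  have d1 : w2 * t12 = t02 * w2 := ext3 fun i => by
    fin_cases i <;>
      simp [w2, t12, t10, t01, t02, LinearEquiv.mul_apply, tv_apply, hd, two, two', add_comm, add_left_comm]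
  have d2 : (w2 * w1) * t01 = t12 * (w2 * w1) := ext3 fun i => by
    fin_cases i <;>
      simp [w2, w1, t12, t21, t10, t01, LinearEquiv.mul_apply, tv_apply, hd, two, two', add_comm, add_left_comm]
  have s2 : step ρ t01 (ρ w2 x) = x := by
    rw [rho_mul, rho_mul, hx01, ← hy1, step_apply, ← rho_mul t01 t01, inv01, map_one]
    exact (eq_of_add_eq_zero (by rw [← hline]; simp only [LinearEquiv.coe_one, id_eq]; abel)).symm
  have s1 : step ρ t12 (ρ w1 x) = x := by
    rw [rho_mul, rho_mul, hx12, ← hy, ← hzdef, step_apply, hzdef, ← rho_mul t12 t12, inv12, map_one, ← hzdef]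
    exact (eq_of_add_eq_zero (by rw [← hpoint]; simp only [LinearEquiv.coe_one, id_eq]; abel)).symm
  set n1 := step ρ t01
  set n2 := step ρ t02
  set n3 := step ρ t12
  set Y := ρ (w2 * w1) (ρ w2 x) with hY
  have hN : n1 (n2 (n3 Y)) = x := by
    have e1 : x = n1 (n2 (ρ (w2 * w1) x)) := by
      conv_lhs => rw [← s2, ← s1, step_conj d1, ← rho_mul]
    rw [hY, ← step_conj d2, s2]
    exact e1.symm
  -- the image of the central step is large
  have cc : ∀ {g g' : V ≃ₗ[ZMod 2] V}, g * g' = g' * g → ∀ w, step ρ g (step ρ g' w) = step ρ g' (step ρ g w) :=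
    fun {g g'} e w => by
      simp only [step_apply, map_add, ← rho_mul, e]
      abel
  have c21 : ∀ w, n2 (n1 w) = n1 (n2 w) := cc c6
  have c23 : ∀ w, n2 (n3 w) = n3 (n2 w) := cc c7
  have hn2 : ∀ w, n2 (n2 w) = 0 := step_step inv02
  have hn1 : ∀ w, n1 (n1 w) = 0 := step_step inv01
  have hn3 : ∀ w, n3 (n3 w) = 0 := step_step inv12
  set u := n2 Y with hu
  have hfixu : ρ t02 u = u := by
    rw [hu, show n2 Y = ρ t02 Y + Y from rfl, map_add, ← rho_mul, inv02, map_one, add_comm (ρ t02 Y)]
    rfl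
  have hv13 : n1 (n3 u) = x := by rw [hu, ← c23, hN]
  have h31 : n3 (n1 u) = n1 (n3 u) := by
    show step ρ t12 (step ρ t01 u) = step ρ t01 (step ρ t12 u)
    simp only [step_apply, map_add]
    rw [← rho_mul t12 t01, c4, rho_mul, rho_mul, hfixu]
    abel
  have hker : ∀ w, n2 w = 0 → w ∈ LinearMap.ker n2 := fun w e => LinearMap.mem_ker.mpr e
  let Ψ : (Fin 4 → ZMod 2) →ₗ[ZMod 2] LinearMap.range n2 :=
    { toFun := fun c => ⟨c 0 • u + c 1 • n1 u + c 2 • n3 u + c 3 • x, by
        refine add_mem (add_mem (add_mem (Submodule.smul_mem _ _ ⟨Y, rfl⟩)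
          (Submodule.smul_mem _ _ ⟨n1 Y, c21 Y⟩)) (Submodule.smul_mem _ _ ⟨n3 Y, c23 Y⟩))
          (Submodule.smul_mem _ _ ⟨n1 (n3 Y), ?_⟩)
        rw [c21, hN]⟩
      map_add' := fun c c' => Subtype.ext (by simp [add_smul]; abel)
      map_smul' := fun s c => Subtype.ext (by simp [smul_add, smul_smul]) }
  have hinj : Function.Injective Ψ := by
    rw [← LinearMap.ker_eq_bot, Submodule.eq_bot_iff]
    intro c hc
    have e : c 0 • u + c 1 • n1 u + c 2 • n3 u + c 3 • x = 0 :=
      congrArg Subtype.val (LinearMap.mem_ker.mp hc)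
    have x1 : n1 x = 0 := by rw [← hv13, hn1]
    have x3 : n3 x = 0 := by rw [← hv13, ← h31, hn3]
    have c0 : c 0 = 0 := by
      have e' := congrArg (fun w => n1 (n3 w)) e
      simp only [map_add, map_smul, map_zero, hn3, x3, smul_zero, add_zero, hv13, h31, x1, hn1] at e'
      exact (smul_eq_zero.mp e').resolve_right hx0
    rw [c0, zero_smul, zero_add] at e
    have c2 : c 2 = 0 := by
      have e' := congrArg n1 e
      simp only [map_add, map_smul, map_zero, hn1, x1, smul_zero, add_zero, zero_add, hv13] at e'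
      exact (smul_eq_zero.mp e').resolve_right hx0
    rw [c2, zero_smul, add_zero] at e
    have c1' : c 1 = 0 := by
      have e' := congrArg n3 e
      simp only [map_add, map_smul, map_zero, x3, smul_zero, add_zero, h31, hv13] at e'
      exact (smul_eq_zero.mp e').resolve_right hx0
    rw [c1', zero_smul, zero_add] at e
    have c3' : c 3 = 0 := (smul_eq_zero.mp e).resolve_right hx0
    funext i
    fin_cases i <;> assumption
  have h4 := LinearMap.finrank_le_finrank_of_injective hinj
  rw [Module.finrank_pi, Fintype.card_fin] at h4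
  have hle : LinearMap.range n2 ≤ LinearMap.ker n2 := by
    rintro _ ⟨w, rfl⟩
    exact hker _ (hn2 w)
  have h5 := LinearMap.finrank_range_add_finrank_ker n2
  have h6 := Submodule.finrank_mono hle
  have h7 : Module.finrank (ZMod 2) M = 6 := by
    have e := hM
    rw [Module.natCard_eq_pow_finrank (K := ZMod 2), Nat.card_zmod] at e
    exact Nat.pow_right_injective (le_refl 2) e
  omega

end CfsgLib.Pyramidal
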