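import Cfsg.Agent.Lib.Pyramidal.FlagThree

/-!
An anisotropic quadratic map equivariant for the whole linear group of `V` (`dim V ≥ 3`) has zero commutator form.
-/

set_option autoImplicit false

namespace CfsgLib.Pyramidal

universe u v

variable {M : Type u} {V : Type v} [AddCommGroup M] [AddCommGroup V] [Module (ZMod 2) M] [Module (ZMod 2) V]
  [Finite M] [Finite V]

variable {Q : M → V} {B : M →ₗ[ZMod 2] M →ₗ[ZMod 2] V} {h : M ≃ₗ[ZMod 2] M} {k : V ≃ₗ[ZMod 2] V} {r : ℕ}
  {ρ : (V ≃ₗ[ZMod 2] V) →* (M ≃ₗ[ZMod 2] M)}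

variable (S : Sys Q B h k r) (heq : ∀ g x, Q (ρ g x) = g (Q x))

include S heq

theorem B_zero_of_injective (hinj : Function.Injective Q) (x y : M) : B x y = 0 := by
  by_cases hx : x = 0
  · rw [hx, map_zero, LinearMap.zero_apply]
  by_cases hy : y = 0
  · rw [hy, map_zero]
  by_cases hxy : x = y
  · rw [hxy, S.B_self]
  have ha : Q x ≠ 0 := fun e => hx (S.anis x e)
  have hz : Q (x + y) ∈ Submodule.span (ZMod 2) ({Q x, Q y} : Set V) := by
    refine mem_of_fixed _ (Submodule.subset_span (Set.mem_insert (Q x) _)) ha fun f hfa hf => ?_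
    have h1 : ρ (tv f (Q x) hfa) x = x := hinj (by
      rw [heq, tv_fix (hf _ (Submodule.subset_span (Set.mem_insert (Q x) _)))])
    have h2 : ρ (tv f (Q x) hfa) y = y := hinj (by
      rw [heq, tv_fix (hf _ (Submodule.subset_span (Set.mem_insert_of_mem _ rfl)))])
    rw [← heq, map_add, h1, h2]
  rcases mem_pair.mp hz with e | e | e | e
  · exact absurd (eq_of_add_eq_zero (S.anis _ e)) hxy
  · exact absurd (add_eq_left.mp (hinj e)) hy
  · exact absurd (add_eq_right.mp (hinj e)) hx
  · rw [S.quad] at e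
    exact add_eq_left.mp e

/-- In the large case there is an equivariant section. -/
theorem exists_section (hr : 3 ≤ r) (hM : Nat.card M = 2 ^ (2 * r)) :
    ∃ s : V →ₗ[ZMod 2] M, (∀ w, Q (s w) = w) ∧ ∀ g w, s (g w) = ρ g (s w) := by
  classical
  -- a vector over one point fixed by its stabiliser
  obtain ⟨a₀, x₀, ha₀, hx₀, hQ₀, hfix⟩ : ∃ (a : V) (x : M), a ≠ 0 ∧ x ≠ 0 ∧ Q x = a ∧
      ∀ g : V ≃ₗ[ZMod 2] V, g a = a → ρ g x = x := by
    rcases Nat.lt_or_ge r 4 with h4 | h4
    · have h3 : r = 3 := by omega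
      exact exists_fixed_three S heq h3 (by rw [hM, h3])
    · obtain ⟨a, ha⟩ := S.exists_ne_zero
      obtain ⟨x, hx, hx0⟩ := exists_centreFix S heq ha hM
      exact ⟨a, x, ha, hx0, Q_centreFix S heq ha hx hx0, fun g hg => stab_trivial S heq h4 ha hg hx⟩
  have hmap : ∀ w : V, w ≠ 0 → ∃ g : V ≃ₗ[ZMod 2] V, g a₀ = w := fun w hw => exists_map hw ha₀
  choose gm hgm using hmap
  let f : V → M := fun w => if hw : w = 0 then 0 else ρ (gm w hw) x₀
  have hwd : ∀ (g : V ≃ₗ[ZMod 2] V), f (g a₀) = ρ g x₀ := by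
    intro g
    have hne : g a₀ ≠ 0 := fun e => ha₀ (g.injective (e.trans (map_zero g).symm))
    simp only [f, dif_neg hne]
    set g' := gm (g a₀) hne
    have h1 : (g⁻¹ * g') a₀ = a₀ := by
      rw [LinearEquiv.mul_apply, hgm _ hne, ← LinearEquiv.mul_apply, inv_mul_cancel]
      rfl
    have h2 := hfix _ h1
    rw [rho_mul] at h2
    have h3 := congrArg (ρ g) h2
    rwa [← rho_mul, mul_inv_cancel, map_one] at h3
  have hf0 : f 0 = 0 := dif_pos rfl
  have hfQ : ∀ w, Q (f w) = w := by
    intro w
    by_cases hw : w = 0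
    · rw [hw, hf0, S.Q_zero]
    · simp only [f, dif_neg hw]
      rw [heq, hQ₀, hgm w hw]
  have hfeq : ∀ g w, f (g w) = ρ g (f w) := by
    intro g w
    by_cases hw : w = 0
    · rw [hw, map_zero, hf0, map_zero]
    obtain ⟨g', rfl⟩ := exists_map hw ha₀
    rw [← LinearEquiv.mul_apply, hwd, hwd, rho_mul]
  have hadd : ∀ a b, f (a + b) = f a + f b := by
    intro a b
    by_cases ha : a = 0
    · rw [ha, zero_add, hf0, zero_add]
    by_cases hb : b = 0
    · rw [hb, add_zero, hf0, add_zero]
    by_cases hab : a = b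
    · rw [hab, add_self, hf0, add_self]
    set y := f a + f b + f (a + b) with hy
    suffices h0 : y = 0 by exact (eq_of_add_eq_zero h0).symm
    refine S.anis _ ?_
    have hU : Q y ∈ Submodule.span (ZMod 2) ({a, b} : Set V) := by
      refine mem_of_fixed _ (Submodule.subset_span (Set.mem_insert a _)) ha fun φ hφa hφ => ?_
      have e1 : φ a = 0 := hφ _ (Submodule.subset_span (Set.mem_insert a _))
      have e2 : φ b = 0 := hφ _ (Submodule.subset_span (Set.mem_insert_of_mem _ rfl))
      rw [← heq, hy, map_add, map_add, ← hfeq, ← hfeq, ← hfeq, map_add, tv_fix e1, tv_fix e2]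
    -- the two interchanges
    have hsw : ∀ p q : V, p ≠ 0 → q ≠ 0 → p ≠ q → f p + f q + f (p + q) = y → Q y = p → False := by
      intro p q hp hq hpq hsum hQ
      have hnm : p ∉ Submodule.span (ZMod 2) ({p + q} : Set V) := fun hm => by
        obtain ⟨c, hc⟩ := Submodule.mem_span_singleton.mp hm
        rcases two_cases c with rfl | rfl
        · rw [zero_smul] at hc; exact hp hc.symm
        · rw [one_smul] at hc; exact hq (add_eq_left.mp hc)
      obtain ⟨φ, hφ, hφp⟩ := exists_dual _ hnm
      have hφc := hφ _ (Submodule.mem_span_singleton_self (p + q))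
      have hφq : φ q = 1 := by
        rw [map_add, hφp] at hφc
        rw [← eq_of_add_eq_zero hφc]
      set t := tv φ (p + q) hφc with ht
      have tp : t p = q := by rw [ht, tv_move hφp, ← add_assoc, add_self, zero_add]
      have tq : t q = p := by rw [ht, tv_move hφq, add_comm p q, ← add_assoc, add_self, zero_add]
      have hyfix : ρ t y = y := by
        rw [← hsum, map_add, map_add, ← hfeq, ← hfeq, ← hfeq, map_add, tp, tq, add_comm q p]
        abel
      have := heq t y
      rw [hyfix, hQ, tp] at this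
      exact hpq this
    have hab0 : a + b ≠ 0 := fun e => hab (eq_of_add_eq_zero e)
    rcases mem_pair.mp hU with e | e | e | e
    · exact e
    · exact (hsw a b ha hb hab rfl e).elim
    · exact (hsw b a hb ha (Ne.symm hab) (by rw [hy, add_comm b a]; abel) e).elim
    · refine (hsw (a + b) a hab0 ha (fun e0 => hb (add_eq_left.mp e0)) ?_ e).elim
      rw [hy, show a + b + a = b by rw [add_comm a b, add_assoc, add_self, add_zero]]
      abel
  exact ⟨(AddMonoidHom.mk' f hadd).toZModLinearMap 2, hfQ, hfeq⟩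

/-- The commutator form vanishes. -/
theorem Sys.no_quad (hr : 3 ≤ r) (x y : M) : B x y = 0 := by
  classical
  by_cases hM0 : ∀ z : M, z = 0
  · rw [hM0 x, map_zero, LinearMap.zero_apply]
  push Not at hM0
  obtain ⟨z₀, hz₀⟩ := hM0
  have hne : (⊤ : Submodule (ZMod 2) M) ≠ ⊥ := (Submodule.ne_bot_iff _).mpr ⟨z₀, trivial, hz₀⟩
  rcases S.card_cases S.top_inv hne with e | e <;> rw [Nat.card_congr (Submodule.topEquiv).toEquiv] at e
  · refine B_zero_of_injective S heq (fun p q hpq => ?_) x y
    by_cases hp : Q p = 0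
    · exact (S.anis p hp).trans (S.anis q (hpq ▸ hp)).symm
    have hf := S.card_fibre S.top_inv hp
    rw [Nat.card_congr (Submodule.topEquiv).toEquiv, e] at hf
    have h1 := (mul_eq_left₀ (by have := S.hp.pos; omega)).mp hf.symm
    haveI := (Nat.card_eq_one_iff_unique.mp h1).1
    exact congrArg (fun w : {u : (⊤ : Submodule (ZMod 2) M) // Q (u : M) = Q p} => w.1.1)
      (Subsingleton.elim ⟨⟨p, trivial⟩, rfl⟩ ⟨⟨q, trivial⟩, hpq.symm⟩)
  exfalso
  obtain ⟨s, hsQ, hseq⟩ := exists_section S heq hr e
  have hBss : ∀ p q, B (s p) (s q) = 0 := fun p q => by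
    have h1 := S.quad (s p) (s q)
    rw [← map_add, hsQ, hsQ, hsQ] at h1
    exact add_eq_left.mp h1.symm
  let φ : M → (V →ₗ[ZMod 2] V) := fun z => (B z).comp s
  have hsing : ∀ z, z ∉ LinearMap.range s → ∃ w, w ≠ 0 ∧ φ z w = w := by
    intro z hz
    by_contra hc
    push Not at hc
    have hinj : Function.Injective ((φ z) + LinearMap.id : V →ₗ[ZMod 2] V) := by
      rw [← LinearMap.ker_eq_bot, Submodule.eq_bot_iff]
      intro w hw
      rw [LinearMap.mem_ker, LinearMap.add_apply, LinearMap.id_apply] at hw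
      by_contra hw0
      exact hc w hw0 (eq_of_add_eq_zero hw)
    obtain ⟨w, hw⟩ := (Finite.injective_iff_surjective.mp hinj) (Q z)
    rw [LinearMap.add_apply, LinearMap.id_apply] at hw
    have h1 : z + s w = 0 := S.anis _ (by
      rw [S.quad, hsQ, show B z (s w) = φ z w from rfl, ← hw,
        show φ z w + w + w + φ z w = (φ z w + φ z w) + (w + w) by abel, add_self, add_self, add_zero])
    exact hz ⟨w, (eq_of_add_eq_zero h1).symm⟩
  have hconj : ∀ (t : V ≃ₗ[ZMod 2] V) z w, φ (ρ t z) (t w) = t (φ z w) := by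
    intro t z w
    show B (ρ t z) (s (t w)) = t (B z (s w))
    rw [hseq]
    have h1 := S.quad (ρ t z) (ρ t (s w))
    rw [← map_add, heq, heq, heq, S.quad, map_add, map_add] at h1
    exact (add_left_cancel h1).symm
  have hfin := S.finrank_V
  -- scalar
  have hscal : ∀ z a, φ z a = 0 ∨ φ z a = a := by
    intro z a
    by_cases ha : a = 0
    · left; rw [ha, map_zero]
    by_contra hc
    push Not at hc
    set c := φ z a with hcdef
    have hcs : c ∉ Submodule.span (ZMod 2) ({a} : Set V) := fun hm => by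
      obtain ⟨d, hd⟩ := Submodule.mem_span_singleton.mp hm
      rcases two_cases d with rfl | rfl
      · rw [zero_smul] at hd; exact hc.1 hd.symm
      · rw [one_smul] at hd; exact hc.2 hd.symm
    obtain ⟨v, -, hv⟩ := exists_notMem_of_finrank_lt (U := Submodule.span (ZMod 2) ({a, c} : Set V))
      (X := ⊤) (by rw [finrank_top]; have := finrank_span_pair_le a c; omega)
    obtain ⟨f, hf, hfv⟩ := exists_dual _ hv
    have hfa : f a = 0 := hf _ (Submodule.subset_span (Set.mem_insert a _))
    have hfc : f c = 0 := hf _ (Submodule.subset_span (Set.mem_insert_of_mem _ rfl))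
    set t := tv f a hfa with ht
    set y := z + ρ t z with hy
    have hψ : ∀ w, φ y w = f (φ z w) • a + f w • c := by
      intro w
      have hww : t (t w) = w := by rw [← LinearEquiv.mul_apply, tv_mul_self]; rfl
      show B (z + ρ t z) (s w) = _
      rw [map_add, LinearMap.add_apply, show B (ρ t z) (s w) = φ (ρ t z) w from rfl]
      conv_lhs => arg 2; rw [← hww]
      rw [hconj, ht, tv_apply f a hfa w, map_add, map_smul, ← hcdef, map_add, map_smul, tv_fix hfc, tv_apply]
      show φ z w + (φ z w + f (φ z w) • a + f w • c) = _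
      rw [add_assoc (φ z w), ← add_assoc (φ z w), add_self, zero_add]
    have hyU : y ∈ LinearMap.range s := by
      by_contra hyn
      obtain ⟨w, hw0, hw⟩ := hsing y hyn
      rw [hψ] at hw
      have hfw : f w = 0 := by rw [← hw, map_add, map_smul, map_smul, hfa, hfc, smul_zero, smul_zero, add_zero]
      rw [hfw, zero_smul, add_zero] at hw
      have hfz : f (φ z w) = 0 := by
        rw [← hw, map_smul, map_smul, ← hcdef, hfc, smul_zero]
      rw [hfz, zero_smul] at hw
      exact hw0 hw.symm
    obtain ⟨w₁, hw₁⟩ := hyU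
    have h0 : φ y v = 0 := by
      show B y (s v) = 0
      rw [← hw₁, hBss]
    rw [hψ, hfv, one_smul] at h0
    exact hcs (eq_of_add_eq_zero h0 ▸ Submodule.smul_mem _ _ (Submodule.mem_span_singleton_self a))
  have hone : ∀ z, z ∉ LinearMap.range s → ∀ w, φ z w = w := by
    intro z hz w
    obtain ⟨u, hu0, hu⟩ := hsing z hz
    rcases hscal z w with e1 | e1
    · by_contra hne
      rw [e1] at hne
      have hs := hscal z (u + w)
      rw [map_add, hu, e1, add_zero] at hs
      rcases hs with e2 | e2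
      · exact hu0 e2
      · exact hne (left_eq_add.mp e2).symm
    · exact e1
  have hrange : Nat.card (LinearMap.range s) = 2 ^ r := by
    have hinj : Function.Injective s := fun p q h1 => by rw [← hsQ p, h1, hsQ]
    rw [← Nat.card_congr (LinearEquiv.ofInjective s hinj).toEquiv, S.cardV]
  obtain ⟨z₁, hz₁⟩ : ∃ z, z ∉ LinearMap.range s := by
    by_contra hc
    push Not at hc
    rw [Submodule.eq_top_iff'.mpr hc, Nat.card_congr (Submodule.topEquiv).toEquiv, e] at hrange
    have := Nat.pow_right_injective (le_refl 2) hrange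
    omega
  obtain ⟨z₂, hz₂⟩ : ∃ z, z ∉ LinearMap.range s ⊔ Submodule.span (ZMod 2) {z₁} := by
    by_contra hc
    push Not at hc
    have h1 : Module.finrank (ZMod 2) (⊤ : Submodule (ZMod 2) M) ≤
        Module.finrank (ZMod 2) (LinearMap.range s) + 1 := by
      rw [← Submodule.eq_top_iff'.mpr hc]
      refine (Submodule.finrank_add_le_finrank_add_finrank _ _).trans (Nat.add_le_add_left ?_ _)
      rw [finrank_span_singleton (show z₁ ≠ 0 from fun e0 => hz₁ (by rw [e0]; exact Submodule.zero_mem _))]
    rw [finrank_top] at h1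
    rw [Module.natCard_eq_pow_finrank (K := ZMod 2), Nat.card_zmod] at hrange e
    have := Nat.pow_right_injective (le_refl 2) hrange
    have := Nat.pow_right_injective (le_refl 2) e
    omega
  have h12 : z₁ + z₂ ∉ LinearMap.range s := fun hm => hz₂ (by
    have h1 : z₁ + (z₁ + z₂) ∈ LinearMap.range s ⊔ Submodule.span (ZMod 2) {z₁} :=
      add_mem (Submodule.mem_sup_right (Submodule.mem_span_singleton_self z₁)) (Submodule.mem_sup_left hm)
    rwa [← add_assoc, add_self, zero_add] at h1)
  obtain ⟨v, hv⟩ := S.exists_ne_zero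
  have h1 := hone _ h12 v
  have h2 : φ (z₁ + z₂) v = φ z₁ v + φ z₂ v := by
    show B (z₁ + z₂) (s v) = _
    rw [map_add]; rfl
  rw [h2, hone _ hz₁, hone _ (fun hm => hz₂ (Submodule.mem_sup_left hm)), add_self] at h1
  exact hv h1.symm

end CfsgLib.Pyramidal
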