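import Cfsg.Agent.Lib.Pyramidal.Perfect
import Cfsg.Agent.Lib.Pyramidal.AbelianThree
import Cfsg.Agent.Lib.Pyramidal.NoQuad

/-!
The image on the involutions is not the whole linear group in dimension at least three.
-/

set_option autoImplicit false

namespace CfsgLib.Pyramidal

universe u

variable {G : Type u} [Group G] [Finite G] {V : Subgroup G} {r : ℕ}

/-- The centre of the Sylow subgroup is `V`. -/
noncomputable def Hyp.cenEquiv (H : Hyp V r) (P : Sylow 2 (Subgroup.centralizer (V : Set G))) [SqTwo (sub P)]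
    (hcen : ∀ x : sub P, x ∈ Subgroup.center (sub P) ↔ (x : G) ∈ V) : Cen (sub P) ≃ₗ[ZMod 2] Vec H :=
  LinearEquiv.ofBijective
    ((AddMonoidHom.mk' (fun a : Cen (sub P) => H.ofG (a.val : G) ((hcen _).mp (Additive.toMul a).2))
      fun _ _ => rfl).toZModLinearMap 2)
    ⟨fun _ _ e => Cen.ext (Subtype.ext (congrArg H.toG e :)), fun w =>
      ⟨cen (⟨H.toG w, H.le_sub P (H.toG_mem w)⟩ : sub P) ((hcen _).mpr (H.toG_mem w)), H.toG_inj rfl⟩⟩

/-- A perfect group does not induce the whole linear group on its involutions. -/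
theorem Hyp.not_full_perfect (H : Hyp V r) (hr : 3 ≤ r) (hperf : commutator G = ⊤)
    (hs : Function.Surjective H.act) : False := by
  classical
  haveI : Fact (Nat.Prime 2) := ⟨Nat.prime_two⟩
  let P : Sylow 2 (Subgroup.centralizer (V : Set G)) := default
  have htop := H.cent_two_group P hperf hs
  have hmem : ∀ c ∈ Subgroup.centralizer (V : Set G), c ∈ sub P := fun c hc =>
    ⟨⟨c, hc⟩, htop ▸ Subgroup.mem_top _, rfl⟩
  by_cases hab : ∀ a b : sub P, a * b = b * a
  · have X : AbExt H.act H.toG :=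
      { surj := hs
        pgroup := by
          rw [H.ker_act]
          exact sub_isPGroup.to_le hmem
        comm := fun s t h1 h2 => congrArg Subtype.val
          (hab ⟨s, hmem s (H.act_eq_one.mp h1)⟩ ⟨t, hmem t (H.act_eq_one.mp h2)⟩)
        inj := H.toG_inj
        add := H.toG_add
        inv := fun x => (H.sq x).trans ⟨fun hx => ⟨H.ofG x hx, rfl⟩, fun ⟨w, hw⟩ => hw ▸ H.toG_mem w⟩
        conj := H.act_toG }
    rcases Nat.lt_or_ge r 4 with h4 | h4
    · exact X.false_of_three (H.finrank_vec.trans (by omega))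
    · exact X.false_of_four (by rw [H.finrank_vec]; exact h4)
  obtain ⟨hSq, hcen, hcard⟩ := H.special P hab
  haveI := hSq
  obtain ⟨h, hh, ha, htr⟩ := H.cycle P
  have S := H.sys P hcard (H.inNorm P h) ha htr
  set η := H.cenEquiv P hcen with hη
  set Γ : G →* (Cen (sub P) ≃ₗ[ZMod 2] Cen (sub P)) := (autC.comp (conjT P)).comp (H.inNorm P) with hΓ
  set Φ : G →* (Quo (sub P) ≃ₗ[ZMod 2] Quo (sub P)) := (autQ.comp (conjT P)).comp (H.inNorm P) with hΦ
  have hcomp : ∀ g a, η (Γ g a) = H.act g (η a) := fun g a => H.toG_inj rfl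
  have hΓs : Function.Surjective Γ := by
    intro t
    obtain ⟨g, hg⟩ := hs ((η.symm.trans t).trans η)
    refine ⟨g, LinearEquiv.ext fun a => η.injective ?_⟩
    rw [hcomp, hg, LinearEquiv.trans_apply, LinearEquiv.trans_apply, η.symm_apply_apply]
  have hker : Γ.ker ≤ Φ.ker := fun g hg => by
    have h1 : H.act g = 1 := LinearEquiv.ext fun w => by
      obtain ⟨a, rfl⟩ := η.surjective w
      rw [← hcomp, MonoidHom.mem_ker.mp hg]
      rfl
    exact MonoidHom.mem_ker.mpr (autQ_inner (H.inNorm P g) (hmem g (H.act_eq_one.mp h1)))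
  let ρ := MonoidHom.liftOfSurjective Γ hΓs ⟨Φ, hker⟩
  have hρ : ∀ g, ρ (Γ g) = Φ g := fun g =>
    MonoidHom.liftOfRightInverse_comp_apply Γ _ (Function.rightInverse_surjInv hΓs) ⟨Φ, hker⟩ g
  have hB := S.no_quad (ρ := ρ) (fun t x => by
    obtain ⟨g, rfl⟩ := hΓs t
    rw [hρ]
    exact Qm_autQ _ x) hr
  refine hab fun a b => commutatorElement_eq_one_iff_mul_comm.mp ?_
  rw [← comm_proj b a]
  show (Bm (proj b) (proj a)).val = 1
  rw [hB, Cen.val_zero]

/-- The image on the involutions is not the whole linear group when `r ≥ 3`. -/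
theorem Hyp.not_full (H : Hyp V r) (hr : 3 ≤ r) (hs : Function.Surjective H.act) : False := by
  classical
  haveI : Fact (Nat.Prime 2) := ⟨Nat.prime_two⟩
  have hd3 : 3 ≤ Module.finrank (ZMod 2) (Vec H) := by rw [H.finrank_vec]; exact hr
  let p : ℕ → Prop := fun m => ∃ L : Subgroup G, L.Normal ∧ L.map H.act = ⊤ ∧ Nat.card L = m
  have hex : ∃ m, p m := ⟨_, ⊤, inferInstance, Subgroup.map_top_of_surjective _ hs, rfl⟩
  obtain ⟨L, hLn, hLmap, hLc⟩ := Nat.find_spec hex
  haveI := hLn
  have hperf' : ⁅L, L⁆ = L := by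
    have hle : ⁅L, L⁆ ≤ L := Subgroup.commutator_le_left L L
    refine Subgroup.eq_of_le_of_card_ge hle ?_
    rw [hLc]
    refine Nat.find_le ⟨⁅L, L⁆, inferInstance, ?_, rfl⟩
    rw [Subgroup.map_commutator, hLmap, ← commutator_def, eq_top_iff]
    exact fun g _ => perfect hd3 g
  have hperf : commutator L = ⊤ := by
    refine Subgroup.map_injective L.subtype_injective ?_
    rw [commutator_def, Subgroup.map_commutator, ← MonoidHom.range_eq_map, Subgroup.range_subtype]
    exact hperf'
  have hlift : ∀ t, ∃ l ∈ L, H.act l = t := fun t => Subgroup.mem_map.mp (hLmap ▸ Subgroup.mem_top t)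
  -- `V ≤ L`
  obtain ⟨a, -, ha⟩ := exists_notMem_of_finrank_lt (U := (⊥ : Submodule (ZMod 2) (Vec H))) (X := ⊤)
    (by rw [finrank_bot, finrank_top]; omega)
  have ha0 : a ≠ 0 := fun e => ha (e ▸ Submodule.zero_mem _)
  obtain ⟨w, -, hw⟩ := exists_notMem_of_finrank_lt (U := Submodule.span (ZMod 2) ({a} : Set (Vec H))) (X := ⊤)
    (by rw [finrank_span_singleton ha0, finrank_top]; omega)
  obtain ⟨f, hf, hfw⟩ := exists_dual _ hw
  have hfa := hf a (Submodule.mem_span_singleton_self a)
  obtain ⟨g, hgL, hg⟩ := hlift (tv f a hfa)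
  have heven : 2 ∣ Nat.card L := by
    have h1 : orderOf (tv f a hfa) = 2 := orderOf_eq_prime (by rw [pow_two, tv_mul_self]) fun e1 => by
      have e2 := LinearEquiv.congr_fun e1 w
      rw [tv_move hfw] at e2
      exact ha0 (add_eq_left.mp e2)
    rw [← h1, ← hg]
    exact (orderOf_map_dvd _ g).trans (Subgroup.orderOf_dvd_natCard L hgL)
  obtain ⟨v, hv⟩ := exists_prime_orderOf_dvd_card' 2 heven
  have hvV : (v : G) ∈ V := (H.sq _).mp (by
    have h1 := pow_orderOf_eq_one (v : G)
    rwa [Subgroup.orderOf_coe, hv, pow_two] at h1)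
  have hv1 : (v : G) ≠ 1 := fun e => by
    rw [← Subgroup.orderOf_coe, e, orderOf_one] at hv
    omega
  have hVL : V ≤ L := by
    intro u hu
    by_cases hu1 : u = 1
    · rw [hu1]; exact one_mem L
    obtain ⟨x, hx⟩ := H.trans v hvV u hu hv1 hu1
    exact hx ▸ hLn.conj_mem _ v.2 x
  -- the hypotheses inside `L`
  have H' : Hyp (V.subgroupOf L) r :=
    { normal := Subgroup.normal_subgroupOf_iff_le_normalizer hVL |>.mpr (by
        haveI := H.normal
        rw [Subgroup.normalizer_eq_top]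
        exact le_top)
      sq := fun x => by
        rw [Subgroup.mem_subgroupOf, ← H.sq]
        exact ⟨fun e => congrArg Subtype.val e, fun e => Subtype.ext e⟩
      card := (Nat.card_congr (Subgroup.subgroupOfEquivOfLe hVL).toEquiv).trans H.card
      hp := H.hp
      trans := fun x hx y hy hx1 hy1 => by
        obtain ⟨t, ht⟩ := exists_map (v := H.ofG (y : G) hy) (w := H.ofG (x : G) hx)
          (fun e => hy1 (Subtype.ext (congrArg H.toG e :))) (fun e => hx1 (Subtype.ext (congrArg H.toG e :)))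
        obtain ⟨l, hl, hlt⟩ := hlift t
        refine ⟨⟨l, hl⟩, Subtype.ext ?_⟩
        show l * (x : G) * l⁻¹ = y
        rw [← H.toG_ofG (x : G) hx, H.act_toG, hlt, ht]
        rfl
      core := fun N hN hodd => by
        have hle : N ≤ Cfsg.pPrimeCore 2 L := le_sSup ⟨hN, Nat.coprime_two_right.mpr hodd⟩
        have h2 : (Cfsg.pPrimeCore 2 L).map L.subtype = ⊥ := H.core _ inferInstance (by
          rw [Subgroup.card_map_of_injective L.subtype_injective]
          exact Nat.coprime_two_right.mp (CfsgLib.card_pPrimeCore_coprime 2))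
        rw [Subgroup.map_eq_bot_iff_of_injective _ L.subtype_injective] at h2
        exact eq_bot_iff.mpr (h2 ▸ hle) }
  -- the action inside `L`
  let η : Vec H' → Vec H := fun x => H.ofG ((H'.toG x : L) : G) (H'.toG_mem x)
  have hη : Function.Bijective η := by
    refine ⟨fun x y e => H'.toG_inj (Subtype.ext (congrArg H.toG e :)), fun x => ?_⟩
    exact ⟨H'.ofG ⟨H.toG x, hVL (H.toG_mem x)⟩ (H.toG_mem x), H.toG_inj rfl⟩
  let ηe : Vec H' ≃ₗ[ZMod 2] Vec H :=
    LinearEquiv.ofBijective ((AddMonoidHom.mk' η fun _ _ => rfl).toZModLinearMap 2) hη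
  refine H'.not_full_perfect hr hperf fun t => ?_
  obtain ⟨l, hl, hlt⟩ := hlift ((ηe.symm.trans t).trans ηe)
  refine ⟨⟨l, hl⟩, LinearEquiv.ext fun x => ηe.injective ?_⟩
  rw [show ηe (H'.act ⟨l, hl⟩ x) = H.act l (ηe x) from H.toG_inj rfl, hlt, LinearEquiv.trans_apply,
    LinearEquiv.trans_apply, ηe.symm_apply_apply]

end CfsgLib.Pyramidal
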