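import Cfsg.Agent.Lib.Pyramidal.Setup
import Cfsg.Agent.Lib.SuzukiTwo.Main

/-!
The normaliser of a Sylow 2-subgroup of the centraliser of the involutions.
-/

set_option autoImplicit false

namespace CfsgLib.Pyramidal

universe u

variable {G : Type u} [Group G] {V : Subgroup G} {r : ℕ}

/-- A Sylow 2-subgroup of `C_G(V)` as a subgroup of `G`. -/
def sub (P : Sylow 2 (Subgroup.centralizer (V : Set G))) : Subgroup G :=
  (P : Subgroup (Subgroup.centralizer (V : Set G))).map (Subgroup.centralizer (V : Set G)).subtype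

variable {P : Sylow 2 (Subgroup.centralizer (V : Set G))}

theorem sub_le : sub P ≤ Subgroup.centralizer (V : Set G) := Subgroup.map_subtype_le _

theorem sub_isPGroup : IsPGroup 2 (sub P) := P.2.map _

theorem sub_subgroupOf : (sub P).subgroupOf (Subgroup.centralizer (V : Set G)) = (P : Subgroup _) :=
  Subgroup.comap_map_eq_self_of_injective (Subgroup.subtype_injective _) _

theorem sub_odd [Finite G] : Odd ((sub P).relIndex (Subgroup.centralizer (V : Set G))) := by
  haveI : Fact (Nat.Prime 2) := ⟨Nat.prime_two⟩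
  show Odd ((sub P).subgroupOf _).index
  rw [sub_subgroupOf]
  exact Nat.not_even_iff_odd.mp fun he => P.not_dvd_index (even_iff_two_dvd.mp he)

theorem Hyp.le_sub [Finite G] (H : Hyp V r) (P : Sylow 2 (Subgroup.centralizer (V : Set G))) : V ≤ sub P := by
  haveI := H.normal
  haveI : Fact (Nat.Prime 2) := ⟨Nat.prime_two⟩
  intro v hv
  have h1 : IsPGroup 2 (V.subgroupOf (Subgroup.centralizer (V : Set G))) :=
    H.isPGroup.comap_of_injective _ (Subgroup.subtype_injective _)
  have h2 : IsPGroup 2 ↥(V.subgroupOf (Subgroup.centralizer (V : Set G)) ⊔ (P : Subgroup _)) :=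
    h1.to_sup_of_normal_left P.2
  exact ⟨⟨v, H.le_cent hv⟩, P.is_maximal' h2 le_sup_right ▸ Subgroup.mem_sup_left hv, rfl⟩

theorem Hyp.frattini [Finite G] (H : Hyp V r) (P : Sylow 2 (Subgroup.centralizer (V : Set G))) (g : G) :
    ∃ n ∈ Subgroup.normalizer ((sub P : Subgroup G) : Set G), ∃ c ∈ Subgroup.centralizer (V : Set G), n * c = g := by
  haveI := H.cent_normal
  haveI : Fact (Nat.Prime 2) := ⟨Nat.prime_two⟩
  exact Subgroup.mem_sup_of_normal_right.mp (show g ∈ Subgroup.normalizer ((sub P : Subgroup G) : Set G) ⊔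
    Subgroup.centralizer (V : Set G) by rw [sub, Sylow.normalizer_sup_eq_top P]; trivial)

theorem Hyp.cycle [Finite G] (H : Hyp V r) (P : Sylow 2 (Subgroup.centralizer (V : Set G))) :
    ∃ h ∈ Subgroup.normalizer ((sub P : Subgroup G) : Set G), (∃ a : ℕ, h ^ (2 ^ r - 1) ^ a = 1) ∧
      ∀ u ∈ V, ∀ v ∈ V, u ≠ 1 → v ≠ 1 → ∃ i : ℕ, h ^ i * u * (h ^ i)⁻¹ = v := by
  refine H.exists_cycle _ fun u hu v hv hu' hv' => ?_
  obtain ⟨g, hg⟩ := H.trans u hu v hv hu' hv'
  obtain ⟨n, hn, c, hc, rfl⟩ := H.frattini P g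
  refine ⟨n, hn, ?_⟩
  rw [← hg]
  have h1 : c * u * c⁻¹ = u := by rw [← Subgroup.mem_centralizer_iff.mp hc u hu, mul_inv_cancel_right]
  conv_lhs => rw [← h1]
  group

/-- Conjugation by the normaliser. -/
def conjT (P : Sylow 2 (Subgroup.centralizer (V : Set G))) :
    Subgroup.normalizer ((sub P : Subgroup G) : Set G) →* MulAut (sub P) := (sub P).normalizerMonoidHom

theorem conjT_apply (n : Subgroup.normalizer ((sub P : Subgroup G) : Set G)) (t : sub P) :
    ((conjT P n t : sub P) : G) = n * t * (n : G)⁻¹ := rfl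

theorem conjT_pow_apply (n : Subgroup.normalizer ((sub P : Subgroup G) : Set G)) (i : ℕ) (t : sub P) :
    (((conjT P n ^ i) t : sub P) : G) = (n : G) ^ i * t * ((n : G) ^ i)⁻¹ := by
  rw [← map_pow, conjT_apply]
  rfl

/-- The part of the normaliser centralising `V`. -/
def centPart (P : Sylow 2 (Subgroup.centralizer (V : Set G))) :
    Subgroup (Subgroup.normalizer ((sub P : Subgroup G) : Set G)) :=
  (Subgroup.centralizer (V : Set G)).subgroupOf _

theorem Hyp.centPart_fix (H : Hyp V r) {n : Subgroup.normalizer ((sub P : Subgroup G) : Set G)} (hn : n ∈ centPart P)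
    (x : sub P) (hx : x * x = 1) : conjT P n x = x := by
  refine Subtype.ext ?_
  rw [conjT_apply]
  have hxV : (x : G) ∈ V := (H.sq _).mp (congrArg Subtype.val hx)
  rw [← Subgroup.mem_centralizer_iff.mp (Subgroup.mem_subgroupOf.mp hn) _ hxV, mul_inv_cancel_right]

/-- The action of the centralising part has odd order if the Sylow subgroup acts trivially. -/
theorem odd_image [Finite G] {A : Type*} [Group A]
    (φ : Subgroup.normalizer ((sub P : Subgroup G) : Set G) →* A)
    (hT : ∀ n : Subgroup.normalizer ((sub P : Subgroup G) : Set G), (n : G) ∈ sub P → φ n = 1) :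
    Odd (Nat.card ((centPart P).map φ)) := by
  have hle : sub P ≤ (Subgroup.centralizer (V : Set G) ⊓ (Subgroup.normalizer ((sub P : Subgroup G) : Set G))) := le_inf sub_le Subgroup.le_normalizer
  have h1 : (sub P).subgroupOf (Subgroup.normalizer ((sub P : Subgroup G) : Set G)) ≤ φ.ker ⊓ centPart P := fun n hn =>
    ⟨MonoidHom.mem_ker.mpr (hT n hn), sub_le hn⟩
  have h2 : Nat.card ((centPart P).map φ) ∣ ((sub P).subgroupOf (Subgroup.normalizer ((sub P : Subgroup G) : Set G))).relIndex (centPart P) := by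
    rw [← Subgroup.relIndex_ker]
    have : φ.ker.relIndex (centPart P) = (φ.ker ⊓ centPart P).relIndex (centPart P) :=
      (Subgroup.inf_relIndex_right _ _).symm
    rw [this]
    exact Subgroup.relIndex_dvd_of_le_left _ h1
  refine Odd.of_dvd_nat ?_ h2
  rw [centPart, ← Subgroup.inf_subgroupOf_right (Subgroup.centralizer (V : Set G)) (Subgroup.normalizer ((sub P : Subgroup G) : Set G)),
    Subgroup.relIndex_subgroupOf inf_le_right]
  exact Odd.of_dvd_nat (sub_odd (P := P))
    ⟨(Subgroup.centralizer (V : Set G) ⊓ (Subgroup.normalizer ((sub P : Subgroup G) : Set G))).relIndex (Subgroup.centralizer (V : Set G)),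
      (Subgroup.relIndex_mul_relIndex _ _ _ hle inf_le_left).symm⟩

/-- A non-abelian Sylow 2-subgroup of `C_G(V)` is special with centre `V`. -/
theorem Hyp.special [Finite G] (H : Hyp V r) (P : Sylow 2 (Subgroup.centralizer (V : Set G)))
    (hne : ¬ ∀ a b : sub P, a * b = b * a) :
    SqTwo (sub P) ∧ (∀ x : sub P, x ∈ Subgroup.center (sub P) ↔ (x : G) ∈ V) ∧
      Nat.card (Subgroup.center (sub P)) = 2 ^ r := by
  obtain ⟨h, hh, -, htr⟩ := H.cycle P
  have hyp : SuzukiTwo.Hyp (sub P) (conjT P ⟨h, hh⟩) := by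
    refine ⟨sub_isPGroup, fun x y hx1 hx hy1 hy => ?_, ?_⟩
    · obtain ⟨i, hi⟩ := htr x ((H.sq _).mp (congrArg Subtype.val hx)) y ((H.sq _).mp (congrArg Subtype.val hy))
        (fun e => hx1 (Subtype.ext e)) (fun e => hy1 (Subtype.ext e))
      exact ⟨i, Subtype.ext (by rw [conjT_pow_apply]; exact hi)⟩
    · classical
      haveI := Fintype.ofFinite V
      have h2 : 2 < Fintype.card {v : V // v ≠ 1} + 1 := by
        rw [← Nat.card_eq_fintype_card, H.card_sharp]
        have h4 : 2 ^ 2 ≤ 2 ^ r := Nat.pow_le_pow_right (by norm_num) H.r_prime.two_le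
        omega
      obtain ⟨a, b, hab⟩ := Fintype.exists_pair_of_one_lt_card (α := {v : V // v ≠ 1}) (by omega)
      exact ⟨⟨a.1, H.le_sub P a.1.2⟩, ⟨b.1, H.le_sub P b.1.2⟩,
        fun e => hab (Subtype.ext (Subtype.ext (congrArg Subtype.val e :))),
        fun e => a.2 (Subtype.ext (congrArg Subtype.val e :)), Subtype.ext ((H.sq _).mpr a.1.2),
        fun e => b.2 (Subtype.ext (congrArg Subtype.val e :)), Subtype.ext ((H.sq _).mpr b.1.2)⟩
  push Not at hne
  have hg := SuzukiTwo.good _ _ hyp hne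
  haveI : SqTwo (sub P) := ⟨hg, fun x hx => hyp.central hx⟩
  have hiff : ∀ x : sub P, x ∈ Subgroup.center (sub P) ↔ (x : G) ∈ V := fun x => by
    rw [mem_center_iff_sq, ← H.sq]
    exact ⟨fun e => congrArg Subtype.val e, fun e => Subtype.ext e⟩
  refine ⟨‹_›, hiff, ?_⟩
  rw [← H.card]
  exact Nat.card_congr
    { toFun := fun z => ⟨(z : sub P), (hiff _).mp z.2⟩
      invFun := fun v => ⟨⟨v, H.le_sub P v.2⟩, (hiff _).mpr v.2⟩
      left_inv := fun _ => rfl
      right_inv := fun _ => rfl }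

/-- The system on `T/Z(T)` given by a cycle in the normaliser. -/
theorem Hyp.sys [Finite G] (H : Hyp V r) (P : Sylow 2 (Subgroup.centralizer (V : Set G))) [SqTwo (sub P)]
    (hcard : Nat.card (Subgroup.center (sub P)) = 2 ^ r)
    (h : Subgroup.normalizer ((sub P : Subgroup G) : Set G)) (ha : ∃ a : ℕ, (h : G) ^ (2 ^ r - 1) ^ a = 1)
    (htr : ∀ u ∈ V, ∀ v ∈ V, u ≠ 1 → v ≠ 1 → ∃ i : ℕ, (h : G) ^ i * u * ((h : G) ^ i)⁻¹ = v) :
    Sys (Qm (T := sub P)) Bm (autQ (conjT P h)) (autC (conjT P h)) r := by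
  refine mkSys hcard H.hp _ (fun x y hx1 hx hy1 hy => ?_) ?_
  · obtain ⟨i, hi⟩ := htr x ((H.sq _).mp (congrArg Subtype.val hx)) y ((H.sq _).mp (congrArg Subtype.val hy))
      (fun e => hx1 (Subtype.ext e)) (fun e => hy1 (Subtype.ext e))
    exact ⟨i, Subtype.ext (by rw [conjT_pow_apply]; exact hi)⟩
  · obtain ⟨a, ha⟩ := ha
    exact ⟨a, by rw [← map_pow, show h ^ (2 ^ r - 1) ^ a = 1 from Subtype.ext ha, map_one]⟩

theorem autQ_inner [SqTwo (sub P)] (n : Subgroup.normalizer ((sub P : Subgroup G) : Set G))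
    (hn : (n : G) ∈ sub P) : (autQ.comp (conjT P)) n = 1 := by
  refine LinearEquiv.ext fun a => ?_
  obtain ⟨x, rfl⟩ := proj_surjective a
  have e : conjT P n x = ⟨(n : G), hn⟩ * x * (⟨(n : G), hn⟩ : sub P)⁻¹ := Subtype.ext rfl
  show proj (conjT P n x) = proj x
  rw [e, proj_mul, proj_mul, add_comm (proj _) (proj x), add_assoc, ← proj_mul, mul_inv_cancel,
    show proj (1 : sub P) = 0 from rfl, add_zero]

/-- The image on `T/Z(T)` of the centralising part is semiregular and abelian. -/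
theorem Hyp.free [Finite G] (H : Hyp V r) (P : Sylow 2 (Subgroup.centralizer (V : Set G))) [SqTwo (sub P)]
    (hcard : Nat.card (Subgroup.center (sub P)) = 2 ^ r) :
    (∀ d ∈ (centPart P).map (autQ.comp (conjT P)), d ≠ 1 → Free d) ∧
      ∀ a ∈ (centPart P).map (autQ.comp (conjT P)), ∀ b ∈ (centPart P).map (autQ.comp (conjT P)), a * b = b * a := by
  obtain ⟨h, hh, ha, htr⟩ := H.cycle P
  refine (H.sys P hcard ⟨h, hh⟩ ha htr).free _ (odd_image _ autQ_inner) ?_ ?_
  · rintro _ ⟨n, hn, rfl⟩ z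
    exact isometry (H.centPart_fix hn) z
  · rintro _ ⟨n, hn, rfl⟩
    refine ⟨⟨h, hh⟩ * n * ⟨h, hh⟩⁻¹, ?_, by rw [map_mul, map_mul, map_inv]; rfl⟩
    haveI := H.cent_normal
    exact H.cent_normal.conj_mem _ hn h

end CfsgLib.Pyramidal
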