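import Cfsg.Agent.Lib.Pyramidal.Action
import Cfsg.Agent.Lib.SingerFive.PGroupBound

/-!
In a perfect group with full linear image on the involutions, `C_G(V)` is a 2-group.
-/

set_option autoImplicit false

namespace CfsgLib.Pyramidal

open scoped commutatorElement

universe u

/-- A central element in an abelian Sylow subgroup of a perfect group is trivial. -/
theorem eq_one_of_central_abelian_sylow {X : Type*} [Group X] [Finite X] {p : ℕ} [Fact p.Prime]
    (hperf : commutator X = ⊤) (S : Sylow p X) (hS : ∀ a b : (S : Subgroup X), a * b = b * a) {z : X}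
    (hz : z ∈ Subgroup.center X) (hzS : z ∈ (S : Subgroup X)) : z = 1 := by
  letI : CommGroup (S : Subgroup X) := { (inferInstance : Group (S : Subgroup X)) with mul_comm := hS }
  have h1 : MonoidHom.transfer (MonoidHom.id (S : Subgroup X)) z = 1 :=
    MonoidHom.mem_ker.mp (Abelianization.commutator_subset_ker _ (hperf ▸ Subgroup.mem_top z))
  rw [MonoidHom.transfer_eq_pow (MonoidHom.id (S : Subgroup X)) z fun k g _ => by
    rw [mul_assoc, ← Subgroup.mem_center_iff.mp (pow_mem hz k) g, inv_mul_cancel_left]] at h1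
  have h2 : z ^ (S : Subgroup X).index = 1 := congrArg Subtype.val h1
  obtain ⟨j, hj⟩ := S.2 ⟨z, hzS⟩
  have h3 : z ^ p ^ j = 1 := congrArg Subtype.val hj
  obtain ⟨i, -, hi⟩ := (Nat.dvd_prime_pow Fact.out).mp (orderOf_dvd_of_pow_eq_one h3)
  refine orderOf_eq_one_iff.mp ?_
  rcases Nat.eq_zero_or_pos i with rfl | hpos
  · rw [hi, pow_zero]
  · exact absurd ((dvd_pow_self p hpos.ne').trans (hi ▸ orderOf_dvd_of_pow_eq_one h2)) S.not_dvd_index

/-- In a perfect group, commutative conjugations of an element are trivial. -/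
theorem commute_of_perfect {G X : Type*} [Group G] [Group X] (hperf : commutator G = ⊤) (Φ : G →* X) (e : X)
    (h : ∀ a b : G, Φ (a * b) * e * (Φ (a * b))⁻¹ = Φ (b * a) * e * (Φ (b * a))⁻¹) (g : G) :
    Φ g * e = e * Φ g := by
  have hle : commutator G ≤ (Subgroup.centralizer ({e} : Set X)).comap Φ := by
    rw [commutator_def]
    refine Subgroup.commutator_le.mpr fun a _ b _ => Subgroup.mem_comap.mpr
      (Subgroup.mem_centralizer_singleton_iff.mpr ?_)
    have h1 := h a⁻¹ b⁻¹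
    rw [commutatorElement_def, show a * b * a⁻¹ * b⁻¹ = (b⁻¹ * a⁻¹)⁻¹ * (a⁻¹ * b⁻¹) by group, map_mul Φ (b⁻¹ * a⁻¹)⁻¹,
      map_inv Φ (b⁻¹ * a⁻¹)]
    calc (Φ (b⁻¹ * a⁻¹))⁻¹ * Φ (a⁻¹ * b⁻¹) * e
        = (Φ (b⁻¹ * a⁻¹))⁻¹ * (Φ (a⁻¹ * b⁻¹) * e * (Φ (a⁻¹ * b⁻¹))⁻¹) * Φ (a⁻¹ * b⁻¹) := by group
      _ = e * ((Φ (b⁻¹ * a⁻¹))⁻¹ * Φ (a⁻¹ * b⁻¹)) := by rw [h1]; group
  exact Subgroup.mem_centralizer_singleton_iff.mp (Subgroup.mem_comap.mp (hle (hperf ▸ Subgroup.mem_top g)))

variable {G : Type u} [Group G] [Finite G] {V : Subgroup G} {r : ℕ} (H : Hyp V r)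
  (P : Sylow 2 (Subgroup.centralizer (V : Set G)))

include H

/-- Every element normalises the Sylow subgroup. -/
def Hyp.inNorm : G →* Subgroup.normalizer ((sub P : Subgroup G) : Set G) :=
  (MonoidHom.id G).codRestrict _ fun g => by
    haveI := H.sylow_normal P
    rw [Subgroup.normalizer_eq_top]
    exact Subgroup.mem_top g

theorem Hyp.inNorm_coe (g : G) : (H.inNorm P g : G) = g := rfl

/-- In a perfect group with full image `C_G(V)` is its Sylow 2-subgroup. -/
theorem Hyp.cent_two_group (hperf : commutator G = ⊤) (hs : Function.Surjective H.act) :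
    (P : Subgroup (Subgroup.centralizer (V : Set G))) = ⊤ := by
  classical
  by_cases hab : ∀ a b : sub P, a * b = b * a
  · exact H.cent_two_group_abelian P hab
  haveI : Fact (Nat.Prime 2) := ⟨Nat.prime_two⟩
  haveI : Fact (Nat.Prime 3) := ⟨Nat.prime_three⟩
  obtain ⟨hSq, -, hcard⟩ := H.special P hab
  haveI := hSq
  haveI hTn := H.sylow_normal P
  obtain ⟨hfree, hDab⟩ := H.free P hcard
  obtain ⟨h, hh, ha, htr⟩ := H.cycle P
  have S := H.sys P hcard (H.inNorm P h) ha htr
  have hDodd := odd_image (P := P) (autQ.comp (conjT P)) autQ_inner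
  set Φ := (autQ.comp (conjT P)).comp (H.inNorm P) with hΦ
  set D := (centPart P).map (autQ.comp (conjT P)) with hD
  have hDmem : ∀ c ∈ Subgroup.centralizer (V : Set G), Φ c ∈ D := fun c hc => ⟨H.inNorm P c, hc, rfl⟩
  have hDof : ∀ d ∈ D, ∃ c ∈ Subgroup.centralizer (V : Set G), Φ c = d := by
    rintro _ ⟨n, hn, rfl⟩
    exact ⟨n, hn, rfl⟩
  have hDiso : ∀ d ∈ D, ∀ z, Qm (d z) = Qm z := by
    rintro _ ⟨n, hn, rfl⟩ z
    exact isometry (H.centPart_fix hn) z
  have hDnorm : ∀ g : G, ∀ d ∈ D, Φ g * d * (Φ g)⁻¹ ∈ D := by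
    intro g d hd
    obtain ⟨c, hc, rfl⟩ := hDof d hd
    rw [← map_inv, ← map_mul, ← map_mul]
    exact hDmem _ (H.cent_normal.conj_mem c hc g)
  -- elements of prime order
  have hprime : ∀ (l : ℕ), l.Prime → ∀ e ∈ D, orderOf e = l →
      r = 3 ∧ l = 3 ∧ ∀ g : G, Φ g * e = e * Φ g := by
    intro l hl e he ho
    have he1 : e ≠ 1 := fun e1 => hl.ne_one (by rw [← ho, e1, orderOf_one])
    have hlodd : Odd l := hDodd.of_dvd_nat (ho ▸ Subgroup.orderOf_dvd_natCard _ he)
    have hel : e ^ l = 1 := ho ▸ pow_orderOf_eq_one e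
    have hcomm : ∀ g : G, Φ g * e = e * Φ g := by
      refine commute_of_perfect hperf Φ e fun a b => ?_
      have hpw : ∀ g : G, ∃ i : ℕ, Φ g * e * (Φ g)⁻¹ = e ^ i := fun g =>
        mem_powers_of_free hl hlodd he1 hel (by rw [conj_pow, hel, mul_one, mul_inv_cancel])
          (hDab e he _ (hDnorm g e he))
          fun i j hne => hfree _ (mul_mem (pow_mem he i) (pow_mem (hDnorm g e he) j)) hne
      obtain ⟨i, hi⟩ := hpw a
      obtain ⟨j, hj⟩ := hpw b
      calc Φ (a * b) * e * (Φ (a * b))⁻¹ = Φ a * (Φ b * e * (Φ b)⁻¹) * (Φ a)⁻¹ := by rw [map_mul]; group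
        _ = e ^ (i * j) := by rw [hj, ← conj_pow, hi, pow_mul]
        _ = e ^ (j * i) := by rw [mul_comm]
        _ = Φ b * (Φ a * e * (Φ a)⁻¹) * (Φ b)⁻¹ := by rw [hi, ← conj_pow, hj, pow_mul]
        _ = Φ (b * a) * e * (Φ (b * a))⁻¹ := by rw [map_mul]; group
    obtain ⟨c, hc, hce⟩ := hDof e he
    have h1 := S.det_perfect hl hlodd (hDiso e he) (hfree e he he1) he1 hel (hcomm h).symm Φ.range
      (by rintro _ ⟨g, rfl⟩; exact (hcomm g).symm) (by
        rw [MonoidHom.range_eq_map, ← Subgroup.map_commutator, ← commutator_def, hperf, ← MonoidHom.range_eq_map]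
        exact ⟨c, hce⟩)
    exact ⟨h1.1, h1.2, hcomm⟩
  -- `D` is trivial
  have hDbot : D = ⊥ := by
    by_contra hne
    haveI : Nontrivial D := (Subgroup.nontrivial_iff_ne_bot D).mpr hne
    obtain ⟨l, hl, hld⟩ := Nat.exists_prime_and_dvd (n := Nat.card D) (by
      have := Finite.one_lt_card (α := D); omega)
    haveI := Fact.mk hl
    obtain ⟨e, he⟩ := exists_prime_orderOf_dvd_card' l hld
    obtain ⟨hr, -, -⟩ := hprime l hl e e.2 (by rw [Subgroup.orderOf_coe, he])
    have hD3 : IsPGroup 3 D := IsPGroup.of_card (Nat.eq_prime_pow_of_unique_prime_dvd Nat.card_pos.ne'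
      fun {q} hq hqd => by
        haveI := Fact.mk hq
        obtain ⟨x, hx⟩ := exists_prime_orderOf_dvd_card' q hqd
        exact (hprime q hq x x.2 (by rw [Subgroup.orderOf_coe, hx])).2.1)
    have hcentral : ∀ (n : ℕ) (d : Quo (sub P) ≃ₗ[ZMod 2] Quo (sub P)), d ∈ D → d ^ 3 ^ n = 1 →
        ∀ g : G, Φ g * d = d * Φ g := by
      intro n
      induction n with
      | zero => intro d _ hd g; rw [pow_zero, pow_one] at hd; rw [hd, mul_one, one_mul]
      | succ n ih =>
        intro d hd hdn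
        have h3 := ih (d ^ 3) (pow_mem hd 3) (by rw [← pow_mul, ← pow_succ']; exact hdn)
        have hz : ∀ g : G, ∃ z ∈ D, Φ g * d * (Φ g)⁻¹ = z * d ∧ ∀ g' : G, Φ g' * z = z * Φ g' := by
          intro g
          refine ⟨Φ g * d * (Φ g)⁻¹ * d⁻¹, mul_mem (hDnorm g d hd) (inv_mem hd), by group, ?_⟩
          have hz3 : (Φ g * d * (Φ g)⁻¹ * d⁻¹) ^ 3 = 1 := by
            rw [Commute.mul_pow (hDab _ (hDnorm g d hd) _ (inv_mem hd)), conj_pow, h3 g, mul_inv_cancel_right,
              inv_pow, mul_inv_cancel]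
          by_cases hz1 : Φ g * d * (Φ g)⁻¹ * d⁻¹ = 1
          · intro g'; rw [hz1, mul_one, one_mul]
          · exact (hprime 3 Nat.prime_three _ (mul_mem (hDnorm g d hd) (inv_mem hd))
              (orderOf_eq_prime hz3 hz1)).2.2
        refine commute_of_perfect hperf Φ d fun a b => ?_
        obtain ⟨za, hza, ea, ca⟩ := hz a
        obtain ⟨zb, hzb, eb, cb⟩ := hz b
        calc Φ (a * b) * d * (Φ (a * b))⁻¹ = Φ a * (Φ b * d * (Φ b)⁻¹) * (Φ a)⁻¹ := by rw [map_mul]; group
          _ = zb * (Φ a * d * (Φ a)⁻¹) := by rw [eb, ← mul_assoc (Φ a), cb a]; group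
          _ = za * (Φ b * d * (Φ b)⁻¹) := by rw [ea, eb, ← mul_assoc, ← mul_assoc, hDab zb hzb za hza]
          _ = Φ b * (Φ a * d * (Φ a)⁻¹) * (Φ b)⁻¹ := by rw [ea, ← mul_assoc (Φ b), ca b]; group
          _ = Φ (b * a) * d * (Φ (b * a))⁻¹ := by rw [map_mul]; group
    -- transfer
    set Φr := Φ.rangeRestrict with hΦr
    set D' := (Subgroup.centralizer (V : Set G)).map Φr with hD'
    have hD'c : D' ≤ Subgroup.center Φ.range := by
      rintro _ ⟨c, hc, rfl⟩
      refine Subgroup.mem_center_iff.mpr ?_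
      rintro ⟨_, g, rfl⟩
      obtain ⟨n, hn⟩ := hD3 ⟨Φ c, hDmem c hc⟩
      exact Subtype.ext (hcentral n _ (hDmem c hc) (congrArg Subtype.val hn) g)
    have hD'3 : IsPGroup 3 D' := by
      rintro ⟨_, c, hc, rfl⟩
      obtain ⟨n, hn⟩ := hD3 ⟨Φ c, hDmem c hc⟩
      exact ⟨n, Subtype.ext (Subtype.ext (congrArg (fun z : D => (z : Quo (sub P) ≃ₗ[ZMod 2] Quo (sub P))) hn :))⟩
    have hperfX : commutator Φ.range = ⊤ := by
      rw [commutator_def, ← Subgroup.map_top_of_surjective Φr Φ.rangeRestrict_surjective, ← Subgroup.map_commutator,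
        ← commutator_def, hperf]
    obtain ⟨S3, hS3⟩ := hD'3.exists_le_sylow
    have hidx : D'.index ∣ 168 := by
      refine (Subgroup.index_map_dvd (H := Subgroup.centralizer (V : Set G)) Φ.rangeRestrict_surjective).trans ?_
      rw [← H.ker_act, Subgroup.index_ker, MonoidHom.range_eq_top.mpr hs, Subgroup.card_top,
        SingerFive.card_linearEquiv (H.finrank_vec.trans hr)]
      norm_num [Fin.prod_univ_three, ZMod.card]
    have hSab : ∀ a b : (S3 : Subgroup Φ.range), a * b = b * a := by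
      have hle : D'.subgroupOf (S3 : Subgroup Φ.range) ≤ Subgroup.center (S3 : Subgroup Φ.range) := fun x hx =>
        Subgroup.mem_center_iff.mpr fun y => Subtype.ext (Subgroup.mem_center_iff.mp (hD'c hx) y)
      obtain ⟨j, hj⟩ := S3.2.index (Subgroup.center (S3 : Subgroup Φ.range))
      have hdvd : (Subgroup.center (S3 : Subgroup Φ.range)).index ∣ 168 :=
        ((Subgroup.index_dvd_of_le hle).trans (Subgroup.relIndex_dvd_index_of_le hS3)).trans hidx
      have hdvd3 : (Subgroup.center (S3 : Subgroup Φ.range)).index ∣ 3 := by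
        rw [hj] at hdvd ⊢
        rcases j with _ | _ | j
        · simp
        · simp
        · exact absurd ((Dvd.intro (3 ^ j) (by ring) : 9 ∣ 3 ^ (j + 1 + 1)).trans hdvd) (by decide)
      rw [Subgroup.index_eq_card] at hdvd3
      haveI := isCyclic_of_card_dvd_prime hdvd3
      exact commutative_of_cyclic_center_quotient (QuotientGroup.mk' (Subgroup.center (S3 : Subgroup Φ.range)))
        (QuotientGroup.ker_mk' _).le
    obtain ⟨c, hc, hce⟩ := hDof e e.2
    have h1 := eq_one_of_central_abelian_sylow hperfX S3 hSab (hD'c ⟨c, hc, rfl⟩) (hS3 ⟨c, hc, rfl⟩)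
    have h2 : Φ c = 1 := congrArg Subtype.val h1
    exact hl.ne_one (by rw [← he, ← Subgroup.orderOf_coe, ← hce, h2, orderOf_one])
  -- odd elements centralise `T`
  set K := Subgroup.centralizer ((sub P : Subgroup G) : Set G) with hK
  haveI : K.Normal := inferInstance
  have hKC : K ≤ Subgroup.centralizer (V : Set G) := Subgroup.centralizer_le (H.le_sub P)
  haveI hPn : (P : Subgroup (Subgroup.centralizer (V : Set G))).Normal := by
    rw [← sub_subgroupOf]
    infer_instance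
  let S2 : Sylow 2 K := default
  have hS2 : ∀ s ∈ (S2 : Subgroup K), (s : G) ∈ sub P := by
    intro s hs
    have h1 : IsPGroup 2 (((S2 : Subgroup K).map K.subtype).subgroupOf (Subgroup.centralizer (V : Set G))) :=
      (S2.2.map _).comap_of_injective _ (Subgroup.subtype_injective _)
    have h2 := P.is_maximal' (h1.to_sup_of_normal_right P.2) le_sup_right
    have h3 : (⟨s, hKC s.2⟩ : Subgroup.centralizer (V : Set G)) ∈ (P : Subgroup _) :=
      h2 ▸ Subgroup.mem_sup_left (Subgroup.mem_subgroupOf.mpr ⟨s, hs, rfl⟩)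
    exact ⟨_, h3, rfl⟩
  have hKtop := H.two_group_of_central K S2 fun n _ => Subgroup.mem_centralizer_iff.mpr fun s hs =>
    Subtype.ext (Subgroup.mem_centralizer_iff.mp n.2 _ (hS2 s hs))
  refine Subgroup.index_eq_one.mp (Nat.eq_one_iff_not_exists_prime_dvd.mpr fun l hl hld => ?_)
  have hl2 : l ≠ 2 := fun e2 => P.not_dvd_index (e2 ▸ hld)
  haveI := Fact.mk hl
  obtain ⟨c, hc⟩ := exists_prime_orderOf_dvd_card' (G := Subgroup.centralizer (V : Set G)) l
    (hld.trans (Subgroup.index_dvd_card _))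
  have hΦc : Φ c = 1 := Subgroup.mem_bot.mp (hDbot ▸ hDmem c c.2)
  have hodd : Odd (orderOf (c : G)) := by
    rw [Subgroup.orderOf_coe, hc]
    exact hl.odd_of_ne_two hl2
  have hα : conjT P (H.inNorm P c) = 1 := autQ_injective (H.centPart_fix (show _ ∈ centPart P from c.2))
    (hodd.of_dvd_nat ((orderOf_map_dvd _ _).trans (orderOf_map_dvd _ _))) hΦc
  have hcK : (c : G) ∈ K := Subgroup.mem_centralizer_iff.mpr fun t ht => by
    have h1 := congrArg (fun β : MulAut (sub P) => ((β ⟨t, ht⟩ : sub P) : G)) hα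
    simp only [conjT_apply, MulAut.one_apply, H.inNorm_coe] at h1
    exact (mul_inv_eq_iff_eq_mul.mp h1).symm
  obtain ⟨n, hn⟩ := IsPGroup.of_equiv S2.2 ((MulEquiv.subgroupCongr hKtop).trans Subgroup.topEquiv) ⟨c, hcK⟩
  have h1 : (c : G) ^ 2 ^ n = 1 := congrArg Subtype.val hn
  refine hl2 ((Nat.prime_dvd_prime_iff_eq hl Nat.prime_two).mp (hl.dvd_of_dvd_pow (n := n) ?_))
  rw [← hc, ← Subgroup.orderOf_coe]
  exact orderOf_dvd_of_pow_eq_one h1

end CfsgLib.Pyramidal
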