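import Mathlib

/-!
Anisotropic quadratic maps `M → V` of elementary abelian 2-groups which are equivariant for an automorphism
permuting the non-zero elements of `V` transitively (`|V| - 1` a prime).
-/

set_option autoImplicit false

namespace CfsgLib.Pyramidal

universe u v

variable {M : Type u} {V : Type v} [AddCommGroup M] [AddCommGroup V] [Module (ZMod 2) M] [Module (ZMod 2) V]
  [Finite M] [Finite V]

/-- An anisotropic quadratic map with an equivariant automorphism transitive on `V∖0`. -/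
structure Sys (Q : M → V) (B : M →ₗ[ZMod 2] M →ₗ[ZMod 2] V) (h : M ≃ₗ[ZMod 2] M) (k : V ≃ₗ[ZMod 2] V)
    (r : ℕ) : Prop where
  anis : ∀ x, Q x = 0 → x = 0
  quad : ∀ x y, Q (x + y) = Q x + Q y + B x y
  equiv : ∀ x, Q (h x) = k (Q x)
  trans : ∀ v w : V, v ≠ 0 → w ≠ 0 → ∃ i : ℕ, (k ^ i) v = w
  cardV : Nat.card V = 2 ^ r
  hp : (2 ^ r - 1).Prime
  hord : ∃ a : ℕ, h ^ (2 ^ r - 1) ^ a = 1
  small : Nat.card M ≤ 2 ^ (2 * r)

variable {Q : M → V} {B : M →ₗ[ZMod 2] M →ₗ[ZMod 2] V} {h : M ≃ₗ[ZMod 2] M} {k : V ≃ₗ[ZMod 2] V} {r : ℕ}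

theorem add_self {W : Type*} [AddCommGroup W] [Module (ZMod 2) W] (x : W) : x + x = 0 := by
  rw [← two_smul (ZMod 2) x, show (2 : ZMod 2) = 0 from rfl, zero_smul]

theorem eq_of_add_eq_zero {W : Type*} [AddCommGroup W] [Module (ZMod 2) W] {x y : W} (e : x + y = 0) : x = y :=
  (eq_neg_of_add_eq_zero_left e).trans (neg_eq_of_add_eq_zero_left (add_self y))

theorem Sys.prime_r (S : Sys Q B h k r) : r.Prime := by
  have h2 : 2 ≤ r := by
    by_contra hc
    rcases (by omega : r = 0 ∨ r = 1) with e | e <;> exact absurd S.hp (by rw [e]; norm_num)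
  exact (Nat.prime_of_pow_sub_one_prime (by omega) S.hp).2

theorem Sys.Q_zero (S : Sys Q B h k r) : Q 0 = 0 := by
  have e := S.quad 0 0
  rw [map_zero, add_zero, add_zero] at e
  exact add_eq_left.mp e.symm

theorem Sys.B_self (S : Sys Q B h k r) (x : M) : B x x = 0 := by
  have e := S.quad x x
  rw [add_self x, S.Q_zero, add_self, zero_add] at e
  exact e.symm

theorem Sys.B_symm (S : Sys Q B h k r) (x y : M) : B x y = B y x := by
  have e := S.quad x y
  rw [add_comm x y, S.quad y x, add_comm (Q y) (Q x)] at e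
  exact (add_left_cancel e).symm

theorem Sys.B_iso (S : Sys Q B h k r) {g : M ≃ₗ[ZMod 2] M} (hg : ∀ x, Q (g x) = Q x) (x y : M) :
    B (g x) (g y) = B x y := by
  have e := S.quad (g x) (g y)
  rw [← map_add, hg, hg, hg, S.quad x y] at e
  exact (add_left_cancel e).symm

theorem Sys.equiv_pow (S : Sys Q B h k r) (i : ℕ) (x : M) : Q ((h ^ i) x) = (k ^ i) (Q x) := by
  induction i with
  | zero => rfl
  | succ i ih => rw [pow_succ', pow_succ', LinearEquiv.mul_apply, LinearEquiv.mul_apply, S.equiv, ih]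

theorem mem_pow {U : Submodule (ZMod 2) M} (hU : ∀ u ∈ U, h u ∈ U) (i : ℕ) : ∀ u ∈ U, (h ^ i) u ∈ U := by
  induction i with
  | zero => exact fun u hu => hu
  | succ i ih =>
    intro u hu
    rw [pow_succ', LinearEquiv.mul_apply]
    exact hU _ (ih u hu)

theorem Sys.surj (S : Sys Q B h k r) {U : Submodule (ZMod 2) M} (hU : ∀ u ∈ U, h u ∈ U) (hne : U ≠ ⊥)
    {v : V} (hv : v ≠ 0) : ∃ u ∈ U, Q u = v := by
  obtain ⟨u, hu, hu0⟩ := Submodule.exists_mem_ne_zero_of_ne_bot hne
  obtain ⟨i, hi⟩ := S.trans (Q u) v (fun e => hu0 (S.anis u e)) hv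
  exact ⟨(h ^ i) u, mem_pow hU i u hu, by rw [S.equiv_pow, hi]⟩

/-- Two non-trivial invariant subspaces meeting trivially are not orthogonal. -/
theorem Sys.no_orth (S : Sys Q B h k r) {U U' : Submodule (ZMod 2) M} (hU : ∀ u ∈ U, h u ∈ U)
    (hU' : ∀ u ∈ U', h u ∈ U') (hd : U ⊓ U' = ⊥) (horth : ∀ x ∈ U, ∀ y ∈ U', B x y = 0) :
    U = ⊥ ∨ U' = ⊥ := by
  by_contra hc
  push Not at hc
  obtain ⟨u, hu, hu0⟩ := Submodule.exists_mem_ne_zero_of_ne_bot hc.1
  obtain ⟨u', hu', he⟩ := S.surj hU' hc.2 (fun e => hu0 (S.anis u e))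
  have e : u + u' = 0 := S.anis _ (by rw [S.quad, he, horth u hu u' hu', add_zero, add_self])
  have : u ∈ U ⊓ U' := ⟨hu, eq_of_add_eq_zero e ▸ hu'⟩
  rw [hd] at this
  exact hu0 this

/-- The fibres of `Q` on an invariant subspace all have the same size. -/
theorem Sys.card_fibre (S : Sys Q B h k r) {U : Submodule (ZMod 2) M} (hU : ∀ u ∈ U, h u ∈ U) {v : V}
    (hv : v ≠ 0) : Nat.card U - 1 = (2 ^ r - 1) * Nat.card {u : U // Q u = v} := by
  classical
  haveI := Fintype.ofFinite M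
  haveI := Fintype.ofFinite V
  have hle : ∀ a b : V, a ≠ 0 → b ≠ 0 → Nat.card {u : U // Q u = a} ≤ Nat.card {u : U // Q u = b} := by
    intro a b ha hb
    obtain ⟨i, hi⟩ := S.trans a b ha hb
    refine Nat.card_le_card_of_injective
      (fun u => ⟨⟨(h ^ i) u.1.1, mem_pow hU i _ u.1.2⟩, by rw [S.equiv_pow, u.2, hi]⟩) fun x y e => ?_
    exact Subtype.ext (Subtype.ext ((h ^ i).injective (congrArg (fun z => (z.1 : U).1) e)))
  have hz : Nat.card {u : U // Q u = 0} = 1 := by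
    rw [Nat.card_eq_one_iff_unique]
    exact ⟨⟨fun x y => Subtype.ext (Subtype.ext ((S.anis _ x.2).trans (S.anis _ y.2).symm))⟩, ⟨⟨0, S.Q_zero⟩⟩⟩
  have hsum : Nat.card U = ∑ a : V, Nat.card {u : U // Q u = a} := by
    rw [← Nat.card_congr (Equiv.sigmaFiberEquiv fun u : U => Q u), Nat.card_sigma]
  rw [hsum, ← Finset.add_sum_erase _ _ (Finset.mem_univ (0 : V)), hz, Nat.add_sub_cancel_left,
    Finset.sum_congr rfl fun a ha => le_antisymm (hle a v (Finset.ne_of_mem_erase ha) hv)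
      (hle v a hv (Finset.ne_of_mem_erase ha)),
    Finset.sum_const, Finset.card_erase_of_mem (Finset.mem_univ _), Finset.card_univ, smul_eq_mul,
    ← Nat.card_eq_fintype_card, S.cardV]

theorem card_eq_two_pow (U : Submodule (ZMod 2) M) : Nat.card U = 2 ^ Module.finrank (ZMod 2) U := by
  rw [Module.natCard_eq_pow_finrank (K := ZMod 2), Nat.card_zmod]

theorem Sys.card_cases (S : Sys Q B h k r) {U : Submodule (ZMod 2) M} (hU : ∀ u ∈ U, h u ∈ U) (hne : U ≠ ⊥) :
    Nat.card U = 2 ^ r ∨ Nat.card U = 2 ^ (2 * r) := by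
  have hr := S.prime_r.two_le
  obtain ⟨u, hu, hu0⟩ := Submodule.exists_mem_ne_zero_of_ne_bot hne
  have e := S.card_fibre hU (fun e => hu0 (S.anis u e))
  rw [card_eq_two_pow] at e ⊢
  set d := Module.finrank (ZMod 2) U
  have hd0 : d ≠ 0 := fun e => hne (Submodule.finrank_eq_zero.mp e)
  have hg : Nat.gcd (2 ^ r - 1) (2 ^ d - 1) = 2 ^ r - 1 := Nat.gcd_eq_left (e ▸ dvd_mul_right _ _)
  rw [Nat.pow_sub_one_gcd_pow_sub_one] at hg
  have hgr : Nat.gcd r d = r := by
    have h1 : 1 ≤ 2 ^ Nat.gcd r d := Nat.one_le_two_pow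
    have h2 : 1 ≤ 2 ^ r := Nat.one_le_two_pow
    exact Nat.pow_right_injective (le_refl 2) (show 2 ^ _ = 2 ^ _ by omega)
  obtain ⟨c, hc⟩ : r ∣ d := hgr ▸ Nat.gcd_dvd_right r d
  have hle : d ≤ 2 * r := by
    refine (Nat.pow_le_pow_iff_right (le_refl 2)).mp (le_trans ?_ S.small)
    rw [← card_eq_two_pow]
    exact Nat.card_le_card_of_injective Subtype.val Subtype.val_injective
  have : c = 1 ∨ c = 2 := by
    rcases c with _ | _ | _ | c
    · omega
    · exact Or.inl rfl
    · exact Or.inr rfl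
    · exfalso; rw [hc] at hle; nlinarith
  rcases this with rfl | rfl
  · left; rw [hc, mul_one]
  · right; rw [hc, mul_comm]

/-- `Q` is injective on a proper invariant subspace. -/
theorem Sys.inj_of_proper (S : Sys Q B h k r) {U : Submodule (ZMod 2) M} (hU : ∀ u ∈ U, h u ∈ U)
    (htop : U ≠ ⊤) {x y : M} (hx : x ∈ U) (hy : y ∈ U) (he : Q x = Q y) : x = y := by
  by_cases hx0 : Q x = 0
  · exact (S.anis x hx0).trans (S.anis y (he ▸ hx0)).symm
  have hne : U ≠ ⊥ := fun e => hx0 (by rw [(Submodule.mem_bot (ZMod 2)).mp (show x ∈ (⊥ : Submodule (ZMod 2) M) by rw [← e]; exact hx), S.Q_zero])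
  have hMc : Nat.card M ≤ 2 ^ (2 * r) := S.small
  rcases S.card_cases hU hne with e | e
  · have h1 := S.card_fibre hU hx0
    rw [e] at h1
    have hpos := S.hp.pos
    have hf : Nat.card {u : U // Q u = Q x} = 1 := by
      by_contra hne1
      rcases Nat.eq_zero_or_pos (Nat.card {u : U // Q u = Q x}) with h0 | h0
      · rw [h0, mul_zero] at h1; omega
      · have : 2 ≤ Nat.card {u : U // Q u = Q x} := by omega
        nlinarith
    have := (Nat.card_eq_one_iff_unique.mp hf).1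
    exact congrArg (fun z : {u : U // Q u = Q x} => z.1.1)
      (Subsingleton.elim (⟨⟨x, hx⟩, rfl⟩ : {u : U // Q u = Q x}) ⟨⟨y, hy⟩, he.symm⟩)
  · exfalso
    refine htop (Submodule.eq_top_iff'.mpr fun z => ?_)
    by_contra hz
    have hlt : Nat.card U < Nat.card M := by
      have := Fintype.ofFinite M
      have := Fintype.ofFinite U
      rw [Nat.card_eq_fintype_card, Nat.card_eq_fintype_card]
      exact Fintype.card_lt_of_injective_of_notMem _ Subtype.val_injective (b := z) (by simpa using hz)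
    omega

end CfsgLib.Pyramidal
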