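import Cfsg.Agent.Lib.Pyramidal.DetInvol

/-!
Involutions modulo an abelian normal subgroup of odd order, when they form a single class.
-/

set_option autoImplicit false

namespace CfsgLib.Pyramidal

universe u

variable {G : Type u} [Group G] [Finite G] {N : Subgroup G} [N.Normal]

omit [Finite G] [N.Normal] in
theorem orderOf_two {M : Type*} [Monoid M] {x : M} : orderOf x = 2 ↔ x * x = 1 ∧ x ≠ 1 := by
  haveI : Fact (Nat.Prime 2) := ⟨Nat.prime_two⟩
  rw [orderOf_eq_prime_iff, pow_two]

/-- An involution of the quotient by an odd normal subgroup lifts. -/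
theorem exists_lift (hodd : Odd (Nat.card N)) {y : G ⧸ N} (hy : orderOf y = 2) :
    ∃ x : G, orderOf x = 2 ∧ (x : G ⧸ N) = y := by
  obtain ⟨x, rfl⟩ := QuotientGroup.mk_surjective y
  obtain ⟨hyy, hy1⟩ := orderOf_two.mp hy
  have hx2 : x * x ∈ N := (QuotientGroup.eq_one_iff _).mp (by rw [QuotientGroup.mk_mul]; exact hyy)
  obtain ⟨m, hm⟩ := hodd
  have h1 : (x * x) ^ (2 * m + 1) = 1 := by
    have h2 := pow_card_eq_one' (x := (⟨x * x, hx2⟩ : N))
    rw [hm] at h2
    exact congrArg Subtype.val h2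
  have himg : ((x ^ (2 * m + 1) : G) : G ⧸ N) = x := by
    rw [QuotientGroup.mk_pow, pow_succ, pow_mul, pow_two, hyy, one_pow, one_mul]
  refine ⟨x ^ (2 * m + 1), orderOf_two.mpr ⟨?_, fun e => hy1 ?_⟩, himg⟩
  · rw [← (Commute.refl x).mul_pow, h1]
  · rw [← himg, e, QuotientGroup.mk_one]

/-- Involutions of the quotient are again one class. -/
theorem quotient_conj (hodd : Odd (Nat.card N))
    (hconj : ∀ x y : G, orderOf x = 2 → orderOf y = 2 → ∃ g : G, g * x * g⁻¹ = y) :
    ∀ x y : G ⧸ N, orderOf x = 2 → orderOf y = 2 → ∃ g : G ⧸ N, g * x * g⁻¹ = y := by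
  intro x y hx hy
  obtain ⟨a, ha, rfl⟩ := exists_lift hodd hx
  obtain ⟨b, hb, rfl⟩ := exists_lift hodd hy
  obtain ⟨g, hg⟩ := hconj a b ha hb
  exact ⟨(g : G ⧸ N), by rw [← hg]; simp⟩

variable (hab : ∀ a ∈ N, ∀ b ∈ N, a * b = b * a)

/-- Conjugation moves the inverted parts. -/
theorem invPart_conj (g t : G) {x : G} (hx : x ∈ invPart N hab t) :
    g * x * g⁻¹ ∈ invPart N hab (g * t * g⁻¹) := by
  refine ⟨(inferInstance : N.Normal).conj_mem x hx.1 g, ?_⟩
  rw [show g * t * g⁻¹ * (g * x * g⁻¹) * (g * t * g⁻¹)⁻¹ = g * (t * x * t⁻¹) * g⁻¹ by group, hx.2, conj_inv]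

theorem card_invPart_conj (g t : G) : Nat.card (invPart N hab (g * t * g⁻¹)) = Nat.card (invPart N hab t) := by
  refine (Nat.card_congr
    { toFun := fun x : invPart N hab t => (⟨g * x * g⁻¹, invPart_conj hab g t x.2⟩ : invPart N hab (g * t * g⁻¹))
      invFun := fun x : invPart N hab (g * t * g⁻¹) => (⟨g⁻¹ * x * g, ?_⟩ : invPart N hab t)
      left_inv := fun x => Subtype.ext (by
        show g⁻¹ * (g * x * g⁻¹) * g = x
        group)
      right_inv := fun x => Subtype.ext (by
        show g * (g⁻¹ * x * g) * g⁻¹ = x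
        group) }).symm
  have h1 := invPart_conj hab g⁻¹ _ x.2
  rwa [inv_inv, show g⁻¹ * (g * t * g⁻¹) * g = t by group] at h1

/-- The number of involutions is the number of those of the quotient times the inverted part. -/
theorem card_involutions (hodd : Odd (Nat.card N))
    (hconj : ∀ x y : G, orderOf x = 2 → orderOf y = 2 → ∃ g : G, g * x * g⁻¹ = y) {t : G} (ht : orderOf t = 2) :
    Nat.card {x : G // orderOf x = 2} =
      Nat.card {y : G ⧸ N // orderOf y = 2} * Nat.card (invPart N hab t) := by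
  classical
  haveI := Fintype.ofFinite {y : G ⧸ N // orderOf y = 2}
  have hmap : ∀ x : {x : G // orderOf x = 2}, orderOf ((x : G) : G ⧸ N) = 2 := by
    rintro ⟨x, hx⟩
    obtain ⟨hxx, hx1⟩ := orderOf_two.mp hx
    refine orderOf_two.mpr ⟨by rw [← QuotientGroup.mk_mul, hxx, QuotientGroup.mk_one], fun e => hx1 ?_⟩
    obtain ⟨m, hm⟩ := hodd
    have h2 := congrArg Subtype.val (pow_card_eq_one' (x := (⟨x, (QuotientGroup.eq_one_iff x).mp e⟩ : N)))
    rw [hm] at h2
    rw [SubgroupClass.coe_pow, pow_succ, pow_mul, pow_two, hxx, one_pow, one_mul] at h2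
    exact h2
  let f : {x : G // orderOf x = 2} → {y : G ⧸ N // orderOf y = 2} := fun x => ⟨_, hmap x⟩
  rw [Nat.card_congr (Equiv.sigmaFiberEquiv f).symm, Nat.card_sigma]
  have key : ∀ y, Nat.card {x : {x : G // orderOf x = 2} // f x = y} = Nat.card (invPart N hab t) := by
    intro y
    obtain ⟨s, hs, hsy⟩ := exists_lift hodd y.2
    obtain ⟨g, hg⟩ := hconj t s ht hs
    rw [← card_invPart_conj hab g t, hg]
    obtain ⟨hss, hs1⟩ := orderOf_two.mp hs
    have hsi : s⁻¹ = s := inv_eq_of_mul_eq_one_right hss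
    refine Nat.card_congr
      { toFun := fun x => ⟨s * (x.1 : G), ?_, ?_⟩
        invFun := fun n => ⟨⟨s * n, ?_⟩, Subtype.ext ?_⟩
        left_inv := fun x => Subtype.ext (Subtype.ext (by
          show s * (s * (x.1 : G)) = x.1
          rw [← mul_assoc, hss, one_mul]))
        right_inv := fun n => Subtype.ext (by
          show s * (s * (n : G)) = n
          rw [← mul_assoc, hss, one_mul]) }
    · rw [show s * (x.1 : G) = s⁻¹ * x.1 by rw [hsi]]
      exact QuotientGroup.eq.mp (hsy.trans (congrArg Subtype.val x.2).symm)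
    · obtain ⟨hxx, -⟩ := orderOf_two.mp x.1.2
      rw [mul_inv_rev, inv_eq_of_mul_eq_one_right hxx, hsi, ← mul_assoc s s, hss, one_mul]
    · refine orderOf_two.mpr ⟨?_, fun e => ?_⟩
      · have h1 := n.2.2
        rw [hsi] at h1
        rw [show s * (n : G) * (s * n) = s * n * s * n by group, h1, inv_mul_cancel]
      · have h2 := orderOf_two.mp y.2
        refine h2.2 (hsy.symm.trans ((QuotientGroup.eq_one_iff s).mpr ?_))
        rw [eq_inv_of_mul_eq_one_left e]
        exact inv_mem n.2.1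
    · show ((s * n : G) : G ⧸ N) = y.1
      rw [QuotientGroup.mk_mul, (QuotientGroup.eq_one_iff (n : G)).mpr n.2.1, mul_one, hsy]
  rw [Finset.sum_congr rfl fun y _ => key y, Finset.sum_const, Finset.card_univ, smul_eq_mul,
    Nat.card_eq_fintype_card (α := {y : G ⧸ N // orderOf y = 2})]

end CfsgLib.Pyramidal
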