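import Cfsg.Agent.Lib.Pyramidal.Image
import Cfsg.Agent.Lib.Pyramidal.Quotient
import Cfsg.Agent.Lib.CharTheory.Burnside
import Cfsg.Agent.Lib.KazarinSolvable
import Cfsg.Agent.S4179

/-!
A finite group with one class of `p ^ k` involutions is solvable if `k` is odd or `p ^ k = 9`.
-/

set_option autoImplicit false

namespace CfsgLib.Pyramidal

universe u

/-- `p ^ k + 1` is a power of two only for `k = 1`. -/
theorem eq_one_of_pow_add_one {p k r : ℕ} (hp : p.Prime) (hp2 : p ≠ 2) (hk : Odd k) (h : p ^ k + 1 = 2 ^ r) :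
    k = 1 := by
  obtain ⟨i, rfl⟩ := hk
  have key : ∀ i : ℕ, ∃ m : ℤ, Odd m ∧ (p : ℤ) ^ (2 * i + 1) + 1 = ((p : ℤ) + 1) * m := by
    intro i
    induction i with
    | zero => exact ⟨1, odd_one, by ring⟩
    | succ i ih =>
      obtain ⟨m, ⟨a, ha⟩, he⟩ := ih
      obtain ⟨b, hb⟩ : Odd (p : ℤ) := by exact_mod_cast hp.odd_of_ne_two hp2
      refine ⟨(p : ℤ) ^ 2 * m + (1 - p), ⟨4 * a * b * b + 4 * a * b + a + 2 * b * b + b, ?_⟩, ?_⟩
      · rw [ha, hb]; ring
      · linear_combination ((p : ℤ) ^ 2) * he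
  obtain ⟨m, ⟨a, ha⟩, he⟩ := key i
  have hm : m.natAbs * (p + 1) = 2 ^ r := by
    rw [← h]
    zify
    rw [abs_of_nonneg (by nlinarith [pow_nonneg (Int.natCast_nonneg p) (2 * i + 1), Int.natCast_nonneg p])]
    rw [he]; ring
  obtain ⟨j, -, hj⟩ := (Nat.dvd_prime_pow Nat.prime_two).mp (Dvd.intro (p + 1) hm)
  have hm1 : m.natAbs = 1 := by
    rcases j with _ | j
    · simpa using hj
    · exfalso
      have h1 : Odd m.natAbs := Int.natAbs_odd.mpr ⟨a, ha⟩
      rw [hj, Nat.odd_iff, pow_succ] at h1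
      omega
  rw [hm1, one_mul] at hm
  have h2 : p ^ (2 * i + 1) = p ^ 1 := by rw [pow_one]; omega
  exact Nat.pow_right_injective hp.two_le h2

section Involutions

variable {G : Type u} [Group G] [Finite G] {V : Subgroup G} {r : ℕ}

/-- Solvability in the case of a four group and beyond. -/
theorem Hyp.solvable (H : Hyp V r) : Group.IsSolvable G := by
  haveI := H.cent_solvable
  haveI : Fact (Nat.Prime (2 ^ r - 1)) := ⟨H.hp⟩
  have htr : ∀ v w : Vec H, v ≠ 0 → w ≠ 0 → ∃ h ∈ H.act.range, h v = w := fun v w hv hw => by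
    obtain ⟨g, hg⟩ := H.act_transitive v w hv hw
    exact ⟨_, ⟨g, rfl⟩, hg⟩
  haveI : Finite (Vec H ≃ₗ[ZMod 2] Vec H) :=
    Finite.of_injective (fun g : Vec H ≃ₗ[ZMod 2] Vec H => (g : Vec H → Vec H)) DFunLike.coe_injective
  haveI : Group.IsSolvable H.act.range := by
    rcases (Cfsg.Agent.S4179.result r H.finrank_vec H.hp H.act.range).mp htr with
      ⟨-, hc⟩ | ⟨hc, C, hCle, hCn, hCcyc, hCc⟩ | htop
    · exact CfsgLib.CharTheory.isSolvable_of_card_two_primes (a := 1) (b := 0) H.hp Nat.prime_two (by rw [hc]; ring)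
    · exact CfsgLib.CharTheory.isSolvable_of_card_two_primes (a := 1) (b := 1) H.hp H.r_prime (by rw [hc]; ring)
    · have hs : Function.Surjective H.act := MonoidHom.range_eq_top.mp htop
      have hr : r = 2 := by
        by_contra hne
        exact H.not_full (by have := H.r_prime.two_le; omega) hs
      refine CfsgLib.CharTheory.isSolvable_of_card_two_primes (p := 2) (q := 3) (a := 1) (b := 1) Nat.prime_two Nat.prime_three ?_
      rw [htop, Subgroup.card_top, SingerFive.card_linearEquiv (H.finrank_vec.trans hr)]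
      norm_num [Fin.prod_univ_two, ZMod.card]
  exact Group.isSolvable_of_ker_le_range (Subgroup.centralizer (V : Set G)).subtype H.act.rangeRestrict
    (by rw [MonoidHom.ker_rangeRestrict, H.ker_act, Subgroup.range_subtype])

variable {N : Subgroup G} [N.Normal]

/-- The derived subgroup of a non-solvable group contains every involution when these form one class. -/
theorem mem_commutator_of_class
    (hconj : ∀ x y : G, orderOf x = 2 → orderOf y = 2 → ∃ g : G, g * x * g⁻¹ = y) (hns : ¬ Group.IsSolvable G)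
    {t : G} (ht : orderOf t = 2) : t ∈ commutator G := by
  haveI : Fact (Nat.Prime 2) := ⟨Nat.prime_two⟩
  have heven : 2 ∣ Nat.card (commutator G) := by
    by_contra hodd
    haveI := CfsgLib.OddOrder.feitThompson (Nat.not_even_iff_odd.mp fun he => hodd (even_iff_two_dvd.mp he) :
      Odd (Nat.card (commutator G)))
    exact hns (Group.isSolvable_of_ker_le_range (commutator G).subtype (Abelianization.of : G →* Abelianization G)
      (by rw [Abelianization.ker_of, Subgroup.range_subtype]))
  obtain ⟨v, hv⟩ := exists_prime_orderOf_dvd_card' 2 heven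
  obtain ⟨g, hg⟩ := hconj v t (by rw [Subgroup.orderOf_coe, hv]) ht
  exact hg ▸ (inferInstance : (commutator G).Normal).conj_mem _ v.2 g

/-- An inverted normal subgroup of order nine. -/
theorem solvable_of_nine (hab : ∀ a ∈ N, ∀ b ∈ N, a * b = b * a) (hexp : ∀ x ∈ N, x ^ 3 = 1)
    (hN : Nat.card N = 3 ^ 2) (hconj : ∀ x y : G, orderOf x = 2 → orderOf y = 2 → ∃ g : G, g * x * g⁻¹ = y) {t : G}
    (ht : orderOf t = 2) (hinv : ∀ x ∈ N, t * x * t⁻¹ = x⁻¹) : Group.IsSolvable G := by
  haveI : Fact (Nat.Prime 3) := ⟨Nat.prime_three⟩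
  haveI : Fact (Nat.Prime 2) := ⟨Nat.prime_two⟩
  letI : CommGroup N :=
    { (inferInstance : Group N) with mul_comm := fun a b => Subtype.ext (hab a a.2 b b.2) }
  letI : Module (ZMod 3) (Additive N) := AddCommGroup.zmodModule fun a =>
    Subtype.ext (hexp _ (Additive.toMul a : N).2)
  haveI : Finite (Additive N) := inferInstanceAs (Finite N)
  have hfin : Module.finrank (ZMod 3) (Additive N) = 2 := by
    have h1 : Nat.card (Additive N) = 3 ^ 2 := hN
    rw [Module.natCard_eq_pow_finrank (K := ZMod 3), Nat.card_zmod] at h1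
    exact Nat.pow_right_injective (by norm_num) h1
  haveI : Finite (Additive N ≃ₗ[ZMod 3] Additive N) :=
    Finite.of_injective (fun g : Additive N ≃ₗ[ZMod 3] Additive N => (g : Additive N → Additive N))
      DFunLike.coe_injective
  let lin : MulAut N →* (Additive N ≃ₗ[ZMod 3] Additive N) :=
    { toFun := fun α =>
        { (MonoidHom.toAdditive α.toMonoidHom).toZModLinearMap 3 with
          invFun := fun a => Additive.ofMul (α.symm a.toMul)
          left_inv := fun a => congrArg Additive.ofMul (α.symm_apply_apply a.toMul)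
          right_inv := fun a => congrArg Additive.ofMul (α.apply_symm_apply a.toMul) }
      map_one' := LinearEquiv.ext fun _ => rfl
      map_mul' := fun _ _ => LinearEquiv.ext fun _ => rfl }
  set Φ := lin.comp (MulAut.conjNormal (H := N)) with hΦ
  haveI : Group.IsSolvable (Additive N ≃ₗ[ZMod 3] Additive N) :=
    CfsgLib.CharTheory.isSolvable_of_card_two_primes (p := 2) (q := 3) (a := 4) (b := 1) Nat.prime_two Nat.prime_three (by
      rw [SingerFive.card_linearEquiv hfin]
      norm_num [Fin.prod_univ_two, ZMod.card])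
  have hker : ∀ g : G, Φ g = 1 → ∀ x ∈ N, g * x * g⁻¹ = x := fun g hg x hx =>
    congrArg (fun z : Additive N => ((Additive.toMul z : N) : G))
      (LinearEquiv.congr_fun hg (Additive.ofMul ⟨x, hx⟩))
  have hodd : Odd (Nat.card Φ.ker) := by
    refine Nat.not_even_iff_odd.mp fun he => ?_
    obtain ⟨v, hv⟩ := exists_prime_orderOf_dvd_card' 2 (even_iff_two_dvd.mp he)
    obtain ⟨g, hg⟩ := hconj v t (by rw [Subgroup.orderOf_coe, hv]) ht
    have hcard : 1 < Nat.card N := by rw [hN]; norm_num
    obtain ⟨⟨x, hx⟩, hne⟩ := @exists_ne N (Finite.one_lt_card_iff_nontrivial.mp hcard) 1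
    have h1 := hker t (MonoidHom.mem_ker.mp (hg ▸ (inferInstance : Φ.ker.Normal).conj_mem _ v.2 g)) x hx
    rw [hinv x hx, inv_eq_iff_mul_eq_one] at h1
    refine hne (Subtype.ext ?_)
    have h3 := hexp x hx
    rw [pow_succ, pow_two, h1, one_mul] at h3
    exact h3
  haveI := CfsgLib.OddOrder.feitThompson hodd
  exact Group.isSolvable_of_ker_le_range Φ.ker.subtype Φ (by rw [Subgroup.range_subtype])

end Involutions

/-- One class of `p ^ k` involutions with `k` odd or `p ^ k = 9`. -/
theorem solvable_of_class {p : ℕ} (hp : p.Prime) (hp2 : p ≠ 2) :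
    ∀ (n : ℕ) (G : Type u) [Group G] [Finite G] (k : ℕ), Nat.card G = n → (Odd k ∨ p ^ k = 9) →
      Nat.card {x : G // orderOf x = 2} = p ^ k →
      (∀ x y : G, orderOf x = 2 → orderOf y = 2 → ∃ g : G, g * x * g⁻¹ = y) → Group.IsSolvable G := by
  intro n
  induction n using Nat.strong_induction_on with
  | _ n ih =>
  intro G _ _ k hn hk hcard hconj
  by_contra hns
  haveI : Fact (Nat.Prime 2) := ⟨Nat.prime_two⟩
  haveI := Fact.mk hp
  obtain ⟨⟨t, ht⟩⟩ : Nonempty {x : G // orderOf x = 2} :=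
    Finite.card_pos_iff.mp (hcard.symm ▸ pow_pos hp.pos k)
  by_cases hO : Cfsg.pPrimeCore 2 G = ⊥
  · -- the involutions form a subgroup
    have hclass : (Subgroup.centralizer ({t} : Set G)).index = p ^ k := by
      rw [← hcard]
      have h1 : (Subgroup.centralizer ({t} : Set G)).index = (MulAction.stabilizer (ConjAct G) t).index := by
        rw [← Subgroup.index_comap_of_surjective (Subgroup.centralizer ({t} : Set G))
          (f := (ConjAct.ofConjAct : ConjAct G ≃* G).toMonoidHom) (ConjAct.ofConjAct : ConjAct G ≃* G).surjective]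
        congr 1
        ext g
        rw [Subgroup.mem_comap, Subgroup.mem_centralizer_singleton_iff, MulAction.mem_stabilizer_iff,
          ConjAct.smul_def, mul_inv_eq_iff_eq_mul]
        exact Iff.rfl
      rw [h1, MulAction.index_stabilizer, ← Nat.card_coe_set_eq]
      refine Nat.card_congr (Equiv.subtypeEquivRight fun x => ⟨?_, fun hx => ?_⟩)
      · rintro ⟨g, rfl⟩
        show orderOf (g • t) = 2
        rw [ConjAct.smul_def, ← MulAut.conj_apply, MulEquiv.orderOf_eq, ht]
      · obtain ⟨g, rfl⟩ := hconj t x ht hx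
        exact ⟨ConjAct.toConjAct g, by
          show ConjAct.toConjAct g • t = _
          rw [ConjAct.smul_def, ConjAct.ofConjAct_toConjAct]⟩
    haveI := CfsgLib.Kazarin.isSolvable_normalClosure hp t hclass
    have hne : Subgroup.normalClosure ({t} : Set G) ≠ ⊥ := fun e => by
      have h1 := Subgroup.mem_bot.mp (e ▸ Subgroup.subset_normalClosure (Set.mem_singleton t) :
        t ∈ (⊥ : Subgroup G))
      rw [h1, orderOf_one] at ht
      omega
    obtain ⟨N, hNn, hNle, hN0, hNmin⟩ := CfsgLib.exists_minimal_normal hne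
    haveI := hNn
    obtain ⟨hNc, q, hq, hqexp⟩ := CfsgLib.minimal_normal_elementary hN0
      (Group.isSolvable_of_isSolvable_injective (f := Subgroup.inclusion hNle) (Subgroup.inclusion_injective hNle))
      hNmin
    haveI := Fact.mk hq
    have hNq : IsPGroup q N := fun x => ⟨1, Subtype.ext (by rw [SubgroupClass.coe_pow, pow_one]; exact hqexp _ x.2)⟩
    obtain ⟨r, hr⟩ := IsPGroup.iff_card.mp hNq
    obtain rfl : q = 2 := by
      by_contra hq2
      refine hN0 (eq_bot_iff.mpr (hO ▸ ?_))
      exact le_sSup ⟨hNn, Nat.coprime_two_right.mpr (hr ▸ (hq.odd_of_ne_two hq2).pow)⟩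
    obtain ⟨⟨u, hu⟩, hu1⟩ := @exists_ne N ((Subgroup.nontrivial_iff_ne_bot N).mpr hN0) 1
    have hu2 : orderOf u = 2 :=
      orderOf_eq_prime (hqexp u hu) fun e => hu1 (Subtype.ext e)
    have hmem : ∀ x : G, orderOf x = 2 → x ∈ N := fun x hx => by
      obtain ⟨g, rfl⟩ := hconj u x hu2 hx
      exact hNn.conj_mem u hu g
    have hsq : ∀ x : G, x * x = 1 ↔ x ∈ N := fun x => by
      refine ⟨fun e => ?_, fun hx => by rw [← pow_two]; exact hqexp x hx⟩
      by_cases hx1 : x = 1
      · rw [hx1]; exact one_mem N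
      · exact hmem x (orderOf_two.mpr ⟨e, hx1⟩)
    have hsum : p ^ k + 1 = 2 ^ r := by
      classical
      haveI := Fintype.ofFinite N
      have h1 : Nat.card {v : N // v ≠ 1} = p ^ k := by
        rw [← hcard]
        exact Nat.card_congr
          { toFun := fun v : {v : N // v ≠ 1} =>
              (⟨(v.1 : G), orderOf_two.mpr ⟨(hsq _).mpr v.1.2, fun e => v.2 (Subtype.ext e)⟩⟩ :
                {x : G // orderOf x = 2})
            invFun := fun x : {x : G // orderOf x = 2} =>
              (⟨⟨x.1, hmem _ x.2⟩, fun e => (orderOf_two.mp x.2).2 (congrArg Subtype.val e)⟩ : {v : N // v ≠ 1})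
            left_inv := fun _ => rfl
            right_inv := fun _ => rfl }
      rw [Nat.card_eq_fintype_card, Fintype.card_subtype_compl, Fintype.card_subtype_eq,
        ← Nat.card_eq_fintype_card, hr] at h1
      have := Nat.one_le_two_pow (n := r)
      omega
    have hk1 : k = 1 := by
      rcases hk with hk | hk
      · exact eq_one_of_pow_add_one hp hp2 hk hsum
      · exfalso
        rw [hk] at hsum
        rcases Nat.lt_or_ge r 4 with h4 | h4
        · interval_cases r <;> norm_num at hsum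
        · have : 2 ^ 4 ≤ 2 ^ r := Nat.pow_le_pow_right (by norm_num) h4
          omega
    rw [hk1, pow_one] at hsum
    have hpr : p = 2 ^ r - 1 := by omega
    have H : Hyp N r :=
      { normal := hNn
        sq := hsq
        card := hr
        hp := hpr ▸ hp
        trans := fun x hx y hy hx1 hy1 =>
          hconj x y (orderOf_two.mpr ⟨(hsq x).mpr hx, hx1⟩) (orderOf_two.mpr ⟨(hsq y).mpr hy, hy1⟩)
        core := fun M hM hodd => eq_bot_iff.mpr (hO ▸ le_sSup ⟨hM, Nat.coprime_two_right.mpr hodd⟩) }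
    exact hns H.solvable
  -- a normal subgroup of odd order
  have hOodd : Odd (Nat.card (Cfsg.pPrimeCore 2 G)) :=
    Nat.coprime_two_right.mp (CfsgLib.card_pPrimeCore_coprime 2)
  haveI := CfsgLib.OddOrder.feitThompson hOodd
  obtain ⟨N, hNn, hNle, hN0, hNmin⟩ := CfsgLib.exists_minimal_normal hO
  haveI := hNn
  haveI hNs : Group.IsSolvable N :=
    Group.isSolvable_of_isSolvable_injective (f := Subgroup.inclusion hNle) (Subgroup.inclusion_injective hNle)
  obtain ⟨hNc, q, hq, hqexp⟩ := CfsgLib.minimal_normal_elementary hN0 hNs hNmin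
  have hab : ∀ a ∈ N, ∀ b ∈ N, a * b = b * a := fun a ha b hb =>
    congrArg Subtype.val (hNc.is_comm.comm ⟨a, ha⟩ ⟨b, hb⟩)
  have hNodd : Odd (Nat.card N) := hOodd.of_dvd_nat (Subgroup.card_dvd_of_le hNle)
  have hprod := card_involutions hab hNodd hconj ht
  rw [hcard] at hprod
  obtain ⟨j, -, hj⟩ := (Nat.dvd_prime_pow hp).mp (Dvd.intro_left _ hprod.symm)
  obtain ⟨i, -, hi⟩ := (Nat.dvd_prime_pow hp).mp (Dvd.intro _ hprod.symm)
  have hijk : i + j = k := Nat.pow_right_injective hp.two_le (by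
    show p ^ (i + j) = p ^ k
    rw [hprod, hi, hj, pow_add])
  have hlt : Nat.card (G ⧸ N) < Nat.card G := by
    rw [← Subgroup.index_eq_card, ← N.index_mul_card]
    refine lt_mul_of_one_lt_right (Nat.pos_of_ne_zero N.index_ne_zero_of_finite) ?_
    haveI := (Subgroup.nontrivial_iff_ne_bot N).mpr hN0
    exact Finite.one_lt_card
  have hquot : (Odd i ∨ p ^ i = 9) → False := fun h => by
    haveI := ih _ (hn ▸ hlt) (G ⧸ N) i rfl h hi (quotient_conj hNodd hconj)
    exact hns (Group.isSolvable_of_ker_le_range N.subtype (QuotientGroup.mk' N)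
      (by rw [QuotientGroup.ker_mk', Subgroup.range_subtype]))
  rcases Nat.eq_zero_or_pos j with rfl | hjpos
  · exact hquot (by rw [← hijk, add_zero] at hk; exact hk)
  obtain ⟨w, hw⟩ := exists_prime_orderOf_dvd_card' p
    (hj ▸ dvd_pow_self p hjpos.ne' : p ∣ Nat.card (invPart N hab t))
  obtain rfl : p = q := by
    have h1 : orderOf (w : G) ∣ q := orderOf_dvd_of_pow_eq_one (hqexp _ w.2.1)
    rw [Subgroup.orderOf_coe, hw] at h1
    exact (Nat.prime_dvd_prime_iff_eq hp hq).mp h1
  have htt := (orderOf_two.mp ht).1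
  have heven := even_rank hp2 hqexp htt (mem_commutator_of_class hconj hns ht) hj
  rcases hk with hk | hk
  · refine hquot (Or.inl ?_)
    rw [← hijk] at hk
    exact (Nat.odd_add.mp hk).mpr heven
  obtain ⟨rfl, rfl⟩ : p = 3 ∧ k = 2 := by
    have h3 : p ∣ 3 := by
      have hk0 : k ≠ 0 := fun e => by rw [e, pow_zero] at hk; omega
      exact hp.dvd_of_dvd_pow (show p ∣ 3 ^ 2 by norm_num; exact hk ▸ dvd_pow_self p hk0)
    obtain rfl := (Nat.prime_dvd_prime_iff_eq hp Nat.prime_three).mp h3
    exact ⟨rfl, Nat.pow_right_injective (le_refl 2 |>.trans (by norm_num)) (show 3 ^ k = 3 ^ 2 by rw [hk])⟩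
  obtain ⟨rfl, rfl⟩ : i = 0 ∧ j = 2 := by
    obtain ⟨e, he⟩ := heven
    omega
  rw [pow_zero] at hi
  -- the inverted part is normal
  have hWn : (invPart N hab t).Normal := ⟨fun x hx g => by
    have hgt : orderOf (g * t * g⁻¹) = 2 := by rw [← MulAut.conj_apply, MulEquiv.orderOf_eq, ht]
    have hsub : ((g * t * g⁻¹ : G) : G ⧸ N) = t := by
      have hmap : ∀ s : G, orderOf s = 2 → orderOf (s : G ⧸ N) = 2 := fun s hs => by
        refine orderOf_two.mpr ⟨by rw [← QuotientGroup.mk_mul, (orderOf_two.mp hs).1, QuotientGroup.mk_one], fun e => ?_⟩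
        have h1 := Subgroup.orderOf_dvd_natCard N ((QuotientGroup.eq_one_iff s).mp e)
        rw [hs] at h1
        obtain ⟨m, hm⟩ := hNodd
        omega
      haveI := (Nat.card_eq_one_iff_unique.mp hi).1
      exact congrArg Subtype.val (Subsingleton.elim
        (⟨_, hmap _ hgt⟩ : {y : G ⧸ N // orderOf y = 2}) ⟨_, hmap _ ht⟩)
    have hn' : t⁻¹ * (g * t * g⁻¹) ∈ N := QuotientGroup.eq.mp hsub.symm
    obtain ⟨h1, h2⟩ := invPart_conj hab g t hx
    refine ⟨h1, ?_⟩
    rw [← h2]
    have h3 := hab _ hn' _ h1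
    calc t * (g * x * g⁻¹) * t⁻¹
        = t * (g * x * g⁻¹ * (t⁻¹ * (g * t * g⁻¹))) * (g * t * g⁻¹)⁻¹ := by group
      _ = g * t * g⁻¹ * (g * x * g⁻¹) * (g * t * g⁻¹)⁻¹ := by rw [← h3]; group⟩
  rcases hNmin _ hWn (invPart_le t) with e | e
  · rw [e, Subgroup.card_bot] at hj
    norm_num at hj
  · exact hns (solvable_of_nine hab hqexp (e ▸ hj) hconj ht fun x hx => (e.ge hx).2)

end CfsgLib.Pyramidal
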