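import Cfsg.Agent.Lib.Pyramidal.TransvTools
import Cfsg.Agent.Lib.Pyramidal.Commutant

/-!
Equivariant quadratic maps for the full linear group: the fixed vectors of the transvections with a given centre
and, in dimension at least four, an equivariant section.
-/

set_option autoImplicit false

namespace CfsgLib.Pyramidal

open scoped commutatorElement

universe u v

variable {M : Type u} {V : Type v} [AddCommGroup M] [AddCommGroup V] [Module (ZMod 2) M] [Module (ZMod 2) V]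
  [Finite M] [Finite V]

variable {Q : M → V} {B : M →ₗ[ZMod 2] M →ₗ[ZMod 2] V} {h : M ≃ₗ[ZMod 2] M} {k : V ≃ₗ[ZMod 2] V} {r : ℕ}

theorem Sys.finrank_V (S : Sys Q B h k r) : Module.finrank (ZMod 2) V = r := by
  have h1 := S.cardV
  rw [Module.natCard_eq_pow_finrank (K := ZMod 2), Nat.card_zmod] at h1
  exact Nat.pow_right_injective (le_refl 2) h1

/-- The transvections with centre `a`, and the identity. -/
def centreGroup (a : V) : Subgroup (V ≃ₗ[ZMod 2] V) where
  carrier := {g | g a = a ∧ ∀ v, g v + v ∈ Submodule.span (ZMod 2) ({a} : Set V)}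
  one_mem' := ⟨rfl, fun v => by simp [add_self]⟩
  mul_mem' := fun {g g'} hg hg' => ⟨by rw [LinearEquiv.mul_apply, hg'.1, hg.1], fun v => by
    have h1 := add_mem (hg.2 (g' v)) (hg'.2 v)
    rw [show g (g' v) + g' v + (g' v + v) = g (g' v) + v + (g' v + g' v) by abel, add_self, add_zero] at h1
    exact h1⟩
  inv_mem' := fun {g} hg => by
    have h0 : ∀ w, (g⁻¹ : V ≃ₗ[ZMod 2] V) (g w) = w := fun w => g.symm_apply_apply w
    refine ⟨?_, fun v => ?_⟩
    · conv_lhs => rw [← hg.1]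
      exact h0 a
    · obtain ⟨w, rfl⟩ := g.surjective v
      rw [h0, add_comm]
      exact hg.2 w

omit [Finite V] in
theorem tv_mem_centreGroup (f : Module.Dual (ZMod 2) V) (a : V) (hfa : f a = 0) : tv f a hfa ∈ centreGroup a :=
  ⟨tv_fix hfa, fun v => by
    rw [tv_apply, add_comm v, add_assoc, add_self, add_zero]
    exact Submodule.smul_mem _ _ (Submodule.mem_span_singleton_self a)⟩

theorem isPGroup_centreGroup (a : V) : IsPGroup 2 (centreGroup a) := fun g => ⟨1, Subtype.ext <| by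
  refine LinearEquiv.ext fun v => ?_
  show ((g : V ≃ₗ[ZMod 2] V) ^ (2 ^ 1)) v = v
  rw [pow_one, pow_two, LinearEquiv.mul_apply]
  obtain ⟨c, hc⟩ := Submodule.mem_span_singleton.mp (g.2.2 v)
  have h1 : (g : V ≃ₗ[ZMod 2] V) v = v + c • a := by
    rw [hc, add_comm _ v, ← add_assoc, add_self, zero_add]
  rw [h1, map_add, map_smul, g.2.1, h1, add_assoc, add_self, add_zero]⟩

variable {ρ : (V ≃ₗ[ZMod 2] V) →* (M ≃ₗ[ZMod 2] M)}

/-- The fixed vectors of the transvections with centre `a`. -/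
def centreFix (ρ : (V ≃ₗ[ZMod 2] V) →* (M ≃ₗ[ZMod 2] M)) (a : V) : Submodule (ZMod 2) M :=
  fixS ((centreGroup a).map ρ)

theorem centreFix_stable {a : V} {g : V ≃ₗ[ZMod 2] V} (hga : g a = a) {x : M} (hx : x ∈ centreFix ρ a) :
    ρ g x ∈ centreFix ρ a := by
  refine mem_fixS.mpr ?_
  rintro _ ⟨e, he, rfl⟩
  have h0 : ∀ w, (g⁻¹ : V ≃ₗ[ZMod 2] V) (g w) = w := fun w => g.symm_apply_apply w
  have h0' : (g⁻¹ : V ≃ₗ[ZMod 2] V) a = a := by
    conv_lhs => rw [← hga]
    exact h0 a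
  have hm : g⁻¹ * e * g ∈ centreGroup a := by
    refine ⟨by rw [LinearEquiv.mul_apply, LinearEquiv.mul_apply, hga, he.1, h0'], fun v => ?_⟩
    obtain ⟨c, hc⟩ := Submodule.mem_span_singleton.mp (he.2 (g v))
    refine Submodule.mem_span_singleton.mpr ⟨c, ?_⟩
    rw [LinearEquiv.mul_apply, LinearEquiv.mul_apply]
    conv_rhs => arg 2; rw [← h0 v]
    rw [← map_add, ← hc, map_smul, h0']
  have h1 := mem_fixS.mp hx _ ⟨_, hm, rfl⟩
  rw [map_mul, map_mul, LinearEquiv.mul_apply, LinearEquiv.mul_apply] at h1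
  have h2 := congrArg (ρ g) h1
  rwa [← LinearEquiv.mul_apply (ρ g) (ρ g⁻¹), ← map_mul, mul_inv_cancel, map_one] at h2

variable (S : Sys Q B h k r) (heq : ∀ g x, Q (ρ g x) = g (Q x))

include S heq

theorem Q_centreFix {a : V} (ha : a ≠ 0) {x : M} (hx : x ∈ centreFix ρ a) (hx0 : x ≠ 0) : Q x = a := by
  have h1 : Q x ∈ Submodule.span (ZMod 2) ({a} : Set V) := by
    refine mem_of_fixed _ (Submodule.mem_span_singleton_self a) ha fun f hfa _ => ?_
    rw [← heq, mem_fixS.mp hx _ ⟨_, tv_mem_centreGroup f a hfa, rfl⟩]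
  obtain ⟨c, hc⟩ := Submodule.mem_span_singleton.mp h1
  rcases two_cases c with rfl | rfl
  · rw [zero_smul] at hc
    exact absurd (S.anis x hc.symm) hx0
  · rw [one_smul] at hc
    exact hc.symm

theorem B_centreFix {a : V} (ha : a ≠ 0) {x y : M} (hx : x ∈ centreFix ρ a) (hy : y ∈ centreFix ρ a)
    (hx0 : x ≠ 0) (hy0 : y ≠ 0) (hxy : x ≠ y) : B x y = a := by
  have e := S.quad x y
  rw [Q_centreFix S heq ha (add_mem hx hy) (fun e => hxy (eq_of_add_eq_zero e)), Q_centreFix S heq ha hx hx0,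
    Q_centreFix S heq ha hy hy0, add_self, zero_add] at e
  exact e.symm

/-- Three distinct non-zero fixed vectors sum to zero. -/
theorem third {a : V} (ha : a ≠ 0) {x y z : M} (hx : x ∈ centreFix ρ a) (hy : y ∈ centreFix ρ a)
    (hz : z ∈ centreFix ρ a) (hx0 : x ≠ 0) (hy0 : y ≠ 0) (hz0 : z ≠ 0) (hxy : x ≠ y) (hxz : x ≠ z) (hyz : y ≠ z) :
    x + y + z = 0 := by
  by_contra hs
  have h1 : y + z ≠ 0 := fun e => hyz (eq_of_add_eq_zero e)
  have h2 : x ≠ y + z := fun e => hs (by rw [e, add_assoc, add_self])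
  have h3 := B_centreFix S heq ha hx (add_mem hy hz) hx0 h1 h2
  rw [map_add, B_centreFix S heq ha hx hy hx0 hy0 hxy, B_centreFix S heq ha hx hz hx0 hz0 hxz, add_self] at h3
  exact ha h3.symm

theorem exists_centreFix {a : V} (ha : a ≠ 0) (hM : Nat.card M = 2 ^ (2 * r)) :
    ∃ x ∈ centreFix ρ a, x ≠ 0 := by
  let α := {x : M // Q x = a}
  letI : MulAction (centreGroup a) α :=
    { smul := fun g x => ⟨ρ (g : V ≃ₗ[ZMod 2] V) x.1, by rw [heq, x.2]; exact g.2.1⟩
      one_smul := fun x => Subtype.ext (by show ρ 1 x.1 = x.1; rw [map_one]; rfl)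
      mul_smul := fun g g' x => Subtype.ext (by
        show ρ ((g : V ≃ₗ[ZMod 2] V) * g') x.1 = ρ g (ρ g' x.1)
        rw [map_mul]; rfl) }
  haveI : Fact (Nat.Prime 2) := ⟨Nat.prime_two⟩
  have hcard : Nat.card α = 2 ^ r + 1 := by
    have hf := S.card_fibre S.top_inv ha
    rw [Nat.card_congr (Submodule.topEquiv).toEquiv, hM] at hf
    have he : Nat.card {u : (⊤ : Submodule (ZMod 2) M) // Q u = a} = Nat.card α :=
      Nat.card_congr
        { toFun := fun u => ⟨u.1.1, u.2⟩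
          invFun := fun x => ⟨⟨x.1, trivial⟩, x.2⟩
          left_inv := fun u => rfl
          right_inv := fun x => rfl }
    rw [he] at hf
    have h2 : 2 ^ (2 * r) - 1 = (2 ^ r - 1) * (2 ^ r + 1) := by
      rw [show 2 * r = r * 2 by ring, pow_mul, mul_comm _ (2 ^ r + 1), ← Nat.sq_sub_sq, one_pow]
    rw [h2] at hf
    exact (Nat.eq_of_mul_eq_mul_left S.hp.pos hf).symm
  obtain ⟨x, hx⟩ := (isPGroup_centreGroup a).nonempty_fixed_point_of_prime_not_dvd_card α (by
    rw [hcard]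
    have h1 : 2 ∣ 2 ^ r := dvd_pow_self 2 S.prime_r.ne_zero
    omega)
  refine ⟨x.1, mem_fixS.mpr ?_, fun e => ha (by rw [← x.2, e, S.Q_zero])⟩
  rintro _ ⟨g, hg, rfl⟩
  exact congrArg Subtype.val (hx ⟨g, hg⟩)

/-- A permutation of at most three fixed vectors that is the commutator of two involutions and an involution is
trivial: in dimension at least four the stabiliser of `a` fixes every vector of `centreFix`. -/
theorem stab_trivial (h4 : 4 ≤ r) {a : V} (ha : a ≠ 0) {g : V ≃ₗ[ZMod 2] V} (hg : g a = a) {x : M}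
    (hx : x ∈ centreFix ρ a) : ρ g x = x := by
  classical
  haveI := Fintype.ofFinite M
  let α := {x : M // x ∈ centreFix ρ a ∧ x ≠ 0}
  have hα : Fintype.card α ≤ 3 := by
    by_contra hlt
    push Not at hlt
    obtain ⟨f⟩ : Nonempty (Fin 4 ↪ α) := Function.Embedding.nonempty_of_card_le (by rw [Fintype.card_fin]; exact hlt)
    have hne : ∀ i j : Fin 4, i ≠ j → (f i).1 ≠ (f j).1 := fun i j hij e => hij (f.injective (Subtype.ext e))
    have h1 := third S heq ha (f 0).2.1 (f 1).2.1 (f 2).2.1 (f 0).2.2 (f 1).2.2 (f 2).2.2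
      (hne 0 1 (by decide)) (hne 0 2 (by decide)) (hne 1 2 (by decide))
    have h2 := third S heq ha (f 0).2.1 (f 1).2.1 (f 3).2.1 (f 0).2.2 (f 1).2.2 (f 3).2.2
      (hne 0 1 (by decide)) (hne 0 3 (by decide)) (hne 1 3 (by decide))
    exact hne 2 3 (by decide) (add_left_cancel (h1.trans h2.symm))
  let P : Subgroup (V ≃ₗ[ZMod 2] V) := MulAction.stabilizer (V ≃ₗ[ZMod 2] V) a
  let π : P →* Equiv.Perm α := MonoidHom.mk' (fun g =>
    { toFun := fun x => ⟨ρ (g : V ≃ₗ[ZMod 2] V) x.1, centreFix_stable g.2 x.2.1,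
        fun e => x.2.2 ((map_eq_zero_iff (ρ (g : V ≃ₗ[ZMod 2] V)) (LinearEquiv.injective _)).mp e)⟩
      invFun := fun x => ⟨ρ ((g⁻¹ : P) : V ≃ₗ[ZMod 2] V) x.1, centreFix_stable (g⁻¹).2 x.2.1,
        fun e => x.2.2 ((map_eq_zero_iff (ρ ((g⁻¹ : P) : V ≃ₗ[ZMod 2] V)) (LinearEquiv.injective _)).mp e)⟩
      left_inv := fun x => Subtype.ext (by
        show ρ ((g⁻¹ : P) : V ≃ₗ[ZMod 2] V) (ρ (g : V ≃ₗ[ZMod 2] V) x.1) = x.1
        rw [← LinearEquiv.mul_apply, ← map_mul, Subgroup.coe_inv, inv_mul_cancel, map_one]; rfl)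
      right_inv := fun x => Subtype.ext (by
        show ρ (g : V ≃ₗ[ZMod 2] V) (ρ ((g⁻¹ : P) : V ≃ₗ[ZMod 2] V) x.1) = x.1
        rw [← LinearEquiv.mul_apply, ← map_mul, Subgroup.coe_inv, mul_inv_cancel, map_one]; rfl) })
    fun g g' => Equiv.ext fun x => Subtype.ext (by
      show ρ ((g : V ≃ₗ[ZMod 2] V) * g') x.1 = ρ g (ρ g' x.1)
      rw [map_mul]; rfl)
  have h6 : ∀ σ : Equiv.Perm α, σ ^ 6 = 1 := by
    intro σ
    obtain ⟨c, hc⟩ : Fintype.card (Equiv.Perm α) ∣ 6 := by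
      rw [Fintype.card_perm]
      exact Nat.factorial_dvd_factorial hα
    rw [hc, pow_mul, pow_card_eq_one, one_pow]
  have hK : ∀ g ∈ π.ker.map P.subtype, ∀ x ∈ centreFix ρ a, ρ g x = x := by
    rintro _ ⟨g, hg, rfl⟩ x hx
    by_cases hx0 : x = 0
    · rw [hx0, map_zero]
    · exact congrArg (fun σ : Equiv.Perm α => (σ ⟨x, hx, hx0⟩).1) (MonoidHom.mem_ker.mp hg)
  refine hK g ?_ x hx
  refine mem_of_fix _ (Submodule.span (ZMod 2) ({a} : Set V)) (fun f c hfc hfa => ?_) g fun u hu => by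
    obtain ⟨c, rfl⟩ := Submodule.mem_span_singleton.mp hu
    rw [map_smul, hg]
  have hdim : Module.finrank (ZMod 2) (Submodule.span (ZMod 2) ({a} : Set V)) + 2 < Module.finrank (ZMod 2) V := by
    rw [finrank_span_singleton ha, S.finrank_V]
    omega
  obtain ⟨g', hg', b, hb, hg'U, e⟩ := tv_commutator _ f c hfc hfa hdim
  have haP : ∀ (φ : Module.Dual (ZMod 2) V) (d : V) (hd : φ d = 0), φ a = 0 → tv φ d hd ∈ P := fun φ d hd h0 => by
    rw [MulAction.mem_stabilizer_iff]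
    exact tv_fix h0
  have hf0 := hfa a (Submodule.mem_span_singleton_self a)
  let s1 : P := ⟨tv g' c hg', haP _ _ _ (hg'U a (Submodule.mem_span_singleton_self a))⟩
  let s2 : P := ⟨tv f b hb, haP _ _ _ hf0⟩
  let t : P := ⟨tv f c hfc, haP _ _ _ hf0⟩
  refine ⟨t, MonoidHom.mem_ker.mpr ?_, rfl⟩
  have ht : t = (s1 * s2) ^ 2 := Subtype.ext (by
    show tv f c hfc = (tv g' c hg' * tv f b hb) ^ 2
    rw [e, commutatorElement_def, tv_inv, tv_inv, pow_two]
    group)
  have h2 : (π t) ^ 2 = 1 := by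
    rw [← map_pow, show t ^ 2 = 1 from Subtype.ext (by rw [pow_two]; exact tv_mul_self f c hfc), map_one]
  have h3 : (π t) ^ 3 = 1 := by rw [ht, map_pow, ← pow_mul]; exact h6 _
  calc π t = (π t) ^ 3 := by rw [pow_succ, h2, one_mul]
    _ = 1 := h3

end CfsgLib.Pyramidal
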