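import Cfsg.Agent.Lib.Pyramidal.Commutant
import Cfsg.Agent.Lib.OddOrder.FeitThompson
import Cfsg.Agent.Lib.Elementary

/-!
An odd group of isometries normalised by `h` acts semiregularly.
-/

set_option autoImplicit false

namespace CfsgLib.Pyramidal

open scoped commutatorElement

universe u v

variable {M : Type u} {V : Type v} [AddCommGroup M] [AddCommGroup V] [Module (ZMod 2) M] [Module (ZMod 2) V]
  [Finite M] [Finite V]

variable {Q : M → V} {B : M →ₗ[ZMod 2] M →ₗ[ZMod 2] V} {h : M ≃ₗ[ZMod 2] M} {k : V ≃ₗ[ZMod 2] V} {r : ℕ}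

theorem eq_zero_of_odd_nsmul {W : Type*} [AddCommGroup W] [Module (ZMod 2) W] {x : W} {n : ℕ} (hn : Odd n)
    (hx : n • x = 0) : x = 0 := by
  obtain ⟨m, hm⟩ := hn
  rw [hm, succ_nsmul, mul_nsmul, two_nsmul, add_self, nsmul_zero, zero_add] at hx
  exact hx

theorem sum_pow_eq_zero {g : M ≃ₗ[ZMod 2] M} (hfree : Free g) {l : ℕ} (hgl : g ^ l = 1) (x : M) :
    ∑ i ∈ Finset.range l, (g ^ i) x = 0 := by
  refine hfree _ ?_
  rw [map_sum, Finset.sum_congr rfl fun i (_ : i ∈ Finset.range l) =>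
    show g ((g ^ i) x) = (g ^ (i + 1)) x by rw [pow_succ', LinearEquiv.mul_apply]]
  have h1 := Finset.sum_range_succ' (fun i => (g ^ i) x) l
  rw [Finset.sum_range_succ] at h1
  simp only [hgl, pow_zero] at h1
  exact (add_right_cancel h1).symm

/-- Commuting elements of order `l` whose mixed products are semiregular generate the same subgroup. -/
theorem mem_powers_of_free {e f : M ≃ₗ[ZMod 2] M} {l : ℕ} (hl : l.Prime) (hodd : Odd l) (he : e ≠ 1)
    (hel : e ^ l = 1) (hfl : f ^ l = 1) (hef : e * f = f * e)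
    (hfree : ∀ i j : ℕ, e ^ i * f ^ j ≠ 1 → Free (e ^ i * f ^ j)) : ∃ i : ℕ, f = e ^ i := by
  by_contra hc
  push Not at hc
  have horder : orderOf e = l := (Nat.dvd_prime hl).mp (orderOf_dvd_of_pow_eq_one hel) |>.resolve_left
    fun e1 => he (orderOf_eq_one_iff.mp e1)
  have hg : ∀ j : ℕ, e ^ j * f ≠ 1 := fun j e1 => hc ((l - 1) * j) (by
    have e2 : f = (e ^ j)⁻¹ := eq_inv_of_mul_eq_one_right e1
    rw [e2, eq_comm, eq_inv_iff_mul_eq_one, ← pow_add, show (l - 1) * j + j = l * j by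
      rw [← Nat.succ_mul, Nat.succ_eq_add_one, Nat.sub_add_cancel hl.one_lt.le], pow_mul, hel, one_pow])
  refine he (LinearEquiv.ext fun x => ?_)
  suffices hx : x = 0 by rw [hx, map_zero, map_zero]
  have h1 : ∑ j ∈ Finset.range l, ∑ i ∈ Finset.range l, ((e ^ j * f) ^ i) x = 0 :=
    Finset.sum_eq_zero fun j _ => sum_pow_eq_zero (by simpa using hfree j 1 (by simpa using hg j))
      (by rw [(Commute.pow_left hef j).mul_pow, ← pow_mul, mul_comm, pow_mul, hel, one_pow, hfl, one_mul]) x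
  rw [Finset.sum_comm] at h1
  have h2 : ∀ i ∈ Finset.range l, ∑ j ∈ Finset.range l, ((e ^ j * f) ^ i) x = if i = 0 then l • x else 0 := by
    intro i hi
    by_cases hi0 : i = 0
    · subst hi0
      simp
    rw [if_neg hi0]
    have hei : e ^ i ≠ 1 := pow_ne_one_of_lt_orderOf hi0 (by rw [horder]; exact Finset.mem_range.mp hi)
    rw [← sum_pow_eq_zero (by simpa using hfree i 0 (by simpa using hei))
      (by rw [← pow_mul, mul_comm, pow_mul, hel, one_pow]) ((f ^ i) x)]
    refine Finset.sum_congr rfl fun j _ => ?_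
    rw [(Commute.pow_left hef j).mul_pow, LinearEquiv.mul_apply, ← pow_mul, ← pow_mul, mul_comm j i]
  rw [Finset.sum_congr rfl h2, Finset.sum_ite_eq' (Finset.range l) 0, if_pos (Finset.mem_range.mpr hl.pos)] at h1
  exact eq_zero_of_odd_nsmul hodd h1

/-- The determinant argument: if a semiregular isometry of prime order is a product of commutators of elements
commuting with it, then `r = l = 3`. -/
theorem Sys.det_perfect (S : Sys Q B h k r) {e : M ≃ₗ[ZMod 2] M} {l : ℕ} (hl : l.Prime) (hodd : Odd l)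
    (hiso : ∀ z, Q (e z) = Q z) (hfree : Free e) (he : e ≠ 1) (hel : e ^ l = 1) (heh : e * h = h * e)
    (P : Subgroup (M ≃ₗ[ZMod 2] M)) (hP : ∀ g ∈ P, e * g = g * e) (heP : e ∈ ⁅P, P⁆) : r = 3 ∧ l = 3 := by
  classical
  obtain ⟨x₀, hx₀⟩ := exists_ne_zero_of_ne_one he
  haveI : Finite (Module.End (ZMod 2) M) := Finite.of_injective _ DFunLike.coe_injective
  let eE : Module.End (ZMod 2) M := (e : M →ₗ[ZMod 2] M)
  let R := Algebra.adjoin (ZMod 2) ({eE} : Set (Module.End (ZMod 2) M))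
  let C := Subalgebra.centralizer (ZMod 2) ({(h : M →ₗ[ZMod 2] M), eE} : Set (Module.End (ZMod 2) M))
  have hRC : R ≤ C := Algebra.adjoin_le (Set.singleton_subset_iff.mpr
    ((Subalgebra.mem_centralizer_iff (ZMod 2)).mpr fun g hg => by
      rcases hg with rfl | rfl
      · exact LinearMap.ext (LinearEquiv.congr_fun heh.symm)
      · rfl))
  letI : CommRing R := Algebra.adjoinCommRingOfComm (ZMod 2) (by
    intro a ha b hb
    rw [Set.mem_singleton_iff] at ha hb
    rw [ha, hb])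
  haveI : Nontrivial R := ⟨⟨0, 1, fun e1 => hx₀ (LinearMap.congr_fun (congrArg Subtype.val e1) x₀).symm⟩⟩
  haveI : NoZeroDivisors R := ⟨fun {a b} hab => by
    by_contra hc
    push Not at hc
    obtain ⟨z, hz⟩ : ∃ z, (b : Module.End (ZMod 2) M) z ≠ 0 := by
      by_contra hz
      push Not at hz
      exact hc.2 (Subtype.ext (LinearMap.ext hz))
    have ha := (Subalgebra.mem_centralizer_iff (ZMod 2)).mp (hRC a.2)
    exact hc.1 (Subtype.ext (S.inj_or_zero hiso hfree
      (fun u => (LinearMap.congr_fun (ha _ (Or.inl rfl)) u).symm)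
      (fun u => (LinearMap.congr_fun (ha _ (Or.inr rfl)) u).symm) hz
      (LinearMap.congr_fun (congrArg Subtype.val hab) z)))⟩
  haveI : IsDomain R := NoZeroDivisors.to_isDomain _
  haveI := Fintype.ofFinite R
  letI : Field R := Fintype.fieldOfDomain R
  have hR : ∀ φ ∈ R, ∀ g : M ≃ₗ[ZMod 2] M, e * g = g * e → ∀ z, g (φ z) = φ (g z) := by
    intro φ hφ g hg z
    have h1 : R ≤ Subalgebra.centralizer (ZMod 2) {(g : M →ₗ[ZMod 2] M)} :=
      Algebra.adjoin_le (Set.singleton_subset_iff.mpr ((Subalgebra.mem_centralizer_iff (ZMod 2)).mpr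
        fun u hu => by rw [Set.mem_singleton_iff] at hu; rw [hu]; exact LinearMap.ext (LinearEquiv.congr_fun hg.symm)))
    exact LinearMap.congr_fun ((Subalgebra.mem_centralizer_iff (ZMod 2)).mp (h1 hφ) _ rfl) z
  let lift : ∀ g : M ≃ₗ[ZMod 2] M, e * g = g * e → (M ≃ₗ[R] M) := fun g hg =>
    { toFun := g, invFun := g.symm, left_inv := g.symm_apply_apply, right_inv := g.apply_symm_apply,
      map_add' := g.map_add, map_smul' := fun φ z => hR φ φ.2 g hg z }
  let ω : R := ⟨eE, Algebra.self_mem_adjoin_singleton _ _⟩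
  let χ : P →* Rˣ :=
    { toFun := fun g => LinearEquiv.det (lift g (hP g g.2))
      map_one' := by
        rw [show lift (1 : P) (hP _ (1 : P).2) = 1 from LinearEquiv.ext fun z => rfl, map_one]
      map_mul' := fun a b => by
        rw [← map_mul]
        exact congrArg _ (LinearEquiv.ext fun z => rfl) }
  have hχ : ∀ g ∈ ⁅P, P⁆, ∀ hg : g ∈ P, χ ⟨g, hg⟩ = 1 := by
    intro g hg
    have hle : ⁅P, P⁆ ≤ (χ.ker).map P.subtype := Subgroup.commutator_le.mpr fun a ha b hb =>
      ⟨⁅(⟨a, ha⟩ : P), ⟨b, hb⟩⁆, MonoidHom.mem_ker.mpr (by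
        rw [map_commutatorElement, commutatorElement_eq_one_iff_mul_comm]; exact mul_comm _ _), rfl⟩
    obtain ⟨g', hg', rfl⟩ := hle hg
    exact fun _ => hg'
  have hePmem : e ∈ P := (Subgroup.commutator_le.mpr fun a ha b hb => by
    rw [commutatorElement_def]
    exact mul_mem (mul_mem (mul_mem ha hb) (inv_mem ha)) (inv_mem hb) : ⁅P, P⁆ ≤ P) heP
  have hω : ω ^ Module.finrank R M = 1 := by
    have h1 := congrArg Units.val (hχ e heP hePmem)
    rw [Units.val_one] at h1
    have h2 : ((lift e rfl : M ≃ₗ[R] M) : M →ₗ[R] M) = ω • LinearMap.id := LinearMap.ext fun z => rfl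
    rw [← h1]
    show _ = ((LinearEquiv.det (lift e rfl) : Rˣ) : R)
    rw [LinearEquiv.coe_det, h2, LinearMap.det_smul, LinearMap.det_id, mul_one]
  have hωl : ω ^ l = 1 := Subtype.ext (LinearMap.ext fun z => by
    rw [SubmonoidClass.coe_pow]
    show ((e : M →ₗ[ZMod 2] M) ^ l) z = z
    have hp : ∀ n : ℕ, ((e : M →ₗ[ZMod 2] M) ^ n) z = (e ^ n) z := fun n => by
      induction n with
      | zero => rfl
      | succ n ih => rw [pow_succ', pow_succ', Module.End.mul_apply, LinearEquiv.mul_apply, ih]; rfl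
    rw [hp, hel]
    rfl)
  have hord : orderOf ω = l := ((Nat.dvd_prime hl).mp (orderOf_dvd_of_pow_eq_one hωl)).resolve_left fun e1 => by
    refine he (LinearEquiv.ext fun z => ?_)
    exact LinearMap.congr_fun (congrArg Subtype.val (orderOf_eq_one_iff.mp e1)) z
  have hld : l ∣ Module.finrank R M := hord ▸ orderOf_dvd_of_pow_eq_one hω
  haveI := Fintype.ofFinite M
  haveI : Module.Finite R M := Module.Finite.of_finite
  haveI : Module.Finite (ZMod 2) R := Module.Finite.of_finite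
  have h2r : Module.finrank R M ∣ 2 * r := by
    have hM := Module.natCard_eq_pow_finrank (K := R) (V := M)
    rw [Module.natCard_eq_pow_finrank (K := ZMod 2) (V := R), Nat.card_zmod, ← pow_mul] at hM
    have hne : (⊤ : Submodule (ZMod 2) M) ≠ ⊥ := (Submodule.ne_bot_iff _).mpr ⟨x₀, trivial, hx₀⟩
    have htop : Nat.card M = Nat.card (⊤ : Submodule (ZMod 2) M) :=
      Nat.card_congr (Submodule.topEquiv).toEquiv.symm
    rcases S.card_cases S.top_inv hne with e1 | e1 <;> rw [htop, e1] at hM <;>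
      have h3 := Nat.pow_right_injective (le_refl 2) hM
    · exact (Dvd.intro_left _ h3.symm).mul_left 2
    · exact Dvd.intro_left _ h3.symm
  have hlr : l = r := by
    rcases hl.dvd_mul.mp (hld.trans h2r) with h2 | h2
    · exfalso
      have := (Nat.prime_dvd_prime_iff_eq hl Nat.prime_two).mp h2
      subst this
      exact absurd hodd (by decide)
    · exact (Nat.prime_dvd_prime_iff_eq hl S.prime_r).mp h2
  have hd := S.prime_dvd hiso he hfree hl hel
  rw [hlr] at hd hl
  haveI := Fact.mk hl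
  have h1 : ((2 ^ r + 1 : ℕ) : ZMod r) = 0 := (ZMod.natCast_eq_zero_iff _ _).mpr hd
  rw [Nat.cast_add, Nat.cast_pow, ZMod.pow_card] at h1
  have h3 : r ∣ 3 := (ZMod.natCast_eq_zero_iff 3 r).mp (by
    rw [← h1]; push_cast; norm_num)
  have h4 := (Nat.prime_dvd_prime_iff_eq hl Nat.prime_three).mp h3
  exact ⟨h4, hlr.trans h4⟩

/-- A semiregular commutator forces `r = l = 3`. -/
theorem Sys.det_case (S : Sys Q B h k r) {e x y : M ≃ₗ[ZMod 2] M} {l : ℕ} (hl : l.Prime) (hodd : Odd l)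
    (hiso : ∀ z, Q (e z) = Q z) (hfree : Free e) (he : e ≠ 1) (hel : e ^ l = 1) (heh : e * h = h * e)
    (hex : e * x = x * e) (hey : e * y = y * e) (hxy : x * y = e * (y * x)) : r = 3 ∧ l = 3 := by
  refine S.det_perfect hl hodd hiso hfree he hel heh (Subgroup.centralizer {e})
    (fun g hg => (Subgroup.mem_centralizer_singleton_iff.mp hg).symm) ?_
  have h1 : e = ⁅x, y⁆ := by
    rw [commutatorElement_def, hxy]; group
  rw [h1]
  exact Subgroup.commutator_mem_commutator (h1 ▸ Subgroup.mem_centralizer_singleton_iff.mpr hex.symm)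
    (h1 ▸ Subgroup.mem_centralizer_singleton_iff.mpr hey.symm)

/-- Sub-groups centralised by `h` are semiregular and abelian. -/
theorem Sys.centralised (S : Sys Q B h k r) (D : Subgroup (M ≃ₗ[ZMod 2] M)) (hodd : Odd (Nat.card D))
    (hiso : ∀ d ∈ D, ∀ z, Q (d z) = Q z) (hcent : ∀ d ∈ D, d * h = h * d) :
    (∀ d ∈ D, d ≠ 1 → Free d) ∧ ∀ a ∈ D, ∀ b ∈ D, a * b = b * a := by
  by_cases hD : D = ⊥
  · subst hD
    simp [Subgroup.mem_bot]
  haveI : Nontrivial D := (Subgroup.nontrivial_iff_ne_bot D).mpr hD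
  haveI : Group.IsSolvable D := CfsgLib.OddOrder.feitThompson hodd
  obtain ⟨A, hAn, -, hA0, hAmin⟩ := CfsgLib.exists_minimal_normal (N := (⊤ : Subgroup D)) top_ne_bot
  haveI := hAn
  obtain ⟨hAc, -⟩ := CfsgLib.minimal_normal_elementary hA0 inferInstance hAmin
  have hAD : A.map D.subtype ≤ D := Subgroup.map_subtype_le A
  have hAodd : Odd (Nat.card (A.map D.subtype)) := hodd.of_dvd_nat (Subgroup.card_dvd_of_le hAD)
  have hAcomm : ∀ a ∈ A.map D.subtype, ∀ b ∈ A.map D.subtype, a * b = b * a := by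
    rintro _ ⟨a, ha, rfl⟩ _ ⟨b, hb, rfl⟩
    exact congrArg (fun z : A => ((z : D) : M ≃ₗ[ZMod 2] M)) (hAc.is_comm.comm ⟨a, ha⟩ ⟨b, hb⟩)
  have hAfree : ∀ a ∈ A.map D.subtype, a ≠ 1 → Free a := fun a ha ha1 z hz => by
    by_contra hz0
    refine ha1 (S.semireg_abelian _ hAodd (fun c hc => hiso c (hAD hc)) hAcomm (fun c hc => ?_) ha hz hz0)
    rw [← hcent c (hAD hc), mul_inv_cancel_right]
    exact hc
  haveI : Nontrivial A := (Subgroup.nontrivial_iff_ne_bot A).mpr hA0
  obtain ⟨l, hl, hld⟩ := Nat.exists_prime_and_dvd (n := Nat.card A) (by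
    have := Finite.one_lt_card (α := A); omega)
  haveI := Fact.mk hl
  obtain ⟨a, ha⟩ := exists_prime_orderOf_dvd_card' l hld
  set e : M ≃ₗ[ZMod 2] M := ((a : D) : M ≃ₗ[ZMod 2] M) with he
  have heA : e ∈ A.map D.subtype := ⟨a, a.2, rfl⟩
  have heord : orderOf e = l := by rw [he, Subgroup.orderOf_coe, Subgroup.orderOf_coe, ha]
  have he1 : e ≠ 1 := fun h1 => hl.ne_one (by rw [← heord, h1, orderOf_one])
  have hlodd : Odd l := hodd.of_dvd_nat (hld.trans (Subgroup.card_subgroup_dvd_card A))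
  have hel : e ^ l = 1 := heord ▸ pow_orderOf_eq_one e
  have hecomm : ∀ d ∈ D, d * e = e * d := by
    intro d hd
    obtain ⟨i, hi⟩ := mem_powers_of_free hl hlodd he1 hel
      (f := d * e * d⁻¹) (by rw [conj_pow, hel, mul_one, mul_inv_cancel])
      (hAcomm e heA _ ⟨_, hAn.conj_mem a a.2 ⟨d, hd⟩, rfl⟩)
      (fun i j hne => hAfree _ (mul_mem (pow_mem heA i)
        (pow_mem (⟨_, hAn.conj_mem a a.2 ⟨d, hd⟩, rfl⟩ : d * e * d⁻¹ ∈ A.map D.subtype) j)) hne)
    exact S.galois (hiso e (hAD heA)) (hAfree e heA he1) (hcent e (hAD heA)) (hcent d hd)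
      (hodd.of_dvd_nat (Subgroup.orderOf_dvd_natCard D hd)) hi
  exact ⟨fun d hd hd1 => free_of_commute S (hiso e (hAD heA)) (hAfree e heA he1) (hcent d hd) (hecomm d hd) hd1,
    fun c hc d hd => commute_of_commute S (hiso e (hAD heA)) (hAfree e heA he1) (hcent c hc) (hecomm c hc)
      (hcent d hd) (hecomm d hd)⟩

theorem Sys.iso_h_pow {g : M ≃ₗ[ZMod 2] M} (hg : ∀ z, Q (g z) = Q z) : ∀ (n : ℕ) (z : M), Q ((g ^ n) z) = Q z := by
  intro n
  induction n with
  | zero => exact fun z => rfl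
  | succ n ih => intro z; rw [pow_succ', LinearEquiv.mul_apply, hg, ih]

/-- If `h d h⁻¹ = d c` with `c` semiregular and centralised by `h`, then `c = 1`. -/
theorem Sys.translate (S : Sys Q B h k r) {d c : M ≃ₗ[ZMod 2] M} (hc : h * c = c * h) (hd : h * d * h⁻¹ = d * c)
    (hiso : ∀ z, Q (c z) = Q z) (hfree : ∀ n : ℕ, c ^ n ≠ 1 → Free (c ^ n)) : c = 1 := by
  obtain ⟨a, ha⟩ := S.hord
  have h1 : ∀ n : ℕ, h ^ n * d * (h ^ n)⁻¹ = d * c ^ n := by
    intro n
    induction n with
    | zero => simp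
    | succ n ih =>
      rw [pow_succ', mul_inv_rev, show h * h ^ n * d * ((h ^ n)⁻¹ * h⁻¹) = h * (h ^ n * d * (h ^ n)⁻¹) * h⁻¹ by group,
        ih, show h * (d * c ^ n) * h⁻¹ = (h * d * h⁻¹) * (h * c ^ n * h⁻¹) by group, hd,
        (Commute.pow_right hc n).eq, mul_inv_cancel_right, pow_succ', mul_assoc]
  have h2 := h1 ((2 ^ r - 1) ^ a)
  rw [ha, one_mul, inv_one, mul_one] at h2
  exact S.eq_one_of_pow hiso hfree (left_eq_mul.mp h2)

theorem Sys.p_odd (S : Sys Q B h k r) : Odd (2 ^ r - 1) := by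
  refine (Nat.Prime.eq_two_or_odd' S.hp).resolve_left ?_
  have := S.two_le_p
  omega

theorem card_aut_six (h6 : Nat.card M = 2 ^ 6) :
    Nat.card (M ≃ₗ[ZMod 2] M) = 2 ^ 15 * (3 ^ 4 * 5 * 7 ^ 2 * 31) := by
  have hfr : Module.finrank (ZMod 2) M = 6 := by
    rw [Module.natCard_eq_pow_finrank (K := ZMod 2), Nat.card_zmod] at h6
    exact Nat.pow_right_injective (le_refl 2) h6
  haveI : Module.Finite (ZMod 2) M := Module.Finite.of_finite
  let b := Module.finBasisOfFinrankEq (ZMod 2) M hfr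
  let e1 : (M ≃ₗ[ZMod 2] M) ≃ ((Fin 6 → ZMod 2) ≃ₗ[ZMod 2] (Fin 6 → ZMod 2)) :=
    { toFun := fun g => b.equivFun.symm.trans (g.trans b.equivFun)
      invFun := fun g => b.equivFun.trans (g.trans b.equivFun.symm)
      left_inv := fun g => LinearEquiv.ext fun z => by
        simp only [LinearEquiv.trans_apply, LinearEquiv.symm_apply_apply]
      right_inv := fun g => LinearEquiv.ext fun z => by
        simp only [LinearEquiv.trans_apply, LinearEquiv.apply_symm_apply] }
  have h2 := Matrix.card_GL_field (𝔽 := ZMod 2) (n := 6)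
  rw [Nat.card_congr e1, ← Nat.card_congr (LinearMap.GeneralLinearGroup.generalLinearEquiv _ _).toEquiv,
    ← Nat.card_congr (Matrix.GeneralLinearGroup.toLin).toEquiv, h2]
  simp [Fin.prod_univ_six]

/-- **Semiregularity.** An odd group of isometries normalised by `h` is abelian, semiregular and centralised
by `h`. -/
theorem Sys.semireg (S : Sys Q B h k r) (D : Subgroup (M ≃ₗ[ZMod 2] M)) (hodd : Odd (Nat.card D))
    (hiso : ∀ d ∈ D, ∀ z, Q (d z) = Q z) (hinv : ∀ d ∈ D, h * d * h⁻¹ ∈ D) : ∀ d ∈ D, d * h = h * d := by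
  induction hn : Nat.card D using Nat.strong_induction_on generalizing D with
  | _ n ih =>
  subst hn
  have IH : ∀ D' : Subgroup (M ≃ₗ[ZMod 2] M), D' ≤ D → D' ≠ D → (∀ d ∈ D', h * d * h⁻¹ ∈ D') →
      (∀ d ∈ D', d * h = h * d) ∧ (∀ d ∈ D', d ≠ 1 → Free d) ∧ ∀ a ∈ D', ∀ b ∈ D', a * b = b * a := by
    intro D' hle hne hinv'
    have h1 := ih (Nat.card D') (lt_of_le_of_ne (Subgroup.card_le_of_le hle) fun e1 =>
      hne (Subgroup.eq_of_le_of_card_ge hle e1.ge)) D' (hodd.of_dvd_nat (Subgroup.card_dvd_of_le hle))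
      (fun d hd => hiso d (hle hd)) hinv' rfl
    exact ⟨h1, S.centralised D' (hodd.of_dvd_nat (Subgroup.card_dvd_of_le hle)) (fun d hd => hiso d (hle hd)) h1⟩
  -- a proper part in which the defect of `d` lies kills the defect
  have kill : ∀ D' : Subgroup (M ≃ₗ[ZMod 2] M), D' ≤ D → D' ≠ D → (∀ d ∈ D', h * d * h⁻¹ ∈ D') →
      ∀ d : M ≃ₗ[ZMod 2] M, d⁻¹ * (h * d * h⁻¹) ∈ D' → d * h = h * d := by
    intro D' hle hne hinv' d hd
    obtain ⟨hc, hf, -⟩ := IH D' hle hne hinv'
    have h1 := S.translate (d := d) (hc _ hd).symm (mul_inv_cancel_left d _).symm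
      (hiso _ (hle hd)) (fun m hm => hf _ (pow_mem hd m) hm)
    rw [inv_mul_eq_one, eq_mul_inv_iff_mul_eq] at h1
    exact h1
  set D1 := ⁅D, D⁆ with hD1
  have hD1le : D1 ≤ D := Subgroup.commutator_le.mpr fun a ha b hb => by
    rw [commutatorElement_def]
    exact mul_mem (mul_mem (mul_mem ha hb) (inv_mem ha)) (inv_mem hb)
  by_cases hab : D1 = ⊥
  · -- abelian
    have hcomm : ∀ a ∈ D, ∀ b ∈ D, a * b = b * a := fun a ha b hb => commutatorElement_eq_one_iff_mul_comm.mp
      (Subgroup.mem_bot.mp (hab ▸ Subgroup.commutator_mem_commutator ha hb))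
    have hfree : ∀ d ∈ D, d ≠ 1 → Free d := fun d hd hd1 z hz => by
      by_contra hz0
      exact hd1 (S.semireg_abelian D hodd hiso hcomm hinv hd hz hz0)
    intro d hd
    induction hm : orderOf d using Nat.strong_induction_on generalizing d with
    | _ m ihm =>
    subst hm
    by_cases h1 : d = 1
    · rw [h1, one_mul, mul_one]
    obtain ⟨l, hl, hld⟩ := Nat.exists_prime_and_dvd (n := orderOf d) (fun e1 => h1 (orderOf_eq_one_iff.mp e1))
    have hlodd : Odd l := hodd.of_dvd_nat (hld.trans (Subgroup.orderOf_dvd_natCard D hd))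
    have hdl : d ^ l * h = h * d ^ l := ihm (orderOf (d ^ l)) (by
      rw [orderOf_pow_of_dvd hl.ne_zero hld]
      exact Nat.div_lt_self (orderOf_pos d) hl.one_lt) _ (pow_mem hd l) rfl
    set c := d⁻¹ * (h * d * h⁻¹) with hc
    have hcD : c ∈ D := mul_mem (inv_mem hd) (hinv d hd)
    have hcl : c ^ l = 1 := by
      rw [hc, ((show Commute d⁻¹ (h * d * h⁻¹) from hcomm _ (inv_mem hd) _ (hinv d hd))).mul_pow, conj_pow,
        ← hdl, mul_inv_cancel_right, inv_pow, inv_mul_cancel]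
    by_cases hc1 : c = 1
    · rw [hc, inv_mul_eq_one, eq_mul_inv_iff_mul_eq] at hc1
      exact hc1
    exfalso
    have hcord : orderOf c = l := ((Nat.dvd_prime hl).mp (orderOf_dvd_of_pow_eq_one hcl)).resolve_left
      fun e1 => hc1 (orderOf_eq_one_iff.mp e1)
    obtain ⟨j, hj⟩ := mem_powers_of_free hl hlodd hc1 hcl (f := h * c * h⁻¹)
      (by rw [conj_pow, hcl, mul_one, mul_inv_cancel]) (hcomm _ hcD _ (hinv c hcD))
      (fun i j hne => hfree _ (mul_mem (pow_mem hcD i) (pow_mem (hinv c hcD) j)) hne)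
    have hjn : ∀ i : ℕ, h ^ i * c * (h ^ i)⁻¹ = c ^ j ^ i := by
      intro i
      induction i with
      | zero => simp
      | succ i ihi =>
        rw [pow_succ', mul_inv_rev, show h * h ^ i * c * ((h ^ i)⁻¹ * h⁻¹) = h * (h ^ i * c * (h ^ i)⁻¹) * h⁻¹ by group,
          ihi, ← conj_pow, hj, ← pow_mul, ← pow_succ']
    obtain ⟨a, ha⟩ := S.hord
    have hja := hjn ((2 ^ r - 1) ^ a)
    rw [ha, one_mul, inv_one, mul_one] at hja
    haveI := Fact.mk hl
    have hzl : (j : ZMod l) ^ (2 ^ r - 1) ^ a = 1 := by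
      have h2 : j ^ (2 ^ r - 1) ^ a ≡ 1 [MOD l] := by
        rw [← hcord, ← pow_eq_pow_iff_modEq, pow_one]
        exact hja.symm
      have h3 := (ZMod.natCast_eq_natCast_iff _ _ _).mpr h2
      push_cast at h3
      exact h3
    have hlp : l ∣ 2 ^ r + 1 := S.prime_dvd (hiso c hcD) hc1 (hfree c hcD hc1) hl hcl
    have hndvd : ¬ (2 ^ r - 1) ∣ l - 1 := fun hdv => by
      obtain ⟨q, hq⟩ := hdv
      have hle := Nat.le_of_dvd (Nat.succ_pos _) hlp
      have h3 := S.two_le_p
      obtain ⟨w, hw⟩ := hlodd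
      obtain ⟨w', hw'⟩ := S.p_odd
      rcases q with _ | _ | q
      · have := hl.two_le
        omega
      · omega
      · have : (2 ^ r - 1) * 2 ≤ l - 1 := hq ▸ Nat.mul_le_mul_left _ (by omega)
        omega
    have hj1 : (j : ZMod l) = 1 := by
      have hne0 : (j : ZMod l) ≠ 0 := fun e0 => by
        rw [e0, zero_pow (pow_ne_zero _ S.hp.ne_zero)] at hzl
        exact zero_ne_one hzl
      obtain ⟨i, -, hi⟩ := (Nat.dvd_prime_pow S.hp).mp (orderOf_dvd_of_pow_eq_one hzl)
      have h5 := ZMod.orderOf_dvd_card_sub_one hne0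
      rw [hi] at h5
      rcases i with _ | i
      · rw [pow_zero] at hi
        exact orderOf_eq_one_iff.mp hi
      · exact absurd (dvd_trans (dvd_pow_self _ (Nat.succ_ne_zero i)) h5) hndvd
    have hch : h * c = c * h := by
      have h6 : c ^ j = c := by
        conv_rhs => rw [← pow_one c]
        rw [pow_eq_pow_iff_modEq, hcord, ← ZMod.natCast_eq_natCast_iff, hj1, Nat.cast_one]
      rw [h6, mul_inv_eq_iff_eq_mul] at hj
      exact hj
    exact hc1 (S.translate (d := d) hch (by rw [hc, mul_inv_cancel_left]) (hiso c hcD)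
      (fun i hi => hfree _ (pow_mem hcD i) hi))
  · -- non-abelian
    haveI : Group.IsSolvable D := CfsgLib.OddOrder.feitThompson hodd
    have hD1ne : D1 ≠ D := fun e1 => by
      haveI : Nontrivial D := (Subgroup.nontrivial_iff_ne_bot D).mpr fun e2 => hab (eq_bot_iff.mpr (e2 ▸ hD1le))
      refine (Group.IsSolvable.commutator_lt_top_of_nontrivial D).ne (Subgroup.map_injective D.subtype_injective ?_)
      rw [← MonoidHom.range_eq_map, Subgroup.range_subtype, commutator_def, Subgroup.map_commutator,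
        ← MonoidHom.range_eq_map, Subgroup.range_subtype]
      exact e1
    have hmapD : D.map (MulAut.conj h : (M ≃ₗ[ZMod 2] M) ≃* (M ≃ₗ[ZMod 2] M)).toMonoidHom = D := by
      refine le_antisymm ?_ ?_
      · rintro _ ⟨d, hd, rfl⟩
        exact hinv d hd
      · intro d hd
        exact ⟨h⁻¹ * d * h, conj_mem_inv hinv d hd, show h * (h⁻¹ * d * h) * h⁻¹ = d by group⟩
    have hD1inv : ∀ d ∈ D1, h * d * h⁻¹ ∈ D1 := fun d hd => by
      rw [hD1, ← hmapD, ← Subgroup.map_commutator]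
      exact ⟨d, hd, rfl⟩
    obtain ⟨hD1c, hD1f, hD1a⟩ := IH D1 hD1le hD1ne hD1inv
    have hconjD1 : ∀ d ∈ D, ∀ a ∈ D1, d * a * d⁻¹ ∈ D1 := fun d hd a ha => by
      have h1 : ⁅d, a⁆ ∈ D1 := Subgroup.commutator_mem_commutator hd (hD1le ha)
      have h2 := mul_mem h1 ha
      rwa [commutatorElement_def, inv_mul_cancel_right] at h2
    by_contra hne
    push Not at hne
    obtain ⟨d₀, hd₀, hd₀h⟩ := hne
    -- the centraliser of a characteristic part is everything
    have central : ∀ T : Set (M ≃ₗ[ZMod 2] M), (∀ t ∈ T, t * h = h * t) →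
        (∀ d ∈ D, ∀ t ∈ T, d * t * d⁻¹ * h = h * (d * t * d⁻¹)) → ∀ d ∈ D, ∀ t ∈ T, d * t = t * d := by
      intro T hT hTD
      set C := D ⊓ Subgroup.centralizer T with hC
      by_cases hCD : C = D
      · intro d hd t ht
        rw [← hCD] at hd
        exact ((Subgroup.mem_centralizer_iff.mp hd.2) t ht).symm
      exfalso
      refine hd₀h (kill C inf_le_left hCD (fun d hd => ⟨hinv d hd.1, Subgroup.mem_centralizer_iff.mpr
        fun t ht => ?_⟩) d₀ ⟨D.mul_mem (D.inv_mem hd₀) (hinv d₀ hd₀), Subgroup.mem_centralizer_iff.mpr fun t ht => ?_⟩)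
      · have h1 := Subgroup.mem_centralizer_iff.mp hd.2 t ht
        have hth : h⁻¹ * t = t * h⁻¹ := (Commute.inv_left (hT t ht).symm).eq
        calc t * (h * d * h⁻¹) = h * (t * d) * h⁻¹ := by
              rw [← mul_assoc, ← mul_assoc, hT t ht, mul_assoc h t d]
          _ = h * d * (t * h⁻¹) := by rw [h1]; group
          _ = h * d * h⁻¹ * t := by rw [← hth]; group
      · have h1 := hTD d₀ hd₀ t ht
        have hth : h⁻¹ * t = t * h⁻¹ := (Commute.inv_left (hT t ht).symm).eq
        calc t * (d₀⁻¹ * (h * d₀ * h⁻¹)) = d₀⁻¹ * ((d₀ * t * d₀⁻¹) * h) * d₀ * h⁻¹ := by group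
          _ = d₀⁻¹ * h * d₀ * (t * h⁻¹) := by rw [h1]; group
          _ = d₀⁻¹ * (h * d₀ * h⁻¹) * t := by rw [← hth]; group
    have hcen : ∀ d ∈ D, ∀ t ∈ D1, d * t = t * d := fun d hd t ht =>
      central (D1 : Set (M ≃ₗ[ZMod 2] M)) hD1c (fun d hd t ht => hD1c _ (hconjD1 d hd t ht)) d hd t ht
    -- a commutator of prime order
    obtain ⟨x, hx, y, hy, hxy⟩ : ∃ x ∈ D, ∃ y ∈ D, ⁅x, y⁆ ≠ 1 := by
      by_contra hall
      push Not at hall
      exact hab (eq_bot_iff.mpr (Subgroup.commutator_le.mpr fun a ha b hb => Subgroup.mem_bot.mpr (hall a ha b hb)))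
    have hpowc : ∀ n : ℕ, ⁅x ^ n, y⁆ = ⁅x, y⁆ ^ n := by
      intro n
      induction n with
      | zero => simp
      | succ n ihn =>
        have hc := hcen x hx _ (pow_mem (Subgroup.commutator_mem_commutator hx hy : ⁅x, y⁆ ∈ D1) n)
        rw [pow_succ' x, show ⁅x * x ^ n, y⁆ = x * ⁅x ^ n, y⁆ * x⁻¹ * ⁅x, y⁆ by
          simp only [commutatorElement_def]; group, ihn, hc, mul_inv_cancel_right, pow_succ]
    set a := ⁅x, y⁆ with ha
    have haD : a ∈ D1 := Subgroup.commutator_mem_commutator hx hy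
    obtain ⟨l, hl, hld⟩ := Nat.exists_prime_and_dvd (n := orderOf a) (fun e1 => hxy (orderOf_eq_one_iff.mp e1))
    set e := a ^ (orderOf a / l) with he
    have heD : e ∈ D1 := pow_mem haD _
    have heord : orderOf e = l := by
      rw [he, orderOf_pow_of_dvd (fun e0 => by
        have := Nat.div_pos (Nat.le_of_dvd (orderOf_pos a) hld) hl.pos; omega) (Nat.div_dvd_of_dvd hld),
        Nat.div_div_self hld (orderOf_pos a).ne']
    have he1 : e ≠ 1 := fun h1 => hl.ne_one (by rw [← heord, h1, orderOf_one])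
    have hlodd : Odd l := hodd.of_dvd_nat (heord ▸ Subgroup.orderOf_dvd_natCard D (hD1le heD))
    obtain ⟨hr3, -⟩ := S.det_case hl hlodd (hiso e (hD1le heD)) (hD1f e heD he1) he1 (heord ▸ pow_orderOf_eq_one e)
      (hD1c e heD) (x := x ^ (orderOf a / l)) (y := y) ((hcen _ (pow_mem hx _) e heD).symm) (hcen y hy e heD).symm
      (by rw [he, ← hpowc, commutatorElement_def]; group)
    subst hr3
    -- everything semiregular is a `3`-element
    have h3 : ∀ t ∈ D1, ∀ q : ℕ, q.Prime → q ∣ orderOf t → q = 3 := by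
      intro t ht q hq hqt
      haveI := Fact.mk hq
      have h1 : orderOf (t ^ (orderOf t / q)) = q := by
        rw [orderOf_pow_of_dvd (fun e0 => by
          have := Nat.div_pos (Nat.le_of_dvd (orderOf_pos t) hqt) hq.pos; omega) (Nat.div_dvd_of_dvd hqt),
          Nat.div_div_self hqt (orderOf_pos t).ne']
      have hne1 : t ^ (orderOf t / q) ≠ 1 := fun h0 => hq.ne_one (by rw [← h1, h0, orderOf_one])
      have := S.prime_dvd (hiso _ (hD1le (pow_mem ht _))) hne1 (hD1f _ (pow_mem ht _) hne1) hq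
        (by have := pow_orderOf_eq_one (t ^ (orderOf t / q)); rwa [h1] at this)
      have h9 : q ∣ 3 ^ 2 := by simpa using this
      exact (Nat.prime_dvd_prime_iff_eq hq Nat.prime_three).mp (hq.dvd_of_dvd_pow h9)
    -- the centralised part
    set H0 := D ⊓ Subgroup.centralizer {h} with hH0
    have hH0ne : H0 ≠ D := fun e1 => hd₀h ((Subgroup.mem_centralizer_singleton_iff.mp (e1.ge hd₀).2))
    have hH0inv : ∀ d ∈ H0, h * d * h⁻¹ ∈ H0 := fun d hd => by
      rw [← Subgroup.mem_centralizer_singleton_iff.mp hd.2, mul_inv_cancel_right]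
      exact hd
    -- the index is a power of three
    have hidx : ∀ d ∈ D, ∃ n : ℕ, d ^ 3 ^ n ∈ H0 := by
      intro d hd
      refine ⟨Nat.card D1, pow_mem hd _, ?_⟩
      by_cases hZ : D ⊓ Subgroup.centralizer (D : Set (M ≃ₗ[ZMod 2] M)) = D
      · exfalso
        refine hab (eq_bot_iff.mpr (Subgroup.commutator_le.mpr fun a ha b hb => Subgroup.mem_bot.mpr
          (commutatorElement_eq_one_iff_mul_comm.mpr ?_)))
        exact (Subgroup.mem_centralizer_iff.mp (hZ.ge ha).2 b hb).symm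
      obtain ⟨hZc, -, -⟩ := IH _ inf_le_left hZ (fun z hz => ⟨hinv z hz.1, Subgroup.mem_centralizer_iff.mpr
        fun t ht => by
          have h1 := Subgroup.mem_centralizer_iff.mp hz.2 _ (conj_mem_inv hinv t ht)
          calc t * (h * z * h⁻¹) = h * (h⁻¹ * t * h * z) * h⁻¹ := by group
            _ = h * z * h⁻¹ * t := by rw [h1]; group⟩)
      refine Subgroup.mem_centralizer_singleton_iff.mpr (hZc _ ⟨pow_mem hd _, Subgroup.mem_centralizer_iff.mpr
        fun t ht => ?_⟩)
      have hpc : ∀ n : ℕ, ⁅d ^ n, t⁆ = ⁅d, t⁆ ^ n := by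
        intro n
        induction n with
        | zero => simp
        | succ n ihn =>
          have hc := hcen d hd _ (pow_mem (Subgroup.commutator_mem_commutator hd ht : ⁅d, t⁆ ∈ D1) n)
          rw [pow_succ' d, show ⁅d * d ^ n, t⁆ = d * ⁅d ^ n, t⁆ * d⁻¹ * ⁅d, t⁆ by
            simp only [commutatorElement_def]; group, ihn, hc, mul_inv_cancel_right, pow_succ]
      refine (commutatorElement_eq_one_iff_mul_comm.mp ?_).symm
      rw [hpc, ← orderOf_dvd_iff_pow_eq_one]
      have hm : ⁅d, t⁆ ∈ D1 := Subgroup.commutator_mem_commutator hd ht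
      obtain ⟨j, hj⟩ : ∃ j, orderOf ⁅d, t⁆ = 3 ^ j := by
        refine ⟨(orderOf ⁅d, t⁆).primeFactorsList.length, ?_⟩
        conv_lhs => rw [← Nat.prod_primeFactorsList (orderOf_pos ⁅d, t⁆).ne']
        exact List.prod_eq_pow_card _ _ fun q hq =>
          h3 _ hm q (Nat.prime_of_mem_primeFactorsList hq) (Nat.dvd_of_mem_primeFactorsList hq)
      rw [hj]
      refine pow_dvd_pow 3 ?_
      have h1 : orderOf ⁅d, t⁆ ≤ Nat.card D1 :=
        Nat.le_of_dvd Nat.card_pos (Subgroup.orderOf_dvd_natCard D1 hm)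
      rw [hj] at h1
      exact (Nat.lt_pow_self (by norm_num : 1 < 3)).le.trans h1
    haveI : (H0.subgroupOf D).Normal := by
      -- contains the derived group
      refine ⟨fun a ha b => ?_⟩
      rw [Subgroup.mem_subgroupOf] at ha ⊢
      have h1 : ⁅(b : M ≃ₗ[ZMod 2] M), (a : M ≃ₗ[ZMod 2] M)⁆ ∈ H0 :=
        ⟨hD1le (Subgroup.commutator_mem_commutator b.2 a.2), Subgroup.mem_centralizer_singleton_iff.mpr
          (hD1c _ (Subgroup.commutator_mem_commutator b.2 a.2))⟩
      have h2 := mul_mem h1 ha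
      rwa [commutatorElement_def, inv_mul_cancel_right] at h2
    obtain ⟨b3, hb3⟩ : ∃ b, Nat.card (D ⧸ H0.subgroupOf D) = 3 ^ b := by
      haveI : Fact (Nat.Prime 3) := ⟨Nat.prime_three⟩
      refine IsPGroup.iff_card.mp fun q => ?_
      obtain ⟨d, rfl⟩ := QuotientGroup.mk_surjective q
      obtain ⟨n, hn⟩ := hidx d d.2
      refine ⟨n, ?_⟩
      rw [← QuotientGroup.mk_pow, QuotientGroup.eq_one_iff, Subgroup.mem_subgroupOf]
      exact hn
    have hb3le : b3 ≤ 4 := by
      have hne' : Nat.card M = 2 ^ 6 := by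
        have hne : (⊤ : Submodule (ZMod 2) M) ≠ ⊥ := by
          obtain ⟨z, hz⟩ := exists_ne_zero_of_ne_one he1
          exact (Submodule.ne_bot_iff _).mpr ⟨z, trivial, hz⟩
        have htop : Nat.card M = Nat.card (⊤ : Submodule (ZMod 2) M) :=
          Nat.card_congr (Submodule.topEquiv).toEquiv.symm
        rcases S.card_cases S.top_inv hne with e2 | e2
        · exfalso
          have hd := S.prime_dvd (hiso e (hD1le heD)) he1 (hD1f e heD he1) hl (heord ▸ pow_orderOf_eq_one e)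
          obtain ⟨v, hv⟩ := S.exists_ne_zero
          have hf := S.card_fibre S.top_inv hv
          rw [e2] at hf
          -- `Q` is a bijection, so `e` fixes everything
          have h1 : Nat.card {u : (⊤ : Submodule (ZMod 2) M) // Q u = v} = 1 :=
            (mul_eq_left₀ (by norm_num)).mp hf.symm
          obtain ⟨u, -, hu⟩ := S.surj S.top_inv hne hv
          haveI := (Nat.card_eq_one_iff_unique.mp h1).1
          have h4 := congrArg (fun z : {u : (⊤ : Submodule (ZMod 2) M) // Q u = v} => z.1.1)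
            (Subsingleton.elim (⟨⟨e u, trivial⟩, (hiso e (hD1le heD) u).trans hu⟩ :
              {u : (⊤ : Submodule (ZMod 2) M) // Q u = v}) ⟨⟨u, trivial⟩, hu⟩)
          exact hv (by rw [← hu, hD1f e heD he1 u h4, S.Q_zero])
        · rw [htop, e2]
      have h1 : 3 ^ b3 ∣ 2 ^ 15 * (3 ^ 4 * 5 * 7 ^ 2 * 31) := by
        rw [← card_aut_six hne', ← hb3]
        exact (Subgroup.card_quotient_dvd_card _).trans (Subgroup.card_subgroup_dvd_card D)
      by_contra hgt
      have h2 : 3 ^ 5 ∣ 2 ^ 15 * (3 ^ 4 * 5 * 7 ^ 2 * 31) := (pow_dvd_pow 3 (by omega)).trans h1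
      norm_num at h2
    -- `h` permutes the quotient with one fixed point
    classical
    haveI := Fintype.ofFinite (D ⧸ H0.subgroupOf D)
    let ch : D →* D :=
      { toFun := fun d => ⟨h * d * h⁻¹, hinv d d.2⟩
        map_one' := Subtype.ext (by simp)
        map_mul' := fun a b => Subtype.ext (by simp [mul_assoc]) }
    let σ0 : D ⧸ H0.subgroupOf D → D ⧸ H0.subgroupOf D := QuotientGroup.map _ _ ch (fun d hd => by
      rw [Subgroup.mem_comap, Subgroup.mem_subgroupOf]
      rw [Subgroup.mem_subgroupOf] at hd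
      exact hH0inv _ hd)
    have hσn : ∀ (n : ℕ) (d : D), σ0^[n] (d : D ⧸ H0.subgroupOf D) =
        ((⟨h ^ n * d * (h ^ n)⁻¹, conj_mem_iterate hinv n d d.2⟩ : D) : D ⧸ H0.subgroupOf D) := by
      intro n
      induction n with
      | zero => intro d; simp
      | succ n ihn =>
        intro d
        rw [Function.iterate_succ_apply', ihn]
        show ((ch _ : D) : D ⧸ H0.subgroupOf D) = _
        refine congrArg QuotientGroup.mk (Subtype.ext ?_)
        show h * (h ^ n * d * (h ^ n)⁻¹) * h⁻¹ = h ^ (n + 1) * (d : M ≃ₗ[ZMod 2] M) * (h ^ (n + 1))⁻¹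
        rw [pow_succ']; group
    obtain ⟨a7, ha7⟩ := S.hord
    have hinj : Function.Injective σ0 := Function.LeftInverse.injective (g := σ0^[(2 ^ 3 - 1) ^ a7 - 1]) fun q => by
      obtain ⟨d, rfl⟩ := QuotientGroup.mk_surjective q
      rw [← Function.iterate_succ_apply, Nat.succ_eq_add_one,
        Nat.sub_add_cancel (Nat.one_le_iff_ne_zero.mpr (pow_ne_zero _ (by norm_num))), hσn]
      refine congrArg QuotientGroup.mk (Subtype.ext ?_)
      show h ^ (2 ^ 3 - 1) ^ a7 * d * (h ^ (2 ^ 3 - 1) ^ a7)⁻¹ = d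
      rw [ha7]; group
    let σ : Equiv.Perm (D ⧸ H0.subgroupOf D) := Equiv.ofBijective σ0 (Finite.injective_iff_bijective.mp hinj)
    haveI : Fact (Nat.Prime 7) := ⟨by norm_num⟩
    have hσ : σ ^ 7 ^ a7 = 1 := Equiv.ext fun q => by
      rw [← Equiv.Perm.iterate_eq_pow]
      obtain ⟨d, rfl⟩ := QuotientGroup.mk_surjective q
      show σ0^[7 ^ a7] _ = _
      rw [hσn]
      refine congrArg QuotientGroup.mk (Subtype.ext ?_)
      show h ^ 7 ^ a7 * d * (h ^ 7 ^ a7)⁻¹ = d
      rw [show h ^ 7 ^ a7 = 1 from ha7]; group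
    have hfix : σ.supportᶜ = {1} := by
      ext q
      rw [Finset.mem_compl, Equiv.Perm.mem_support, not_not, Finset.mem_singleton]
      constructor
      · intro hq
        obtain ⟨d, rfl⟩ := QuotientGroup.mk_surjective q
        rw [QuotientGroup.eq_one_iff, Subgroup.mem_subgroupOf]
        have h1 : ((d : D)⁻¹ * ch d) ∈ H0.subgroupOf D := QuotientGroup.eq.mp hq.symm
        rw [Subgroup.mem_subgroupOf] at h1
        exact ⟨d.2, Subgroup.mem_centralizer_singleton_iff.mpr (kill H0 inf_le_left hH0ne hH0inv d h1)⟩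
      · rintro rfl
        show σ0 ((1 : D) : D ⧸ H0.subgroupOf D) = _
        have h1 := hσn 1 1
        rw [Function.iterate_one] at h1
        rw [h1, QuotientGroup.eq_one_iff, Subgroup.mem_subgroupOf]
        show h ^ 1 * ((1 : D) : M ≃ₗ[ZMod 2] M) * (h ^ 1)⁻¹ ∈ H0
        rw [OneMemClass.coe_one, mul_one, mul_inv_cancel]; exact one_mem _
    have h7 := Equiv.Perm.card_compl_support_modEq hσ
    rw [hfix, Finset.card_singleton, ← Nat.card_eq_fintype_card, hb3] at h7
    have hb0 : b3 = 0 := by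
      rcases (by omega : b3 = 0 ∨ b3 = 1 ∨ b3 = 2 ∨ b3 = 3 ∨ b3 = 4) with e2 | e2 | e2 | e2 | e2 <;>
        first | exact e2 | (subst e2; exact absurd h7 (by decide))
    rw [hb0, pow_zero, ← Subgroup.index_eq_card] at hb3
    have htop := Subgroup.index_eq_one.mp hb3
    exact hH0ne (le_antisymm inf_le_left (Subgroup.subgroupOf_eq_top.mp htop))

/-- An odd group of isometries normalised by `h` is semiregular. -/
theorem Sys.free (S : Sys Q B h k r) (D : Subgroup (M ≃ₗ[ZMod 2] M)) (hodd : Odd (Nat.card D))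
    (hiso : ∀ d ∈ D, ∀ z, Q (d z) = Q z) (hinv : ∀ d ∈ D, h * d * h⁻¹ ∈ D) :
    (∀ d ∈ D, d ≠ 1 → Free d) ∧ ∀ a ∈ D, ∀ b ∈ D, a * b = b * a :=
  S.centralised D hodd hiso (S.semireg D hodd hiso hinv)

end CfsgLib.Pyramidal
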