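import Cfsg.Agent.Lib.Pyramidal.Squaring
import Cfsg.Agent.Lib.PComplement

/-!
Groups whose involutions are the non-trivial elements of a normal subgroup `V` and form one class.
-/

set_option autoImplicit false

namespace CfsgLib.Pyramidal

universe u

variable {G : Type u} [Group G]

/-- The involutions are `V∖1`, one class, `|V| - 1` a prime, and there is no normal subgroup of odd order. -/
structure Hyp (V : Subgroup G) (r : ℕ) : Prop where
  normal : V.Normal
  sq : ∀ x : G, x * x = 1 ↔ x ∈ V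
  card : Nat.card V = 2 ^ r
  hp : (2 ^ r - 1).Prime
  trans : ∀ u ∈ V, ∀ v ∈ V, u ≠ 1 → v ≠ 1 → ∃ g : G, g * u * g⁻¹ = v
  core : ∀ N : Subgroup G, N.Normal → Odd (Nat.card N) → N = ⊥

variable {V : Subgroup G} {r : ℕ}

theorem Hyp.inv_eq (H : Hyp V r) {u : G} (hu : u ∈ V) : u⁻¹ = u :=
  inv_eq_of_mul_eq_one_right ((H.sq u).mpr hu)

theorem Hyp.comm (H : Hyp V r) {u v : G} (hu : u ∈ V) (hv : v ∈ V) : u * v = v * u := by
  rw [← H.inv_eq (mul_mem hu hv), mul_inv_rev, H.inv_eq hu, H.inv_eq hv]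

theorem Hyp.le_cent (H : Hyp V r) : V ≤ Subgroup.centralizer (V : Set G) := fun _ hv =>
  Subgroup.mem_centralizer_iff.mpr fun _ hu => H.comm hu hv

theorem Hyp.cent_normal (H : Hyp V r) : (Subgroup.centralizer (V : Set G)).Normal := by
  haveI := H.normal
  infer_instance

theorem Hyp.r_prime (H : Hyp V r) : r.Prime := by
  have h2 : 2 ≤ r := by
    by_contra hc
    rcases (by omega : r = 0 ∨ r = 1) with e | e <;> exact absurd H.hp (by rw [e]; norm_num)
  exact (Nat.prime_of_pow_sub_one_prime (by omega) H.hp).2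

theorem Hyp.isPGroup (H : Hyp V r) : IsPGroup 2 V := IsPGroup.of_card H.card

theorem Hyp.card_sharp (H : Hyp V r) [Finite G] : Nat.card {v : V // v ≠ 1} = 2 ^ r - 1 := by
  classical
  haveI := Fintype.ofFinite V
  rw [← H.card, Nat.card_eq_fintype_card, Nat.card_eq_fintype_card, Fintype.card_subtype_compl,
    Fintype.card_subtype_eq]

/-- A subgroup transitive on `V∖1` contains an element of `p`-power order whose powers are transitive. -/
theorem Hyp.exists_cycle [Finite G] (H : Hyp V r) (N : Subgroup G)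
    (hN : ∀ u ∈ V, ∀ v ∈ V, u ≠ 1 → v ≠ 1 → ∃ n ∈ N, n * u * n⁻¹ = v) :
    ∃ h ∈ N, (∃ a : ℕ, h ^ (2 ^ r - 1) ^ a = 1) ∧
      ∀ u ∈ V, ∀ v ∈ V, u ≠ 1 → v ≠ 1 → ∃ i : ℕ, h ^ i * u * (h ^ i)⁻¹ = v := by
  classical
  haveI := H.normal
  set p := 2 ^ r - 1 with hp
  haveI := Fact.mk H.hp
  obtain ⟨v₀, hv₀, hv₁⟩ : ∃ v ∈ V, v ≠ 1 := by
    by_contra hall
    push Not at hall
    have h1 := H.card
    rw [(Subgroup.eq_bot_iff_forall V).mpr hall, Subgroup.card_bot] at h1
    have := Nat.one_lt_two_pow H.r_prime.ne_zero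
    omega
  -- the stabiliser has index `p`
  set S := (Subgroup.centralizer ({v₀} : Set G)).subgroupOf N with hS
  have hidx : S.index = p := by
    rw [Subgroup.index_eq_card, hp, ← H.card_sharp]
    have hf : ∀ n : N, (n : G) * v₀ * (n : G)⁻¹ ∈ V := fun n => H.normal.conj_mem v₀ hv₀ n
    refine Nat.card_eq_of_bijective (fun q => Quotient.liftOn' q
      (fun n => (⟨⟨_, hf n⟩, fun e => hv₁ ((conj_eq_one_iff).mp (congrArg Subtype.val e))⟩ : {v : V // v ≠ 1}))
      fun a b hab => ?_) ⟨?_, ?_⟩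
    · rw [QuotientGroup.leftRel_apply, Subgroup.mem_subgroupOf, Subgroup.mem_centralizer_singleton_iff] at hab
      refine Subtype.ext (Subtype.ext ?_)
      show (a : G) * v₀ * (a : G)⁻¹ = b * v₀ * (b : G)⁻¹
      simp only [Subgroup.coe_mul, Subgroup.coe_inv] at hab
      calc (a : G) * v₀ * (a : G)⁻¹ = (a : G) * (v₀ * ((a : G)⁻¹ * b)) * (b : G)⁻¹ := by group
        _ = b * v₀ * (b : G)⁻¹ := by rw [← hab]; group
    · intro q q' e
      induction q using Quotient.inductionOn' with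
      | h a =>
      induction q' using Quotient.inductionOn' with
      | h b =>
      have e' : (a : G) * v₀ * (a : G)⁻¹ = b * v₀ * (b : G)⁻¹ :=
        congrArg (fun z : {v : V // v ≠ 1} => ((z : V) : G)) e
      refine Quotient.sound' ?_
      rw [QuotientGroup.leftRel_apply, Subgroup.mem_subgroupOf, Subgroup.mem_centralizer_singleton_iff]
      simp only [Subgroup.coe_mul, Subgroup.coe_inv]
      calc (a : G)⁻¹ * b * v₀ = (a : G)⁻¹ * (b * v₀ * (b : G)⁻¹) * b := by group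
        _ = v₀ * ((a : G)⁻¹ * b) := by rw [← e']; group
    · rintro ⟨⟨v, hv⟩, hv'⟩
      obtain ⟨n, hn, hne⟩ := hN v₀ hv₀ v hv hv₁ (fun e => hv' (Subtype.ext e))
      exact ⟨QuotientGroup.mk ⟨n, hn⟩, Subtype.ext (Subtype.ext hne)⟩
  -- a Sylow subgroup moves `v₀`
  let P : Sylow p N := default
  obtain ⟨h, hhP, hmove⟩ : ∃ h ∈ (P : Subgroup N), (h : G) * v₀ * (h : G)⁻¹ ≠ v₀ := by
    by_contra hall
    push Not at hall
    refine P.not_dvd_index ?_
    conv_lhs => rw [← hidx]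
    refine Subgroup.index_dvd_of_le fun x hx => ?_
    rw [hS, Subgroup.mem_subgroupOf, Subgroup.mem_centralizer_singleton_iff]
    have h1 := hall x hx
    rwa [mul_inv_eq_iff_eq_mul] at h1
  obtain ⟨a, ha⟩ := P.2 ⟨h, hhP⟩
  have hord : (h : G) ^ p ^ a = 1 := congrArg (fun z : (P : Subgroup N) => ((z : N) : G)) ha
  refine ⟨h, h.2, ⟨a, hord⟩, ?_⟩
  let f : G → G := fun v => (h : G) * v * (h : G)⁻¹
  have hit : ∀ (i : ℕ) (v : G), f^[i] v = (h : G) ^ i * v * ((h : G) ^ i)⁻¹ := by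
    intro i
    induction i with
    | zero => intro v; simp
    | succ i ih => intro v; rw [Function.iterate_succ_apply', ih, pow_succ']; simp [f, mul_assoc]
  have hper : Function.IsPeriodicPt f (p ^ a) v₀ := by
    show f^[p ^ a] v₀ = v₀
    rw [hit, hord, one_mul, inv_one, mul_one]
  have hm : p ≤ Function.minimalPeriod f v₀ := by
    obtain ⟨j, -, hj⟩ := (Nat.dvd_prime_pow H.hp).mp hper.minimalPeriod_dvd
    rw [hj]
    rcases j with _ | j
    · exfalso
      have h1 := Function.iterate_minimalPeriod (f := f) (x := v₀)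
      rw [hj, pow_zero, Function.iterate_one] at h1
      exact hmove h1
    · rw [pow_succ']; exact Nat.le_mul_of_pos_right _ (pow_pos H.hp.pos _)
  -- the orbit of `v₀` is everything
  have horb : ∀ v ∈ V, v ≠ 1 → ∃ i : ℕ, (h : G) ^ i * v₀ * ((h : G) ^ i)⁻¹ = v := by
    intro v hv hv'
    let F : Fin p → {v : V // v ≠ 1} := fun i =>
      ⟨⟨_, H.normal.conj_mem v₀ hv₀ ((h : G) ^ (i : ℕ))⟩, fun e => hv₁ (conj_eq_one_iff.mp (congrArg Subtype.val e))⟩
    have hFi : Function.Injective F := by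
      intro i j e
      have e' : f^[(i : ℕ)] v₀ = f^[(j : ℕ)] v₀ := by
        rw [hit, hit]
        exact congrArg (fun z : {v : V // v ≠ 1} => ((z : V) : G)) e
      exact Fin.ext (Function.iterate_injOn_Iio_minimalPeriod (Set.mem_Iio.mpr (lt_of_lt_of_le i.2 hm))
        (Set.mem_Iio.mpr (lt_of_lt_of_le j.2 hm)) e')
    haveI := Fintype.ofFinite {v : V // v ≠ 1}
    have hb : Function.Bijective F := (Fintype.bijective_iff_injective_and_card F).mpr ⟨hFi, by
      rw [Fintype.card_fin, ← Nat.card_eq_fintype_card, H.card_sharp]⟩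
    obtain ⟨i, hi⟩ := hb.2 ⟨⟨v, hv⟩, fun e => hv' (congrArg Subtype.val e)⟩
    exact ⟨i, congrArg (fun z : {v : V // v ≠ 1} => ((z : V) : G)) hi⟩
  intro u hu v hv hu' hv'
  obtain ⟨i, rfl⟩ := horb u hu hu'
  obtain ⟨j, rfl⟩ := horb v hv hv'
  refine ⟨j + i * (p ^ a - 1), ?_⟩
  have e1 : (h : G) ^ (i * (p ^ a - 1)) * (h : G) ^ i = 1 := by
    rw [← pow_add, ← Nat.mul_succ, Nat.succ_eq_add_one,
      Nat.sub_add_cancel (Nat.one_le_iff_ne_zero.mpr (pow_ne_zero _ H.hp.ne_zero)), mul_comm, pow_mul, hord, one_pow]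
  rw [pow_add]
  calc (h : G) ^ j * (h : G) ^ (i * (p ^ a - 1)) * ((h : G) ^ i * v₀ * ((h : G) ^ i)⁻¹) *
        ((h : G) ^ j * (h : G) ^ (i * (p ^ a - 1)))⁻¹
      = (h : G) ^ j * ((h : G) ^ (i * (p ^ a - 1)) * (h : G) ^ i) * v₀ *
          (((h : G) ^ (i * (p ^ a - 1)) * (h : G) ^ i))⁻¹ * ((h : G) ^ j)⁻¹ := by group
    _ = (h : G) ^ j * v₀ * ((h : G) ^ j)⁻¹ := by rw [e1]; group

/-- In a finite group two involutions are conjugate or commute with a common involution. -/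
theorem conj_or_common [Finite G] {u v : G} (hu : u * u = 1) (hv : v * v = 1) :
    (∃ k : ℕ, (u * v) ^ k * u * ((u * v) ^ k)⁻¹ = v) ∨
      ∃ i : ℕ, (u * v) ^ i * (u * v) ^ i = 1 ∧ (u * v) ^ i ≠ 1 ∧ u * (u * v) ^ i = (u * v) ^ i * u ∧
        v * (u * v) ^ i = (u * v) ^ i * v := by
  set g := u * v with hg
  have hui : u⁻¹ = u := inv_eq_of_mul_eq_one_right hu
  have hvi : v⁻¹ = v := inv_eq_of_mul_eq_one_right hv
  have hvg : v = g⁻¹ * u := by rw [hg, mul_inv_rev, hui, hvi, mul_assoc, hu, mul_one]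
  have huv : u * g * u⁻¹ = g⁻¹ := by
    rw [hg, mul_inv_rev, hui, hvi, ← mul_assoc, hu, one_mul]
  have hpow : ∀ n : ℕ, u * g ^ n * u⁻¹ = (g ^ n)⁻¹ := fun n => by rw [← conj_pow, huv, inv_pow]
  have hn := pow_orderOf_eq_one g
  rcases Nat.even_or_odd (orderOf g) with ⟨i, hi⟩ | ⟨k, hk⟩
  · right
    rw [hi, pow_add] at hn
    have h1 : (g ^ i)⁻¹ = g ^ i := inv_eq_of_mul_eq_one_right hn
    have hc : u * g ^ i = g ^ i * u := by
      have h2 := hpow i
      rwa [h1, mul_inv_eq_iff_eq_mul] at h2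
    have hpos := orderOf_pos g
    refine ⟨i, hn, pow_ne_one_of_lt_orderOf (by omega) (by omega), hc, ?_⟩
    rw [hvg, mul_assoc, hc, ← mul_assoc, ← mul_assoc]
    congr 1
    exact ((Commute.refl g).inv_left.pow_right i).eq
  · left
    refine ⟨k, ?_⟩
    have h2 : (g ^ k)⁻¹ = u * g ^ k * u := by
      conv_rhs => arg 2; rw [← hui]
      rw [hpow]
    rw [h2, hvg, show g ^ k * u * (u * g ^ k * u) = g ^ k * (u * u) * g ^ k * u by group, hu, mul_one, ← pow_add]
    congr 1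
    rw [eq_inv_iff_mul_eq_one, ← pow_succ, show k + k + 1 = orderOf g by omega, pow_orderOf_eq_one]

/-- A subgroup between a 2-Sylow subgroup and the whole: the Sylow subgroup inside it. -/
theorem exists_sylow_of_between [Finite G] {A X C : Subgroup G} (hA : IsPGroup 2 A) (hAX : A ≤ X) (hXC : X ≤ C)
    (hodd : Odd (A.relIndex C)) : ∃ S : Sylow 2 X, (S : Subgroup X) = A.subgroupOf X := by
  have h1 : A.relIndex X ∣ A.relIndex C := ⟨X.relIndex C, (Subgroup.relIndex_mul_relIndex A X C hAX hXC).symm⟩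
  have h2 : ¬ 2 ∣ (A.subgroupOf X).index := fun hd => by
    obtain ⟨m, hm⟩ := hodd
    have := hd.trans h1
    omega
  exact ⟨(hA.comap_of_injective X.subtype X.subtype_injective).toSylow h2, rfl⟩

theorem normalizer_map_eq {K : Type*} [Group K] {A : Subgroup G} (f : G →* K) {g : G}
    (hg : g ∈ Subgroup.normalizer (A : Set G)) : f g ∈ Subgroup.normalizer ((A.map f : Subgroup K) : Set K) :=
  Subgroup.le_normalizer_map f ⟨g, hg, rfl⟩

end CfsgLib.Pyramidal
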