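import Cfsg.Agent.Lib.Pyramidal.Local
import Cfsg.Agent.Lib.SolvSF.Setup
import Cfsg.Agent.S0217

/-!
The centraliser of the involutions has a normal Sylow 2-subgroup.
-/

set_option autoImplicit false
set_option maxHeartbeats 1000000

namespace CfsgLib.Pyramidal

universe u

variable {G : Type u} [Group G] [Finite G] {V : Subgroup G} {r : ℕ}

/-- An automorphism of odd order of an abelian 2-group fixing all involutions is trivial. -/
theorem fix_of_abelian {T : Type*} [Group T] [Finite T] (hT : IsPGroup 2 T) (hc : ∀ a b : T, a * b = b * a)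
    (α : MulAut T) (hodd : Odd (orderOf α)) (hfix : ∀ x : T, x * x = 1 → α x = x) : α = 1 := by
  suffices key : ∀ (n : ℕ) (x : T), x ^ 2 ^ n = 1 → α x = x from MulEquiv.ext fun x => by
    obtain ⟨n, hn⟩ := hT x
    exact key n x hn
  intro n
  induction n with
  | zero => intro x hx; rw [pow_zero, pow_one] at hx; rw [hx, map_one]
  | succ n ih =>
    intro x hx
    have h2 : α (x * x) = x * x := ih _ (by rw [← pow_two, ← pow_mul, ← pow_succ']; exact hx)
    set y := x⁻¹ * α x with hy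
    have hyy : y * y = 1 := by
      rw [hy, show x⁻¹ * α x * (x⁻¹ * α x) = x⁻¹ * x⁻¹ * (α x * α x) by
        rw [mul_assoc, ← mul_assoc (α x), hc (α x) x⁻¹, mul_assoc x⁻¹ (α x), ← mul_assoc],
        ← map_mul, h2]
      group
    have hx' : α x = x * y := by rw [hy, mul_inv_cancel_left]
    have hn' : ∀ i : ℕ, (α ^ i) x = x * y ^ i := by
      intro i
      induction i with
      | zero => simp
      | succ i ih => rw [pow_succ', MulAut.mul_apply, ih, map_mul, map_pow, hfix y hyy, hx', pow_succ', mul_assoc]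
    have h3 := hn' (orderOf α)
    rw [pow_orderOf_eq_one, MulAut.one_apply, eq_comm, mul_eq_left] at h3
    obtain ⟨m, hm⟩ := hodd
    rw [hm, pow_succ, pow_mul, pow_two, hyy, one_pow, one_mul] at h3
    rw [hx', h3, mul_one]

/-- Burnside: if the normaliser acts trivially then the odd elements form a normal subgroup. -/
theorem complement_of_central {X : Type*} [Group X] [Finite X] (S : Sylow 2 X)
    (h : Subgroup.normalizer ((S : Subgroup X) : Set X) ≤ Subgroup.centralizer ((S : Subgroup X) : Set X)) :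
    Odd (Nat.card (Cfsg.pPrimeCore 2 X)) ∧ Cfsg.pPrimeCore 2 X ⊔ (S : Subgroup X) = ⊤ ∧
      ∀ g : X, Odd (orderOf g) → g ∈ Cfsg.pPrimeCore 2 X := by
  haveI : Fact (Nat.Prime 2) := ⟨Nat.prime_two⟩
  have hcomp := CfsgLib.hasNormalPComplement_of_normalizer_le_centralizer S h
  refine ⟨Nat.coprime_two_right.mp (CfsgLib.card_pPrimeCore_coprime 2),
    (CfsgLib.pPrimeCore_isComplement'_sylow (CfsgLib.hasNormalPComplement_iff.mp hcomp) S).sup_eq_top, fun g hg => ?_⟩
  exact CfsgLib.mem_pPrimeCore_of_hasNormalPComplement hcomp (Nat.coprime_two_right.mpr hg)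

/-- A normal subgroup with central Sylow 2-subgroup is a 2-group. -/
theorem Hyp.two_group_of_central (H : Hyp V r) (K : Subgroup G) [hK : K.Normal] (S : Sylow 2 K)
    (h : Subgroup.normalizer ((S : Subgroup K) : Set K) ≤ Subgroup.centralizer ((S : Subgroup K) : Set K)) :
    (S : Subgroup K) = ⊤ := by
  obtain ⟨hodd, hsup, hmem⟩ := complement_of_central S h
  have hbot : (Cfsg.pPrimeCore 2 K).map K.subtype = ⊥ := by
    refine H.core _ ⟨?_⟩ ?_
    · rintro _ ⟨x, hx, rfl⟩ g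
      refine ⟨⟨g * x * g⁻¹, hK.conj_mem x x.2 g⟩, hmem _ ?_, rfl⟩
      have h1 : Odd (orderOf (x : G)) :=
        (Subgroup.orderOf_coe x).symm ▸ hodd.of_dvd_nat (Subgroup.orderOf_dvd_natCard _ hx)
      rw [← Subgroup.orderOf_coe]
      show Odd (orderOf (g * x * g⁻¹))
      rwa [← MulAut.conj_apply, MulEquiv.orderOf_eq]
    · rwa [Subgroup.card_map_of_injective K.subtype_injective]
  rw [Subgroup.map_eq_bot_iff_of_injective _ K.subtype_injective] at hbot
  rwa [hbot, bot_sup_eq] at hsup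

theorem sylow_char_normal (H : Hyp V r) (P : Sylow 2 (Subgroup.centralizer (V : Set G)))
    (hn : (P : Subgroup (Subgroup.centralizer (V : Set G))).Normal) : (sub P).Normal := by
  haveI := H.cent_normal
  haveI : Fact (Nat.Prime 2) := ⟨Nat.prime_two⟩
  haveI : (P : Subgroup (Subgroup.centralizer (V : Set G))).Characteristic := P.characteristic_of_normal hn
  show ((P : Subgroup (Subgroup.centralizer (V : Set G))).map _).Normal
  infer_instance

theorem Hyp.cent_two_group_abelian (H : Hyp V r) (P : Sylow 2 (Subgroup.centralizer (V : Set G)))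
    (hab : ∀ a b : sub P, a * b = b * a) : (P : Subgroup (Subgroup.centralizer (V : Set G))) = ⊤ := by
  haveI := H.cent_normal
  refine H.two_group_of_central _ P fun n hn => ?_
  have hnN : (n : G) ∈ Subgroup.normalizer ((sub P : Subgroup G) : Set G) := normalizer_map_eq _ hn
  have hα : conjT P ⟨n, hnN⟩ = 1 := by
    refine fix_of_abelian sub_isPGroup hab _ ?_ (H.centPart_fix (show _ ∈ centPart P from n.2))
    refine (odd_image (conjT P) fun m hm => MulEquiv.ext fun t => Subtype.ext ?_).of_dvd_nat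
      (Subgroup.orderOf_dvd_natCard _ ⟨⟨n, hnN⟩, n.2, rfl⟩)
    rw [conjT_apply]
    have h1 : (m : G) * t = t * m := congrArg Subtype.val (hab ⟨m, hm⟩ t)
    rw [h1, mul_inv_cancel_right, MulAut.one_apply]
  refine Subgroup.mem_centralizer_iff.mpr fun t ht => Subtype.ext ?_
  have h2 := congrArg (fun β : MulAut (sub P) => ((β ⟨t, ⟨t, ht, rfl⟩⟩ : sub P) : G)) hα
  simp only [conjT_apply, MulAut.one_apply] at h2
  exact (mul_inv_eq_iff_eq_mul.mp h2).symm

theorem Hyp.sylow_normal_abelian (H : Hyp V r) (P : Sylow 2 (Subgroup.centralizer (V : Set G)))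
    (hab : ∀ a b : sub P, a * b = b * a) : (sub P).Normal := by
  refine sylow_char_normal H P ?_
  rw [H.cent_two_group_abelian P hab]
  infer_instance

/-- The squares of the lifts of an element of `G/V` lying in `C_G(V)/V`. -/
theorem Hyp.sq_lift (H : Hyp V r) [V.Normal] {c d : G} (hc : c ∈ Subgroup.centralizer (V : Set G))
    (e : (c : G ⧸ V) = d) : c * c = d * d := by
  obtain ⟨v, hv, rfl⟩ : ∃ v ∈ V, d = c * v := ⟨c⁻¹ * d, QuotientGroup.eq.mp e, (mul_inv_cancel_left c d).symm⟩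
  have h1 : v * c = c * v := Subgroup.mem_centralizer_iff.mp hc v hv
  rw [show c * v * (c * v) = c * (v * c) * v by group, h1, show c * (c * v) * v = c * c * (v * v) by group,
    (H.sq v).mpr hv, mul_one]

theorem Hyp.sylow_normal (H : Hyp V r) (P : Sylow 2 (Subgroup.centralizer (V : Set G))) : (sub P).Normal := by
  classical
  by_cases hab : ∀ a b : sub P, a * b = b * a
  · exact H.sylow_normal_abelian P hab
  obtain ⟨hSq, hcen, hcard⟩ := H.special P hab
  haveI := hSq
  haveI := H.normal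
  haveI hCn := H.cent_normal
  haveI : Fact (Nat.Prime 2) := ⟨Nat.prime_two⟩
  obtain ⟨hfree, -⟩ := H.free P hcard
  obtain ⟨h, hh, ha, htr⟩ := H.cycle P
  have S := H.sys P hcard ⟨h, hh⟩ ha htr
  by_contra hnot
  set q := QuotientGroup.mk' V with hq
  set Cb := (Subgroup.centralizer (V : Set G)).map q with hCb
  set A := (sub P).map q with hA
  have hVker : q.ker = V := QuotientGroup.ker_mk' V
  haveI hCbn : Cb.Normal := hCn.map q (QuotientGroup.mk'_surjective V)
  have hAC : A ≤ Cb := Subgroup.map_mono sub_le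
  have hA2 : IsPGroup 2 A := sub_isPGroup.map q
  have hAodd : Odd (A.relIndex Cb) := by
    rw [hA, hCb, ← Subgroup.relIndex_comap,
      Subgroup.comap_map_eq_self (by rw [hVker]; exact H.le_sub P)]
    exact sub_odd
  have hcomapC : ∀ {x : G}, q x ∈ Cb → x ∈ Subgroup.centralizer (V : Set G) := fun {x} hx => by
    have h1 : x ∈ Cb.comap q := hx
    rwa [hCb, Subgroup.comap_map_eq_self (by rw [hVker]; exact H.le_cent)] at h1
  have hcomapA : ∀ {x : G}, q x ∈ A → x ∈ sub P := fun {x} hx => by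
    have h1 : x ∈ A.comap q := hx
    rwa [hA, Subgroup.comap_map_eq_self (by rw [hVker]; exact H.le_sub P)] at h1
  have hnorm : ∀ {x : G}, q x ∈ Subgroup.normalizer (A : Set (G ⧸ V)) →
      x ∈ Subgroup.normalizer ((sub P : Subgroup G) : Set G) := fun {x} hx => by
    refine Subgroup.mem_normalizer_iff.mpr fun t => ⟨fun ht => hcomapA ?_, fun ht => hcomapA ?_⟩
    · rw [map_mul, map_mul, map_inv]
      exact (Subgroup.mem_normalizer_iff.mp hx _).mp ⟨t, ht, rfl⟩
    · refine (Subgroup.mem_normalizer_iff.mp hx _).mpr ?_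
      rw [← map_inv, ← map_mul, ← map_mul]
      exact ⟨_, ht, rfl⟩
  -- `A` is elementary abelian
  have hAsq : ∀ a ∈ A, a * a = 1 := by
    rintro _ ⟨t, ht, rfl⟩
    rw [← map_mul]
    exact (QuotientGroup.eq_one_iff _).mpr ((hcen ⟨t * t, mul_mem ht ht⟩).mp (sq_central (⟨t, ht⟩ : sub P)))
  have hAcomm : ∀ a ∈ A, ∀ b ∈ A, a * b = b * a := fun a ha b hb => by
    have h1 := hAsq _ (mul_mem ha hb)
    rw [← inv_eq_of_mul_eq_one_right h1, mul_inv_rev, inv_eq_of_mul_eq_one_right (hAsq a ha),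
      inv_eq_of_mul_eq_one_right (hAsq b hb)]
  -- no normal subgroup of odd order inside `Cb`
  have hcore : ∀ N : Subgroup (G ⧸ V), N.Normal → N ≤ Cb → Odd (Nat.card N) → N = ⊥ := by
    intro N hN hle hodd
    haveI := hN
    set K := N.comap q with hK
    have hVK : V ≤ K := fun v hv => by
      show q v ∈ N
      rw [show q v = 1 from (QuotientGroup.eq_one_iff v).mpr hv]
      exact one_mem N
    have hrel : Odd (V.relIndex K) := by
      rw [show V.relIndex K = (⊥ : Subgroup (G ⧸ V)).relIndex N by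
        rw [hK, ← Subgroup.map_comap_eq_self_of_surjective (QuotientGroup.mk'_surjective V) N,
          ← Subgroup.relIndex_comap, MonoidHom.comap_bot, hVker,
          Subgroup.comap_map_eq_self (by rw [hVker]; exact hVK)], Subgroup.relIndex_bot_left]
      exact hodd
    obtain ⟨T, hT⟩ := exists_sylow_of_between H.isPGroup hVK le_rfl hrel
    have htop := H.two_group_of_central K T fun n hn => by
      rw [hT]
      refine Subgroup.mem_centralizer_iff.mpr fun t ht => Subtype.ext ?_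
      exact Subgroup.mem_centralizer_iff.mp (hcomapC (hle n.2)) _ (Subgroup.mem_subgroupOf.mp ht)
    refine (Subgroup.eq_bot_iff_forall _).mpr fun x hx => ?_
    obtain ⟨k, rfl⟩ := QuotientGroup.mk'_surjective V x
    have h1 : (⟨k, hx⟩ : K) ∈ V.subgroupOf K := by rw [← hT, htop]; trivial
    exact (QuotientGroup.eq_one_iff k).mpr (Subgroup.mem_subgroupOf.mp h1)
  -- centralisers of involutions
  let X : (G ⧸ V) → Subgroup (G ⧸ V) := fun a => Cb ⊓ Subgroup.centralizer {a}
  have hAX : ∀ a ∈ A, A ≤ X a := fun a ha b hb =>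
    ⟨hAC hb, Subgroup.mem_centralizer_singleton_iff.mpr (hAcomm b hb a ha)⟩
  have hfix : ∀ {x : G}, x ∈ Subgroup.normalizer ((sub P : Subgroup G) : Set G) →
      x ∈ Subgroup.centralizer (V : Set G) → ∀ t ∈ sub P, q x * q t = q t * q x → q t ≠ 1 →
      ∀ s ∈ sub P, q x * q s = q s * q x := by
    intro x hxN hxC t ht hcomm ht1 s hs
    have hQ : ∀ {u : G} (hu : u ∈ sub P), (q x * q u = q u * q x ↔
        autQ (conjT P ⟨x, hxN⟩) (proj ⟨u, hu⟩) = proj ⟨u, hu⟩) := by
      intro u hu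
      rw [autQ_proj, proj_eq, hcen]
      show _ ↔ (x * u * x⁻¹)⁻¹ * u ∈ V
      rw [← map_mul, ← map_mul, hq, QuotientGroup.mk'_apply, QuotientGroup.mk'_apply, QuotientGroup.eq]
      constructor
      · intro h1
        have h2 := H.normal.conj_mem _ h1 x
        have e : x * ((x * u)⁻¹ * (u * x)) * x⁻¹ = (x * u * x⁻¹)⁻¹ * u := by group
        rwa [e] at h2
      · intro h1
        have h2 := H.normal.conj_mem _ h1 x⁻¹
        have e : x⁻¹ * ((x * u * x⁻¹)⁻¹ * u) * x⁻¹⁻¹ = (x * u)⁻¹ * (u * x) := by group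
        rwa [e] at h2
    have hd : (autQ.comp (conjT P)) ⟨x, hxN⟩ = 1 := by
      by_contra hne
      have h0 := hfree _ ⟨_, hxC, rfl⟩ hne _ ((hQ ht).mp hcomm)
      refine ht1 ((QuotientGroup.eq_one_iff t).mpr ?_)
      exact (hcen ⟨t, ht⟩).mp (proj_eq_zero.mp h0)
    refine (hQ hs).mpr ?_
    exact LinearEquiv.congr_fun hd _
  have hXburn : ∀ a ∈ A, a ≠ 1 →
      Odd (Nat.card (Cfsg.pPrimeCore 2 (X a))) ∧
      (∀ g : X a, Odd (orderOf g) → g ∈ Cfsg.pPrimeCore 2 (X a)) ∧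
      X a ≤ (Cfsg.pPrimeCore 2 (X a)).map (X a).subtype ⊔ A := by
    intro a ha ha1
    obtain ⟨T, hT⟩ := exists_sylow_of_between hA2 (hAX a ha) inf_le_left hAodd
    have hburn : Subgroup.normalizer ((T : Subgroup (X a)) : Set (X a)) ≤
        Subgroup.centralizer ((T : Subgroup (X a)) : Set (X a)) := by
      intro n hn
      rw [hT] at hn ⊢
      have hnA : (n : G ⧸ V) ∈ Subgroup.normalizer (A : Set (G ⧸ V)) := by
        have h1 := normalizer_map_eq (X a).subtype hn
        rwa [Subgroup.subgroupOf_map_subtype, inf_of_le_left (hAX a ha)] at h1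
      obtain ⟨x, hx⟩ := QuotientGroup.mk'_surjective V (n : G ⧸ V)
      obtain ⟨t, ht, hta⟩ := ha
      refine Subgroup.mem_centralizer_iff.mpr fun b hb => Subtype.ext ?_
      obtain ⟨s, hs, hsb⟩ := Subgroup.mem_subgroupOf.mp hb
      show (b : G ⧸ V) * n = n * b
      rw [← hsb, ← hx]
      refine (hfix (hnorm (hx ▸ hnA)) (hcomapC (hx ▸ n.2.1)) t ht ?_ (hta ▸ ha1) s hs).symm
      rw [hq] at hta ⊢
      rw [hta, hx]
      exact Subgroup.mem_centralizer_singleton_iff.mp n.2.2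
    obtain ⟨h1, h2, h3⟩ := complement_of_central T hburn
    refine ⟨h1, h3, ?_⟩
    intro x hx
    have h4 : (⟨x, hx⟩ : X a) ∈ Cfsg.pPrimeCore 2 (X a) ⊔ (T : Subgroup (X a)) := h2 ▸ Subgroup.mem_top _
    have h5 := Subgroup.mem_map_of_mem (X a).subtype h4
    rw [Subgroup.map_sup, hT, Subgroup.subgroupOf_map_subtype] at h5
    exact (sup_le_sup_left inf_le_left _ : _ ≤ (Cfsg.pPrimeCore 2 (X a)).map (X a).subtype ⊔ A) h5
  let θ : (G ⧸ V) → Subgroup (G ⧸ V) := fun a => (Cfsg.pPrimeCore 2 (X a)).map (X a).subtype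
  have hθmem : ∀ a ∈ A, a ≠ 1 → ∀ {x : G ⧸ V}, x ∈ θ a ↔ x ∈ X a ∧ Odd (orderOf x) := by
    intro a ha ha1 x
    constructor
    · rintro ⟨y, hy, rfl⟩
      refine ⟨y.2, ?_⟩
      rw [Subgroup.coe_subtype, Subgroup.orderOf_coe]
      exact (hXburn a ha ha1).1.of_dvd_nat (Subgroup.orderOf_dvd_natCard _ hy)
    · rintro ⟨hx, ho⟩
      exact ⟨⟨x, hx⟩, (hXburn a ha ha1).2.1 _ (by rwa [← Subgroup.orderOf_coe]), rfl⟩
  have hθC : ∀ a ∈ A, a ≠ 1 → θ a ≤ Subgroup.centralizer {a} := fun a ha ha1 x hx =>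
    ((hθmem a ha ha1).mp hx).1.2
  have hθp : ∀ a ∈ A, a ≠ 1 → ¬ 2 ∣ Nat.card (θ a) := fun a ha ha1 hd => by
    rw [Subgroup.card_map_of_injective (X a).subtype_injective] at hd
    exact Nat.not_even_iff_odd.mpr (hXburn a ha ha1).1 (even_iff_two_dvd.mpr hd)
  have hθsolv : ∀ a ∈ A, a ≠ 1 → Group.IsSolvable (θ a) := fun a ha ha1 =>
    CfsgLib.OddOrder.feitThompson (by
      rw [Subgroup.card_map_of_injective (X a).subtype_injective]; exact (hXburn a ha ha1).1)
  have hθconj : ∀ g ∈ Subgroup.normalizer (A : Set (G ⧸ V)), ∀ a ∈ A, a ≠ 1 → ∀ x ∈ θ a,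
      g * x * g⁻¹ ∈ θ (g * a * g⁻¹) := by
    intro g hg a ha ha1 x hx
    obtain ⟨hxX, ho⟩ := (hθmem a ha ha1).mp hx
    refine (hθmem _ ((Subgroup.mem_normalizer_iff.mp hg a).mp ha) (fun e => ha1 (conj_eq_one_iff.mp e))).mpr
      ⟨⟨hCbn.conj_mem x hxX.1 g, Subgroup.mem_centralizer_singleton_iff.mpr ?_⟩, ?_⟩
    · have h1 := Subgroup.mem_centralizer_singleton_iff.mp hxX.2
      calc g * x * g⁻¹ * (g * a * g⁻¹) = g * (x * a) * g⁻¹ := by group
        _ = g * a * g⁻¹ * (g * x * g⁻¹) := by rw [h1]; group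
    · rwa [← MulAut.conj_apply, MulEquiv.orderOf_eq]
  have hθinv : ∀ a ∈ A, a ≠ 1 → ∀ b ∈ A, ∀ x ∈ θ a, b * x * b⁻¹ ∈ θ a := by
    intro a ha ha1 b hb x hx
    have h1 := hθconj b (Subgroup.le_normalizer hb) a ha ha1 x hx
    rwa [hAcomm b hb a ha, mul_inv_cancel_right] at h1
  have hbal : ∀ a ∈ A, a ≠ 1 → ∀ b ∈ A, b ≠ 1 → θ a ⊓ Subgroup.centralizer {b} ≤ θ b := by
    intro a ha ha1 b hb hb1 x hx
    obtain ⟨hxX, ho⟩ := (hθmem a ha ha1).mp hx.1
    exact (hθmem b hb hb1).mpr ⟨⟨hxX.1, hx.2⟩, ho⟩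
  -- the classes
  have hsqV : ∀ t ∈ sub P, t * t ∈ V := fun t ht =>
    (hcen ⟨t * t, mul_mem ht ht⟩).mp (sq_central (⟨t, ht⟩ : sub P))
  have htop : (⊤ : Submodule (ZMod 2) (Quo (sub P))) ≠ ⊥ := by
    obtain ⟨a, b, hne⟩ : ∃ a b : sub P, a * b ≠ b * a := by
      push Not at hab
      exact hab
    refine (Submodule.ne_bot_iff _).mpr ⟨proj a, trivial, fun e0 => hne ?_⟩
    exact (Subgroup.mem_center_iff.mp (proj_eq_zero.mp e0) b).symm
  have hsurj : ∀ v ∈ V, v ≠ 1 → ∃ t ∈ sub P, t * t = v ∧ q t ≠ 1 := by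
    intro v hv hv1
    obtain ⟨u, -, hu⟩ := S.surj S.top_inv htop
      (v := cen (⟨v, H.le_sub P hv⟩ : sub P) ((hcen _).mpr hv)) (fun e => hv1 (congrArg (fun z => ((Cen.val z : sub P) : G)) e))
    obtain ⟨x, rfl⟩ := proj_surjective u
    have h1 : (x : G) * x = v := congrArg (fun z => ((Cen.val z : sub P) : G)) hu
    refine ⟨x, x.2, h1, fun e => hv1 ?_⟩
    rw [← h1, (H.sq _).mpr ((QuotientGroup.eq_one_iff _).mp e)]
  -- the rank
  have hArank : 2 ^ 3 ≤ Nat.card A := by
    have hcardA : Nat.card A = Nat.card (Quo (sub P)) := by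
      rw [card_quo]
      have hsurjA : Function.Surjective (q.subgroupMap (sub P)) := MonoidHom.subgroupMap_surjective q (sub P)
      have hk : (q.subgroupMap (sub P)).ker = Subgroup.center (sub P) := by
        ext x
        rw [MonoidHom.mem_ker, hcen, Subtype.ext_iff]
        exact QuotientGroup.eq_one_iff (x : G)
      rw [← hk, Subgroup.index_ker, MonoidHom.range_eq_top.mpr hsurjA, Subgroup.card_top]
    rw [hcardA]
    have hr := H.r_prime.two_le
    rcases S.card_cases S.top_inv htop with e | e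
    · exfalso
      -- then every centralising element acts trivially and `Cb = A`
      rw [Nat.card_congr (Submodule.topEquiv).toEquiv] at e
      have hone : ∀ d ∈ (centPart P).map (autQ.comp (conjT P)), d = 1 := by
        intro d hd
        by_contra hd1
        obtain ⟨n, hn, rfl⟩ := hd
        obtain ⟨z, hz⟩ := exists_ne_zero_of_ne_one hd1
        have hv : Qm z ≠ 0 := fun e0 => hz (S.anis z e0)
        have hf := S.card_fibre S.top_inv hv
        rw [Nat.card_congr (Submodule.topEquiv).toEquiv, e] at hf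
        have h1 := (mul_eq_left₀ (by have := H.hp.pos; omega)).mp hf.symm
        haveI := (Nat.card_eq_one_iff_unique.mp h1).1
        have h2 := congrArg (fun w : {u : (⊤ : Submodule (ZMod 2) (Quo (sub P))) // Qm (u : Quo (sub P)) = Qm z} =>
          w.1.1) (Subsingleton.elim ⟨⟨(autQ.comp (conjT P)) n z, trivial⟩, isometry (H.centPart_fix hn) z⟩
            ⟨⟨z, trivial⟩, rfl⟩)
        exact hz (hfree _ ⟨n, hn, rfl⟩ hd1 z h2)
      refine hnot ?_
      obtain ⟨T, hT⟩ := exists_sylow_of_between hA2 hAC le_rfl hAodd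
      have hburn : Subgroup.normalizer ((T : Subgroup Cb) : Set Cb) ≤
          Subgroup.centralizer ((T : Subgroup Cb) : Set Cb) := by
        intro n hn
        rw [hT] at hn ⊢
        have hnA : (n : G ⧸ V) ∈ Subgroup.normalizer (A : Set (G ⧸ V)) := by
          have h1 := normalizer_map_eq Cb.subtype hn
          rwa [Subgroup.subgroupOf_map_subtype, inf_of_le_left hAC] at h1
        obtain ⟨x, hx⟩ := QuotientGroup.mk'_surjective V (n : G ⧸ V)
        refine Subgroup.mem_centralizer_iff.mpr fun b hb => Subtype.ext ?_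
        obtain ⟨s, hs, hsb⟩ := Subgroup.mem_subgroupOf.mp hb
        show (b : G ⧸ V) * n = n * b
        rw [← hsb, ← hx]
        have hxN := hnorm (hx ▸ hnA)
        have hxC := hcomapC (hx ▸ n.2)
        have h1 := LinearEquiv.congr_fun (hone _ ⟨⟨x, hxN⟩, hxC, rfl⟩) (proj ⟨s, hs⟩)
        have h2 : (x * s * x⁻¹)⁻¹ * s ∈ V := (hcen _).mp (proj_eq.mp h1)
        rw [← map_mul, ← map_mul]
        refine QuotientGroup.eq.mpr ?_
        have h3 := inv_mem (H.normal.conj_mem _ h2 x⁻¹)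
        have e3 : (x⁻¹ * ((x * s * x⁻¹)⁻¹ * s) * x⁻¹⁻¹)⁻¹ = (s * x)⁻¹ * (x * s) := by group
        rwa [e3] at h3
      obtain ⟨h1, h2, h3⟩ := complement_of_central T hburn
      have hO : (Cfsg.pPrimeCore 2 Cb).map Cb.subtype = ⊥ := by
        refine hcore _ ⟨?_⟩ (Subgroup.map_subtype_le _) (by
          rwa [Subgroup.card_map_of_injective Cb.subtype_injective])
        rintro _ ⟨y, hy, rfl⟩ g
        refine ⟨⟨g * y * g⁻¹, hCbn.conj_mem y y.2 g⟩, h3 _ ?_, rfl⟩
        rw [← Subgroup.orderOf_coe]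
        show Odd (orderOf (g * (y : G ⧸ V) * g⁻¹))
        rw [← MulAut.conj_apply, MulEquiv.orderOf_eq, Subgroup.orderOf_coe]
        exact h1.of_dvd_nat (Subgroup.orderOf_dvd_natCard _ hy)
      rw [Subgroup.map_eq_bot_iff_of_injective _ Cb.subtype_injective] at hO
      rw [hO, bot_sup_eq, hT, Subgroup.subgroupOf_eq_top] at h2
      have hAn : A.Normal := (le_antisymm hAC h2) ▸ hCbn
      have := hAn.comap q
      rwa [hA, Subgroup.comap_map_eq_self (by rw [hVker]; exact H.le_sub P)] at this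
    · rw [Nat.card_congr (Submodule.topEquiv).toEquiv] at e
      rw [e]
      exact Nat.pow_le_pow_right (by norm_num) (by omega)
  obtain ⟨hW2, hWθ⟩ := Cfsg.Agent.S0217.result A hAcomm (fun a ha => by rw [pow_two]; exact hAsq a ha) hArank θ hθC
    hθp hθinv hθsolv hbal
  set W := ⨆ a : {a : G ⧸ V // a ∈ A ∧ a ≠ 1}, θ a with hW
  have hθW : ∀ a ∈ A, a ≠ 1 → θ a ≤ W := fun a ha ha1 => (hWθ a ha ha1).ge.trans inf_le_left
  have hnormW : ∀ g ∈ Subgroup.normalizer (A : Set (G ⧸ V)), g ∈ Subgroup.normalizer (W : Set (G ⧸ V)) := by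
    intro g hg
    have key : ∀ g ∈ Subgroup.normalizer (A : Set (G ⧸ V)), ∀ x ∈ W, g * x * g⁻¹ ∈ W := by
      intro g hg
      have : W ≤ W.comap (MulAut.conj g).toMonoidHom := iSup_le fun a x hx =>
        hθW _ ((Subgroup.mem_normalizer_iff.mp hg _).mp a.2.1) (fun e => a.2.2 (conj_eq_one_iff.mp e))
          (hθconj g hg a a.2.1 a.2.2 x hx)
      exact fun x hx => this hx
    refine Subgroup.mem_normalizer_iff.mpr fun x => ⟨fun hx => key g hg x hx, fun hx => ?_⟩
    have := key g⁻¹ (inv_mem hg) _ hx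
    rwa [show g⁻¹ * (g * x * g⁻¹) * g⁻¹⁻¹ = x by group] at this
  -- the big proper subgroup
  obtain ⟨H0, hH0C, hH0N, hH0X, hH0⟩ : ∃ H0 : Subgroup (G ⧸ V), H0 ≤ Cb ∧
      Subgroup.normalizer (A : Set (G ⧸ V)) ⊓ Cb ≤ H0 ∧ (∀ a ∈ A, a ≠ 1 → X a ≤ H0) ∧ H0 ≠ Cb := by
    by_cases hW0 : W = ⊥
    · refine ⟨Subgroup.normalizer (A : Set (G ⧸ V)) ⊓ Cb, inf_le_right, le_rfl, fun a ha ha1 => le_inf ?_ inf_le_left,
        fun e => hnot ?_⟩
      · intro x hx
        have h1 := (hXburn a ha ha1).2.2 hx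
        rw [show (Cfsg.pPrimeCore 2 (X a)).map (X a).subtype = ⊥ from
          eq_bot_iff.mpr ((hθW a ha ha1).trans hW0.le), bot_sup_eq] at h1
        exact Subgroup.le_normalizer h1
      · refine sylow_char_normal H P ?_
        refine ⟨fun x hx g => ?_⟩
        have hg : q (g : G) ∈ Subgroup.normalizer (A : Set (G ⧸ V)) := (e.ge ⟨g, g.2, rfl⟩).1
        have h1 : (g : G) * (x : G) * (g : G)⁻¹ ∈ sub P :=
          (Subgroup.mem_normalizer_iff.mp (hnorm hg) _).mp ⟨x, hx, rfl⟩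
        rw [← sub_subgroupOf (P := P), Subgroup.mem_subgroupOf]
        exact h1
    · refine ⟨Subgroup.normalizer (W : Set (G ⧸ V)) ⊓ Cb, inf_le_right, fun g hg => ⟨hnormW g hg.1, hg.2⟩,
        fun a ha ha1 => le_inf ((hXburn a ha ha1).2.2.trans (sup_le ((hθW a ha ha1).trans Subgroup.le_normalizer)
          fun b hb => hnormW b (Subgroup.le_normalizer hb))) inf_le_left, fun e => hW0 (hcore W ?_ ?_ ?_)⟩
      · refine ⟨fun x hx g => ?_⟩
        obtain ⟨g, rfl⟩ := QuotientGroup.mk'_surjective V g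
        obtain ⟨n, hn, c, hc, rfl⟩ := H.frattini P g
        have h1 : q c ∈ Subgroup.normalizer (W : Set (G ⧸ V)) := (e.ge ⟨c, hc, rfl⟩).1
        have h2 : q n ∈ Subgroup.normalizer (W : Set (G ⧸ V)) := hnormW _ (normalizer_map_eq q hn)
        rw [map_mul]
        exact (Subgroup.mem_normalizer_iff.mp (mul_mem h2 h1) x).mp hx
      · exact iSup_le fun a => fun x hx => ((hθmem _ a.2.1 a.2.2).mp hx).1.1
      · exact Nat.not_even_iff_odd.mp fun he => hW2 (even_iff_two_dvd.mp he)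
  have hAH0 : A ≤ H0 := fun a ha => hH0N ⟨Subgroup.le_normalizer ha, hAC ha⟩
  obtain ⟨T, hT⟩ := exists_sylow_of_between hA2 hAH0 hH0C hAodd
  -- centralisers of involutions of `H0`
  have hcentH0 : ∀ z ∈ H0, z * z = 1 → z ≠ 1 → ∀ v ∈ Cb, v * z = z * v → v ∈ H0 := by
    intro z hz hz2 hz1 v hv hvz
    obtain ⟨T', hT'⟩ := IsPGroup.exists_le_sylow (p := 2) (P := Subgroup.zpowers (⟨z, hz⟩ : H0))
      (IsPGroup.of_card (n := 1) (by
        rw [Nat.card_zpowers, pow_one, orderOf_eq_prime (by rw [pow_two]; exact Subtype.ext hz2)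
          (fun e => hz1 (congrArg Subtype.val e))]))
    obtain ⟨k, hk⟩ := MulAction.exists_smul_eq H0 T' T
    have h1 : k * (⟨z, hz⟩ : H0) * k⁻¹ ∈ (T : Subgroup H0) := by
      rw [← hk, Sylow.coe_subgroup_smul, Subgroup.mem_pointwise_smul_iff_inv_smul_mem]
      simpa [MulAut.smul_def, MulAut.conj_symm_apply, mul_assoc] using hT' (Subgroup.mem_zpowers _)
    rw [hT, Subgroup.mem_subgroupOf] at h1
    simp only [Subgroup.coe_mul, Subgroup.coe_inv] at h1
    have h2 : (k : G ⧸ V) * v * (k : G ⧸ V)⁻¹ ∈ H0 := by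
      refine hH0X _ h1 (fun e => hz1 (conj_eq_one_iff.mp e))
        ⟨hCbn.conj_mem v hv k, Subgroup.mem_centralizer_singleton_iff.mpr ?_⟩
      calc (k : G ⧸ V) * v * (k : G ⧸ V)⁻¹ * ((k : G ⧸ V) * z * (k : G ⧸ V)⁻¹)
          = (k : G ⧸ V) * (v * z) * (k : G ⧸ V)⁻¹ := by group
        _ = (k : G ⧸ V) * z * (k : G ⧸ V)⁻¹ * ((k : G ⧸ V) * v * (k : G ⧸ V)⁻¹) := by rw [hvz]; group
    have := mul_mem (mul_mem (inv_mem k.2) h2) k.2
    rwa [show (k : G ⧸ V)⁻¹ * ((k : G ⧸ V) * v * (k : G ⧸ V)⁻¹) * k = v by group] at this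
  -- all involutions lie in `H0`
  have hall : ∀ v ∈ Cb, v * v = 1 → v ∈ H0 := by
    intro v hv hv2
    by_cases hv1 : v = 1
    · rw [hv1]; exact one_mem _
    obtain ⟨w, hw⟩ := QuotientGroup.mk'_surjective V v
    have hwC : w ∈ Subgroup.centralizer (V : Set G) := hcomapC (hw ▸ hv)
    have hwV : w * w ∈ V := by
      rw [← QuotientGroup.eq_one_iff]
      show q (w * w) = 1
      rw [map_mul, hq, hw, hv2]
    obtain ⟨u', hu', hne'⟩ : ∃ u' ∈ V, u' ≠ 1 ∧ u' ≠ w * w := by
      by_contra hall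
      push Not at hall
      have : Subsingleton {x : V // x ≠ 1} := ⟨fun a b => Subtype.ext (Subtype.ext
        ((hall a a.1.2 fun e => a.2 (Subtype.ext e)).trans (hall b b.1.2 fun e => b.2 (Subtype.ext e)).symm))⟩
      have h1 := Finite.card_le_one_iff_subsingleton.mpr this
      rw [H.card_sharp] at h1
      have h4 : 2 ^ 2 ≤ 2 ^ r := Nat.pow_le_pow_right (by norm_num) H.r_prime.two_le
      omega
    obtain ⟨t, ht, htt, htq⟩ := hsurj u' hu' hne'.1
    have hu : q t ∈ A := ⟨t, ht, rfl⟩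
    rcases conj_or_common (hAsq _ hu) hv2 with ⟨k, hk⟩ | ⟨i, hi2, hi1, hiu, hiv⟩
    · exfalso
      obtain ⟨c, hc, hcq⟩ : ∃ c ∈ Subgroup.centralizer (V : Set G), q c = (q t * v) ^ k :=
        ⟨(t * w) ^ k, pow_mem (mul_mem (sub_le ht) hwC) k, by rw [map_pow, map_mul, hq, hw]⟩
      have h1 := H.sq_lift (mul_mem (mul_mem hc (sub_le ht)) (inv_mem hc))
        (show q (c * t * c⁻¹) = q w by rw [map_mul, map_mul, map_inv, hcq, hk, hq, hw])
      have h2 : c * (t * t) * c⁻¹ = t * t := by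
        rw [htt, ← Subgroup.mem_centralizer_iff.mp hc u' hu', mul_inv_cancel_right]
      refine hne'.2 ?_
      rw [← htt, ← h2, ← h1]
      group
    · have hzC : (q t * v) ^ i ∈ Cb := pow_mem (mul_mem (hAC hu) hv) i
      have hzH : (q t * v) ^ i ∈ H0 := hH0X _ hu htq ⟨hzC, Subgroup.mem_centralizer_singleton_iff.mpr hiu.symm⟩
      exact hcentH0 _ hzH hi2 hi1 v hv hiv
  -- Frattini
  refine hH0 (le_antisymm hH0C fun c hc => ?_)
  set B := A.map (MulAut.conj c).toMonoidHom with hB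
  have hB0 : B ≤ H0 := by
    rintro _ ⟨a, ha, rfl⟩
    refine hall _ (hCbn.conj_mem a (hAC ha) c) ?_
    show c * a * c⁻¹ * (c * a * c⁻¹) = 1
    rw [show c * a * c⁻¹ * (c * a * c⁻¹) = c * (a * a) * c⁻¹ by group, hAsq a ha, mul_one, mul_inv_cancel]
  obtain ⟨TB, hTB⟩ := IsPGroup.exists_le_sylow (p := 2) (P := B.subgroupOf H0)
    ((hA2.map (MulAut.conj c).toMonoidHom).comap_of_injective H0.subtype H0.subtype_injective)
  obtain ⟨k, hk⟩ := MulAction.exists_smul_eq H0 TB T
  have h1 : (k : G ⧸ V) * c ∈ Subgroup.normalizer (A : Set (G ⧸ V)) := by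
    have key : ∀ a ∈ A, (k : G ⧸ V) * c * a * ((k : G ⧸ V) * c)⁻¹ ∈ A := by
      intro a ha
      have hm : c * a * c⁻¹ ∈ H0 := hB0 ⟨a, ha, rfl⟩
      have h2 : k * (⟨_, hm⟩ : H0) * k⁻¹ ∈ (T : Subgroup H0) := by
        rw [← hk, Sylow.coe_subgroup_smul, Subgroup.mem_pointwise_smul_iff_inv_smul_mem]
        simpa [MulAut.smul_def, MulAut.conj_symm_apply, mul_assoc] using
          hTB (Subgroup.mem_subgroupOf.mpr (⟨a, ha, rfl⟩ : ((⟨_, hm⟩ : H0) : G ⧸ V) ∈ B))
      rw [hT, Subgroup.mem_subgroupOf] at h2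
      simpa [mul_assoc] using h2
    refine Subgroup.mem_normalizer_fintype (fun a ha => key a ha)
  have h2 : (k : G ⧸ V) * c ∈ Cb := mul_mem (hH0C k.2) hc
  have h3 := mul_mem (inv_mem k.2) (hH0N ⟨h1, h2⟩)
  rwa [inv_mul_cancel_left] at h3

end CfsgLib.Pyramidal
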