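import Cfsg.Agent.Lib.Pyramidal.Semireg
import Cfsg.Agent.Lib.SuzukiTwo.Order
import Cfsg.Agent.Lib.SuzukiTwo.RankTwo

/-!
The squaring map `T/Z(T) → Z(T)` of a special 2-group and the action of its automorphisms on it.
-/

set_option autoImplicit false

namespace CfsgLib.Pyramidal

open CfsgLib.SuzukiTwo
open scoped commutatorElement

universe u

/-- A 2-group whose squares are central and whose centre consists of the elements of order at most two. -/
class SqTwo (T : Type u) [Group T] : Prop where
  good : Good T
  inv_central : ∀ x : T, x * x = 1 → x ∈ Subgroup.center T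

variable {T : Type u} [Group T] [SqTwo T]

theorem sq_central (x : T) : x * x ∈ Subgroup.center T := SqTwo.good.1 x

theorem mem_center_iff_sq {x : T} : x ∈ Subgroup.center T ↔ x * x = 1 :=
  ⟨fun hx => SqTwo.good.2 x hx, SqTwo.inv_central x⟩

variable (T) in
/-- The quotient by the centre, written additively. -/
def Quo : Type u := Additive (T ⧸ Subgroup.center T)

variable (T) in
/-- The centre, written additively. -/
def Cen : Type u := Additive (Subgroup.center T)

theorem quo_mul_comm (a b : T ⧸ Subgroup.center T) : a * b = b * a := by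
  obtain ⟨x, rfl⟩ := QuotientGroup.mk_surjective a
  obtain ⟨y, rfl⟩ := QuotientGroup.mk_surjective b
  have h1 : ((⁅x, y⁆ : T) : T ⧸ Subgroup.center T) = 1 :=
    (QuotientGroup.eq_one_iff _).mpr ((SqTwo.good (T := T)).commutator_mem x y)
  rw [commutatorElement_def, QuotientGroup.mk_mul, QuotientGroup.mk_mul, QuotientGroup.mk_mul,
    QuotientGroup.mk_inv, QuotientGroup.mk_inv] at h1
  exact mul_inv_eq_one.mp (by rw [← h1]; group)

instance : AddCommGroup (Quo T) :=
  { (inferInstance : AddGroup (Additive (T ⧸ Subgroup.center T))) with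
    add_comm := fun a b => quo_mul_comm a.toMul b.toMul }

instance : AddCommGroup (Cen T) :=
  { (inferInstance : AddGroup (Additive (Subgroup.center T))) with
    add_comm := fun a b =>
      Subtype.ext (Subgroup.mem_center_iff.mp (Additive.toMul b).2 ((Additive.toMul a : Subgroup.center T) : T)) }

/-- The class of an element. -/
def proj (x : T) : Quo T := Additive.ofMul (x : T ⧸ Subgroup.center T)

theorem proj_surjective (a : Quo T) : ∃ x : T, proj x = a := by
  obtain ⟨x, hx⟩ := QuotientGroup.mk_surjective a.toMul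
  exact ⟨x, congrArg Additive.ofMul hx⟩

theorem proj_mul (x y : T) : proj (x * y) = proj x + proj y := rfl

theorem proj_eq_zero {x : T} : proj x = 0 ↔ x ∈ Subgroup.center T := QuotientGroup.eq_one_iff x

theorem proj_eq {x y : T} : proj x = proj y ↔ x⁻¹ * y ∈ Subgroup.center T := QuotientGroup.eq

instance : Module (ZMod 2) (Quo T) :=
  AddCommGroup.zmodModule fun a => by
    obtain ⟨x, rfl⟩ := proj_surjective a
    rw [two_nsmul, ← proj_mul]
    exact proj_eq_zero.mpr (sq_central x)

instance : Module (ZMod 2) (Cen T) :=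
  AddCommGroup.zmodModule fun a => by
    rw [two_nsmul]
    exact Subtype.ext (SqTwo.good.2 _ a.toMul.2)

instance [Finite T] : Finite (Quo T) := inferInstanceAs (Finite (Additive (T ⧸ Subgroup.center T)))

instance [Finite T] : Finite (Cen T) := inferInstanceAs (Finite (Additive (Subgroup.center T)))

/-- An element of the centre, additively. -/
def cen (z : T) (hz : z ∈ Subgroup.center T) : Cen T := Additive.ofMul (⟨z, hz⟩ : Subgroup.center T)

/-- The underlying element. -/
def Cen.val (a : Cen T) : T := ((Additive.toMul a : Subgroup.center T) : T)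

theorem Cen.ext {a b : Cen T} (e : a.val = b.val) : a = b := Subtype.ext e

theorem sq_mul (x y : T) : x * y * (x * y) = x * x * (y * y) * ⁅y, x⁆ := by
  have hc := (SqTwo.good (T := T)).commutator_mem y x
  rw [show x * y * (x * y) = x * (⁅y, x⁆ * x) * y * y by simp only [commutatorElement_def]; group,
    ← Subgroup.mem_center_iff.mp hc x, show x * (x * ⁅y, x⁆) * y * y = x * x * (⁅y, x⁆ * (y * y)) by group,
    ← Subgroup.mem_center_iff.mp hc (y * y)]
  group

/-- The squaring map. -/
def Qm (a : Quo T) : Cen T :=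
  Quotient.liftOn' a.toMul (fun x => cen (x * x) (sq_central x)) fun x y hxy => Cen.ext <| by
    rw [QuotientGroup.leftRel_apply] at hxy
    show x * x = y * y
    rw [show y = x * (x⁻¹ * y) by group, sq_mul x (x⁻¹ * y), mem_center_iff_sq.mp hxy,
      commutator_center_left hxy, mul_one, mul_one]

theorem Qm_proj (x : T) : (Qm (proj x)).val = x * x := rfl

theorem Cen.val_add (a b : Cen T) : (a + b).val = a.val * b.val := rfl

theorem Cen.val_zero : (0 : Cen T).val = 1 := rfl

theorem comm_eq_of_quo {a a' b : T} (h : a⁻¹ * a' ∈ Subgroup.center T) : ⁅a', b⁆ = ⁅a, b⁆ := by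
  rw [show a' = a * (a⁻¹ * a') by group, commutator_left, commutator_center_left h, mul_one, mul_inv_cancel, one_mul]

/-- The commutator as a function on classes. -/
def comm (a b : Quo T) : Cen T :=
  Quotient.liftOn₂' b.toMul a.toMul (fun y x => cen ⁅y, x⁆ ((SqTwo.good).commutator_mem y x))
    fun y x y' x' hy hx => Cen.ext <| by
      rw [QuotientGroup.leftRel_apply] at hy hx
      show ⁅y, x⁆ = ⁅y', x'⁆
      rw [comm_eq_of_quo hy, ← commutatorElement_inv x y, ← commutatorElement_inv x' y, comm_eq_of_quo hx]

theorem comm_proj (x y : T) : (comm (proj x) (proj y)).val = ⁅y, x⁆ := rfl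

theorem Qm_add (a b : Quo T) : Qm (a + b) = Qm a + Qm b + comm a b := by
  obtain ⟨x, rfl⟩ := proj_surjective a
  obtain ⟨y, rfl⟩ := proj_surjective b
  refine Cen.ext ?_
  rw [← proj_mul, Cen.val_add, Cen.val_add, Qm_proj, Qm_proj, Qm_proj, comm_proj, sq_mul]

/-- The commutator as a bilinear map. -/
def Bm : Quo T →ₗ[ZMod 2] Quo T →ₗ[ZMod 2] Cen T :=
  AddMonoidHom.toZModLinearMap 2 (AddMonoidHom.mk'
    (fun a => AddMonoidHom.toZModLinearMap 2 (AddMonoidHom.mk' (fun b => comm a b) fun b b' => by
      obtain ⟨x, rfl⟩ := proj_surjective a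
      obtain ⟨y, rfl⟩ := proj_surjective b
      obtain ⟨y', rfl⟩ := proj_surjective b'
      refine Cen.ext ?_
      rw [← proj_mul, Cen.val_add, comm_proj, comm_proj, comm_proj,
        commutator_left_central ((SqTwo.good).commutator_mem y' x)]
      exact Subgroup.mem_center_iff.mp ((SqTwo.good).commutator_mem y x) _))
    fun a a' => LinearMap.ext fun b => by
      obtain ⟨x, rfl⟩ := proj_surjective a
      obtain ⟨x', rfl⟩ := proj_surjective a'
      obtain ⟨y, rfl⟩ := proj_surjective b
      refine Cen.ext ?_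
      show (comm (proj x + proj x') (proj y)).val = (comm (proj x) (proj y) + comm (proj x') (proj y)).val
      rw [← proj_mul, Cen.val_add, comm_proj, comm_proj, comm_proj,
        commutator_right_central ((SqTwo.good).commutator_mem y x')])

theorem map_center (α : MulAut T) : ∀ z ∈ Subgroup.center T, α z ∈ Subgroup.center T := fun z hz =>
  mem_center_iff_sq.mpr (by rw [← map_mul, mem_center_iff_sq.mp hz, map_one])

/-- The action on the quotient. -/
def quoMap (α : MulAut T) : Quo T →+ Quo T :=
  MonoidHom.toAdditive (QuotientGroup.map (Subgroup.center T) (Subgroup.center T) α.toMonoidHom (map_center α))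

theorem quoMap_proj (α : MulAut T) (x : T) : quoMap α (proj x) = proj (α x) := rfl

theorem quoMap_mul (α β : MulAut T) (a : Quo T) : quoMap (α * β) a = quoMap α (quoMap β a) := by
  obtain ⟨x, rfl⟩ := proj_surjective a
  rfl

theorem quoMap_one (a : Quo T) : quoMap (1 : MulAut T) a = a := by
  obtain ⟨x, rfl⟩ := proj_surjective a
  rfl

/-- The action on the centre. -/
def cenMap (α : MulAut T) : Cen T →+ Cen T :=
  AddMonoidHom.mk' (fun a => cen (α a.val) (map_center α _ (Additive.toMul a).2)) fun a b => Cen.ext <| by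
    show α (a + b).val = α a.val * α b.val
    rw [Cen.val_add, map_mul]

theorem cenMap_val (α : MulAut T) (a : Cen T) : (cenMap α a).val = α a.val := rfl

/-- The action on the quotient, as a homomorphism. -/
def autQ : MulAut T →* (Quo T ≃ₗ[ZMod 2] Quo T) where
  toFun α :=
    { (quoMap α).toZModLinearMap 2 with
      invFun := quoMap α⁻¹
      left_inv := fun a => by
        show quoMap α⁻¹ (quoMap α a) = a
        rw [← quoMap_mul, inv_mul_cancel, quoMap_one]
      right_inv := fun a => by
        show quoMap α (quoMap α⁻¹ a) = a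
        rw [← quoMap_mul, mul_inv_cancel, quoMap_one] }
  map_one' := LinearEquiv.ext quoMap_one
  map_mul' α β := LinearEquiv.ext (quoMap_mul α β)

/-- The action on the centre, as a homomorphism. -/
def autC : MulAut T →* (Cen T ≃ₗ[ZMod 2] Cen T) where
  toFun α :=
    { (cenMap α).toZModLinearMap 2 with
      invFun := cenMap α⁻¹
      left_inv := fun a => Cen.ext (α.symm_apply_apply _)
      right_inv := fun a => Cen.ext (α.apply_symm_apply _) }
  map_one' := LinearEquiv.ext fun _ => Cen.ext rfl
  map_mul' _ _ := LinearEquiv.ext fun _ => Cen.ext rfl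

theorem autQ_proj (α : MulAut T) (x : T) : autQ α (proj x) = proj (α x) := rfl

theorem autC_val (α : MulAut T) (a : Cen T) : (autC α a).val = α a.val := rfl

theorem Qm_autQ (α : MulAut T) (a : Quo T) : Qm (autQ α a) = autC α (Qm a) := by
  obtain ⟨x, rfl⟩ := proj_surjective a
  refine Cen.ext ?_
  rw [autC_val, autQ_proj, Qm_proj, Qm_proj, map_mul]

theorem Qm_anis {a : Quo T} (h : Qm a = 0) : a = 0 := by
  obtain ⟨x, rfl⟩ := proj_surjective a
  refine proj_eq_zero.mpr (SqTwo.inv_central x ?_)
  rw [← Qm_proj, h, Cen.val_zero]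

theorem autC_eq_one {α : MulAut T} (h : ∀ x : T, x * x = 1 → α x = x) : autC α = 1 :=
  LinearEquiv.ext fun a => Cen.ext (h _ (SqTwo.good.2 _ (Additive.toMul a).2))

theorem isometry {α : MulAut T} (h : ∀ x : T, x * x = 1 → α x = x) (a : Quo T) : Qm (autQ α a) = Qm a := by
  rw [Qm_autQ, autC_eq_one h]
  rfl

/-- An automorphism of odd order fixing the involutions and acting trivially on the quotient is trivial. -/
theorem autQ_injective {α : MulAut T} (h : ∀ x : T, x * x = 1 → α x = x) (hodd : Odd (orderOf α))
    (hQ : autQ α = 1) : α = 1 := by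
  refine MulEquiv.ext fun x => ?_
  have h1 : proj (α x) = proj x := LinearEquiv.congr_fun hQ (proj x)
  obtain ⟨z, hz, hx⟩ : ∃ z ∈ Subgroup.center T, α x = x * z :=
    ⟨x⁻¹ * α x, proj_eq.mp h1.symm, (mul_inv_cancel_left x _).symm⟩
  have hzfix : α z = z := h z (SqTwo.good.2 z hz)
  have hn : ∀ n : ℕ, (α ^ n) x = x * z ^ n := by
    intro n
    induction n with
    | zero => simp
    | succ n ih => rw [pow_succ', MulAut.mul_apply, ih, map_mul, map_pow, hx, hzfix, pow_succ', mul_assoc]
  have h2 := hn (orderOf α)
  rw [pow_orderOf_eq_one, MulAut.one_apply, eq_comm, mul_eq_left] at h2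
  obtain ⟨m, hm⟩ := hodd
  rw [hm, pow_succ, pow_mul, pow_two, SqTwo.good.2 z hz, one_pow, one_mul] at h2
  rw [MulAut.one_apply, hx, h2, mul_one]

theorem card_cen : Nat.card (Cen T) = Nat.card (Subgroup.center T) := rfl

theorem card_quo : Nat.card (Quo T) = (Subgroup.center T).index := (Subgroup.index_eq_card _).symm

/-- The system attached to an automorphism transitive on involutions. -/
theorem mkSys [Finite T] {r : ℕ} (hcard : Nat.card (Subgroup.center T) = 2 ^ r) (hp : (2 ^ r - 1).Prime)
    (κ : MulAut T) (htr : ∀ x y : T, x ≠ 1 → x * x = 1 → y ≠ 1 → y * y = 1 → ∃ i : ℕ, (κ ^ i) x = y)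
    (hord : ∃ a : ℕ, κ ^ (2 ^ r - 1) ^ a = 1) : Sys (Qm (T := T)) Bm (autQ κ) (autC κ) r where
  anis := fun _ => Qm_anis
  quad := Qm_add
  equiv := Qm_autQ κ
  trans := fun v w hv hw => by
    obtain ⟨i, hi⟩ := htr v.val w.val (fun e => hv (Cen.ext e)) (SqTwo.good.2 _ (Additive.toMul v).2)
      (fun e => hw (Cen.ext e)) (SqTwo.good.2 _ (Additive.toMul w).2)
    exact ⟨i, Cen.ext (by rw [← map_pow, autC_val, hi])⟩
  cardV := card_cen.trans hcard
  hp := hp
  hord := by
    obtain ⟨a, ha⟩ := hord
    exact ⟨a, by rw [← map_pow, ha, map_one]⟩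
  small := by
    by_contra hlt
    push Not at hlt
    have h1 := card_cen.trans hcard
    rw [Module.natCard_eq_pow_finrank (K := ZMod 2) (V := Quo T), Nat.card_zmod] at hlt
    rw [Module.natCard_eq_pow_finrank (K := ZMod 2), Nat.card_zmod] at h1
    have h2 := Nat.pow_right_injective (le_refl 2) h1
    obtain ⟨x, hx, hq⟩ := exists_zero_of_lt (Qm (T := T))
      (AddMonoidHom.mk' (fun a => (Bm a).toAddMonoidHom) fun a a' => by ext b; simp)
      Qm_add (fun a => by
        obtain ⟨x, rfl⟩ := proj_surjective a
        exact Cen.ext ((comm_proj x x).trans (commutatorElement_self x)))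
      (by rw [h2]; exact (Nat.pow_lt_pow_iff_right (le_refl 2)).mp hlt)
    exact hx (Qm_anis hq)

end CfsgLib.Pyramidal
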