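import Cfsg.Agent.Lib.Pyramidal.Quad

/-!
Transvections over the field with two elements.
-/

set_option autoImplicit false

namespace CfsgLib.Pyramidal

open scoped commutatorElement

universe u

variable {W : Type u} [AddCommGroup W] [Module (ZMod 2) W]

theorem two_cases : ∀ c : ZMod 2, c = 0 ∨ c = 1 := by decide

theorem eq_one_of_ne {c : ZMod 2} (h : c ≠ 0) : c = 1 := (two_cases c).resolve_left h

/-- The transvection with functional `f` and centre `a`. -/
noncomputable def tv (f : Module.Dual (ZMod 2) W) (a : W) (h : f a = 0) : W ≃ₗ[ZMod 2] W :=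
  LinearEquiv.transvection h

theorem tv_apply (f : Module.Dual (ZMod 2) W) (a : W) (h : f a = 0) (w : W) : tv f a h w = w + f w • a := rfl

theorem tv_fix {f : Module.Dual (ZMod 2) W} {a : W} {h : f a = 0} {w : W} (hw : f w = 0) : tv f a h w = w := by
  rw [tv_apply, hw, zero_smul, add_zero]

theorem tv_move {f : Module.Dual (ZMod 2) W} {a : W} {h : f a = 0} {w : W} (hw : f w = 1) :
    tv f a h w = w + a := by rw [tv_apply, hw, one_smul]

theorem tv_mul_self (f : Module.Dual (ZMod 2) W) (a : W) (h : f a = 0) : tv f a h * tv f a h = 1 := by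
  refine LinearEquiv.ext fun w => ?_
  rw [LinearEquiv.mul_apply, tv_apply f a h w, map_add, map_smul, tv_fix h, tv_apply, add_assoc, add_self, add_zero]
  rfl

theorem tv_inv (f : Module.Dual (ZMod 2) W) (a : W) (h : f a = 0) : (tv f a h)⁻¹ = tv f a h :=
  inv_eq_of_mul_eq_one_right (tv_mul_self f a h)

/-- Commutator formula. -/
theorem tv_comm {f g : Module.Dual (ZMod 2) W} {b c : W} (hgc : g c = 0) (hfb : f b = 0) (hfc : f c = 0)
    (hgb : g b = 1) : ⁅tv g c hgc, tv f b hfb⁆ = tv f c hfc := by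
  rw [commutatorElement_def, tv_inv, tv_inv]
  refine LinearEquiv.ext fun w => ?_
  have key : ∀ x y : W, x + (x + y) = y := fun x y => by rw [← add_assoc, add_self, zero_add]
  rcases two_cases (f w) with e1 | e1 <;> rcases two_cases (g w) with e2 | e2 <;>
    simp [LinearEquiv.mul_apply, tv_apply, map_add, hgc, hfb, hfc, hgb, e1, e2, add_self, key, add_comm, add_left_comm]

/-- Conjugates of transvections. -/
theorem tv_conj (g : W ≃ₗ[ZMod 2] W) (f : Module.Dual (ZMod 2) W) (a : W) (h : f a = 0) :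
    g * tv f a h * g⁻¹ = tv (f.comp ((g⁻¹ : W ≃ₗ[ZMod 2] W) : W →ₗ[ZMod 2] W)) (g a)
      (show f ((g⁻¹ : W ≃ₗ[ZMod 2] W) (g a)) = 0 by rw [← LinearEquiv.mul_apply, inv_mul_cancel]; exact h) := by
  refine LinearEquiv.ext fun w => ?_
  rw [LinearEquiv.mul_apply, LinearEquiv.mul_apply, tv_apply, map_add, map_smul, tv_apply, ← LinearEquiv.mul_apply,
    mul_inv_cancel]
  rfl

/-- Transvections with a common axis multiply by adding centres. -/
theorem tv_mul (f : Module.Dual (ZMod 2) W) (a b : W) (ha : f a = 0) (hb : f b = 0) :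
    tv f a ha * tv f b hb = tv f (a + b) (by rw [map_add, ha, hb, add_zero]) := by
  refine LinearEquiv.ext fun w => ?_
  rw [LinearEquiv.mul_apply, tv_apply f b, map_add, map_smul, tv_fix hb, tv_apply, tv_apply, smul_add]
  abel

/-- Transvections with a common centre multiply by adding functionals. -/
theorem tv_mul' (f g : Module.Dual (ZMod 2) W) (a : W) (hf : f a = 0) (hg : g a = 0) :
    tv f a hf * tv g a hg = tv (f + g) a (by rw [LinearMap.add_apply, hf, hg, add_zero]) := by
  refine LinearEquiv.ext fun w => ?_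
  rw [LinearEquiv.mul_apply, tv_apply g a, map_add, map_smul, tv_fix hf, tv_apply, tv_apply, LinearMap.add_apply,
    add_smul]
  abel

variable [Finite W]

/-- A functional vanishing on a subspace and equal to one at a vector outside. -/
theorem exists_dual (U : Submodule (ZMod 2) W) {x : W} (hx : x ∉ U) :
    ∃ f : Module.Dual (ZMod 2) W, (∀ u ∈ U, f u = 0) ∧ f x = 1 := by
  obtain ⟨f, hfx, hfU⟩ := Submodule.exists_dual_map_eq_bot_of_notMem hx inferInstance
  refine ⟨f, fun u hu => ?_, eq_one_of_ne hfx⟩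
  have h1 : f u ∈ U.map f := ⟨u, hu, rfl⟩
  rwa [hfU, Submodule.mem_bot] at h1

theorem exists_notMem_of_finrank_lt {U X : Submodule (ZMod 2) W}
    (h : Module.finrank (ZMod 2) U < Module.finrank (ZMod 2) X) : ∃ x ∈ X, x ∉ U := by
  by_contra hc
  push Not at hc
  have := Submodule.finrank_mono (s := X) (t := U) hc
  omega

theorem finrank_span_pair_le (a b : W) : Module.finrank (ZMod 2) (Submodule.span (ZMod 2) ({a, b} : Set W)) ≤ 2 := by
  classical
  have h := finrank_span_finset_le_card (R := ZMod 2) ({a, b} : Finset W)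
  simp only [Finset.coe_insert, Finset.coe_singleton] at h
  exact h.trans Finset.card_le_two

theorem finrank_ker_ge (f : Module.Dual (ZMod 2) W) :
    Module.finrank (ZMod 2) W - 1 ≤ Module.finrank (ZMod 2) (LinearMap.ker f) := by
  have h1 := LinearMap.finrank_range_add_finrank_ker f
  have h2 := Submodule.finrank_le (LinearMap.range f)
  rw [Module.finrank_self] at h2
  omega

/-- Elements outside `U` are moved onto each other by a transvection fixing `U`. -/
theorem exists_tv_move (U : Submodule (ZMod 2) W) {v w : W} (hv : v ∉ U) (hw : w ∉ U) (hne : v ≠ w) :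
    ∃ (f : Module.Dual (ZMod 2) W) (a : W) (h : f a = 0), (∀ u ∈ U, f u = 0) ∧ tv f a h w = v := by
  have hnm : w ∉ U ⊔ Submodule.span (ZMod 2) {v + w} := fun hm => by
    obtain ⟨u, hu, z, hz, e⟩ := Submodule.mem_sup.mp hm
    obtain ⟨c, rfl⟩ := Submodule.mem_span_singleton.mp hz
    rcases two_cases c with rfl | rfl
    · rw [zero_smul, add_zero] at e
      exact hw (e ▸ hu)
    · rw [one_smul, ← add_assoc] at e
      have e2 : u + v = 0 := by
        have h3 := congrArg (· + w) e
        rwa [add_assoc (u + v), add_self, add_zero] at h3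
      exact hv ((eq_of_add_eq_zero e2) ▸ hu)
  obtain ⟨f, hf, hfw⟩ := exists_dual _ hnm
  refine ⟨f, v + w, hf _ (Submodule.mem_sup_right (Submodule.mem_span_singleton_self _)),
    fun u hu => hf u (Submodule.mem_sup_left hu), ?_⟩
  rw [tv_move hfw, add_comm v w, ← add_assoc, add_self, zero_add]

/-- Transvections fixing `U` generate the pointwise stabiliser of `U`. -/
theorem mem_of_fix (K : Subgroup (W ≃ₗ[ZMod 2] W)) (U : Submodule (ZMod 2) W)
    (hK : ∀ (f : Module.Dual (ZMod 2) W) (a : W) (h : f a = 0), (∀ u ∈ U, f u = 0) → tv f a h ∈ K)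
    (g : W ≃ₗ[ZMod 2] W) (hg : ∀ u ∈ U, g u = u) : g ∈ K := by
  induction hn : (Module.finrank (ZMod 2) W - Module.finrank (ZMod 2) U) using Nat.strong_induction_on
    generalizing U g with
  | _ n ih =>
  subst hn
  by_cases htop : ∀ v, v ∈ U
  · rw [show g = 1 from LinearEquiv.ext fun v => hg v (htop v)]
    exact one_mem K
  push Not at htop
  obtain ⟨v, hv⟩ := htop
  set U' := U ⊔ Submodule.span (ZMod 2) {v} with hU'
  have hlt : Module.finrank (ZMod 2) U < Module.finrank (ZMod 2) U' :=
    Submodule.finrank_lt_finrank_of_lt (lt_of_le_of_ne le_sup_left fun e =>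
      hv (e.ge (Submodule.mem_sup_right (Submodule.mem_span_singleton_self v))))
  have hle := Submodule.finrank_le U'
  have hK' : ∀ (f : Module.Dual (ZMod 2) W) (a : W) (h : f a = 0), (∀ u ∈ U', f u = 0) → tv f a h ∈ K :=
    fun f a h hf => hK f a h fun u hu => hf u (Submodule.mem_sup_left hu)
  have hfin : ∀ g' : W ≃ₗ[ZMod 2] W, (∀ u ∈ U, g' u = u) → g' v = v → g' ∈ K := fun g' h1 h2 => by
    refine ih _ (by omega) U' hK' g' (fun u hu => ?_) rfl
    obtain ⟨u1, hu1, z, hz, rfl⟩ := Submodule.mem_sup.mp hu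
    obtain ⟨c, rfl⟩ := Submodule.mem_span_singleton.mp hz
    rw [map_add, map_smul, h1 u1 hu1, h2]
  by_cases hgv : g v = v
  · exact hfin g hg hgv
  have hgU : g v ∉ U := fun hm => hv (by
    have h1 : g (g v) = g v := hg _ hm
    exact g.injective h1 ▸ hm)
  obtain ⟨f, a, h, hfU, hmove⟩ := exists_tv_move U hv hgU (Ne.symm hgv)
  have h2 : tv f a h * g ∈ K := by
    refine hfin _ (fun u hu => ?_) ?_
    · rw [LinearEquiv.mul_apply, hg u hu, tv_fix (hfU u hu)]
    · rw [LinearEquiv.mul_apply, hmove]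
  have h3 := mul_mem (inv_mem (hK f a h hfU)) h2
  rwa [inv_mul_cancel_left] at h3

/-- A transvection fixing a small subspace is a commutator of two such transvections. -/
theorem tv_commutator (U : Submodule (ZMod 2) W) (f : Module.Dual (ZMod 2) W) (c : W) (h : f c = 0)
    (hfU : ∀ u ∈ U, f u = 0)
    (hdim : Module.finrank (ZMod 2) U + 2 < Module.finrank (ZMod 2) W) :
    ∃ (g : Module.Dual (ZMod 2) W) (hg : g c = 0) (b : W) (hb : f b = 0), (∀ u ∈ U, g u = 0) ∧
      tv f c h = ⁅tv g c hg, tv f b hb⁆ := by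
  set U' := U ⊔ Submodule.span (ZMod 2) {c}
  have h1 : Module.finrank (ZMod 2) U' ≤ Module.finrank (ZMod 2) U + 1 := by
    refine (Submodule.finrank_add_le_finrank_add_finrank _ _).trans (Nat.add_le_add_left ?_ _)
    classical
    have h := finrank_span_finset_le_card (R := ZMod 2) ({c} : Finset W)
    rw [Finset.coe_singleton] at h; exact h.trans (Finset.card_singleton c).le
  have h2 := finrank_ker_ge f
  obtain ⟨b, hb, hbU⟩ := exists_notMem_of_finrank_lt (U := U') (X := LinearMap.ker f) (by omega)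
  obtain ⟨g, hg, hgb⟩ := exists_dual U' hbU
  exact ⟨g, hg c (Submodule.mem_sup_right (Submodule.mem_span_singleton_self c)), b, LinearMap.mem_ker.mp hb,
    fun u hu => hg u (Submodule.mem_sup_left hu), (tv_comm _ _ h hgb).symm⟩

/-- `GL(W)` is perfect in dimension at least three. -/
theorem perfect (h3 : 3 ≤ Module.finrank (ZMod 2) W) (g : W ≃ₗ[ZMod 2] W) :
    g ∈ commutator (W ≃ₗ[ZMod 2] W) := by
  refine mem_of_fix _ ⊥ (fun f a h hf => ?_) g (fun u hu => by
    rw [(Submodule.mem_bot (ZMod 2)).mp hu, map_zero])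
  obtain ⟨g', hg', b, hb, -, e⟩ := tv_commutator ⊥ f a h hf (by rw [finrank_bot]; omega)
  rw [e, commutator_def]
  exact Subgroup.commutator_mem_commutator trivial trivial

/-- Transitivity on non-zero vectors. -/
theorem exists_map {v w : W} (hv : v ≠ 0) (hw : w ≠ 0) : ∃ g : W ≃ₗ[ZMod 2] W, g w = v := by
  by_cases h : v = w
  · exact ⟨1, h.symm⟩
  obtain ⟨f, a, ha, -, e⟩ := exists_tv_move (⊥ : Submodule (ZMod 2) W) (by simpa using hv) (by simpa using hw) h
  exact ⟨_, e⟩

/-- The fixed vectors of the transvections fixing a subspace lie in it. -/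
theorem mem_of_fixed (U : Submodule (ZMod 2) W) {a z : W} (ha : a ∈ U) (ha0 : a ≠ 0)
    (hz : ∀ (f : Module.Dual (ZMod 2) W) (h : f a = 0), (∀ u ∈ U, f u = 0) → tv f a h z = z) : z ∈ U := by
  by_contra hn
  obtain ⟨f, hf, hfz⟩ := exists_dual U hn
  have h1 := hz f (hf a ha) hf
  rw [tv_move hfz] at h1
  exact ha0 (add_eq_left.mp h1)

omit [Finite W] in
theorem mem_pair {a b x : W} : x ∈ Submodule.span (ZMod 2) ({a, b} : Set W) ↔
    x = 0 ∨ x = a ∨ x = b ∨ x = a + b := by
  rw [Submodule.mem_span_pair]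
  constructor
  · rintro ⟨c, d, rfl⟩
    rcases two_cases c with rfl | rfl <;> rcases two_cases d with rfl | rfl <;> simp
  · rintro (rfl | rfl | rfl | rfl)
    · exact ⟨0, 0, by simp⟩
    · exact ⟨1, 0, by simp⟩
    · exact ⟨0, 1, by simp⟩
    · exact ⟨1, 1, by simp⟩

end CfsgLib.Pyramidal
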